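import Cfsg.Agent.Lib.CubicBlock.Sign

/-!
`b` centralizing the centre of the self-centralizing `2`-subgroup: `F` has at most `81` vectors.
-/

set_option autoImplicit false
set_option linter.unusedSectionVars false

namespace CfsgLib.CubicBlock

variable {S E : Type*} [Group S] [Finite S] [AddCommGroup E] [Module (ZMod 3) E] [Finite E]
  {ρ : Representation (ZMod 3) S E} {b q₁ q₂ : S} {R : Subgroup S} {F : Submodule (ZMod 3) E}

namespace Setting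

/-- `y = x⁻¹ x^b`, an involution, gives a four group with its image. -/
theorem fourData_of (h : Setting ρ b q₁ q₂ R F) {x y : S} (hx : x ∈ R) (hy : y = x⁻¹ * (b * x * b⁻¹))
    (hy2 : y * y = 1) (hy1 : y ≠ 1) :
    FourData ρ b y (b * y * b⁻¹) ∧ y ∈ R ∧ b * y * b⁻¹ ∈ R ∧ ∃ v, ρ y v ≠ v := by
  have hb3 : b * b * b = 1 := by rw [← h.four.cube, pow_succ, pow_two]
  have hyR : y ∈ R := hy ▸ mul_mem (inv_mem hx) (h.norm x hx)
  have hprod : y * (b * y * b⁻¹) * (b * (b * y * b⁻¹) * b⁻¹) = 1 := by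
    rw [hy]
    calc _ = x⁻¹ * ((b * b * b) * x * (b * b * b)⁻¹) := by group
      _ = 1 := by rw [hb3]; group
  have hy' : (b * y * b⁻¹) * (b * y * b⁻¹) = 1 := by
    calc b * y * b⁻¹ * (b * y * b⁻¹) = b * (y * y) * b⁻¹ := by group
      _ = 1 := by rw [hy2]; group
  have hy'' : (b * (b * y * b⁻¹) * b⁻¹) * (b * (b * y * b⁻¹) * b⁻¹) = 1 := by
    calc b * (b * y * b⁻¹) * b⁻¹ * (b * (b * y * b⁻¹) * b⁻¹) = b * (b * (y * y) * b⁻¹) * b⁻¹ := by group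
      _ = 1 := by rw [hy2]; group
  have he : b * (b * y * b⁻¹) * b⁻¹ = y * (b * y * b⁻¹) := by
    rw [← inv_inj, inv_eq_of_mul_eq_one_right hy'']
    exact eq_inv_of_mul_eq_one_right hprod
  have hcomm : y * (b * y * b⁻¹) = b * y * b⁻¹ * y := by
    have h2 : (y * (b * y * b⁻¹)) * (y * (b * y * b⁻¹)) = 1 := by rw [← he]; exact hy''
    calc y * (b * y * b⁻¹) = (y * (b * y * b⁻¹))⁻¹ := (inv_eq_of_mul_eq_one_right h2).symm
      _ = b * y * b⁻¹ * y := by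
        rw [mul_inv_rev, inv_eq_of_mul_eq_one_right hy', inv_eq_of_mul_eq_one_right hy2]
  refine ⟨⟨hy2, hy', hcomm, rfl, he, h.four.cube⟩, hyR, h.norm y hyR, ?_⟩
  by_contra hcon
  push Not at hcon
  exact hy1 (h.eq_one_on hyR fun v _ => hcon v)

/-- An element fixed by `b` of the form `x⁻¹ x^b` in a `2`-group is trivial. -/
theorem eq_one_of_fixed (h : Setting ρ b q₁ q₂ R F) {U : Subgroup S} (hU : IsPGroup 2 U) {x y : S}
    (hy : y = x⁻¹ * (b * x * b⁻¹)) (hyU : y ∈ U) (hby : b * y = y * b) : y = 1 := by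
  have hb3 : b * b * b = 1 := by rw [← h.four.cube, pow_succ, pow_two]
  have e : ∀ t, b * t * b⁻¹ = t → b⁻¹ * t * b = t := fun t ht => by nth_rw 1 [← ht]; group
  have hy3 : y ^ 3 = 1 := by
    have e1 : b * y * b⁻¹ = y := by rw [hby, mul_inv_cancel_right]
    calc y ^ 3 = y * (b * y * b⁻¹) * (b * (b * y * b⁻¹) * b⁻¹) := by rw [e1, e1, pow_succ, pow_two]
      _ = x⁻¹ * ((b * b * b) * x * (b * b * b)⁻¹) := by rw [hy]; group
      _ = 1 := by rw [hb3]; group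
  obtain ⟨k, hk⟩ := hU ⟨y, hyU⟩
  have hk' : y ^ 2 ^ k = 1 := congrArg Subtype.val hk
  have hg : Nat.Coprime 3 (2 ^ k) := Nat.Coprime.pow_right k (by norm_num)
  exact orderOf_eq_one_iff.1 (Nat.eq_one_of_dvd_coprimes hg (orderOf_dvd_of_pow_eq_one hy3)
    (orderOf_dvd_of_pow_eq_one hk'))

/-- A fixed-point-free commutator bounds `F`. -/
theorem card_le_of_fpf (h : Setting ρ b q₁ q₂ R F) {x y : S} (hx : x ∈ R) (hy : y = x⁻¹ * (b * x * b⁻¹))
    (hfix : ∀ v ∈ F, ρ y v = v → v = 0) : Nat.card F ≤ 81 := by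
  have hyR : y ∈ R := hy ▸ mul_mem (inv_mem hx) (h.norm x hx)
  let T : F → F := fun v => ⟨ρ y v - v, sub_mem (h.invR y hyR v v.2) v.2⟩
  have hT : Function.Surjective T := Finite.surjective_of_injective fun u v huv => by
    have e : ρ y u - u = ρ y v - v := congrArg Subtype.val huv
    have := hfix (u.1 - v.1) (sub_mem u.2 v.2) (by
      rw [map_sub]
      calc ρ y u - ρ y v = (ρ y u - u) - (ρ y v - v) + (u.1 - v.1) := by abel
        _ = _ := by rw [e]; abel)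
    exact Subtype.ext (sub_eq_zero.1 this)
  let Im := Set.range fun v : E => ρ b v - v
  let G : Im × Im → E := fun p => ρ x⁻¹ p.1.1 - p.2.1
  have hsub : ∀ v : F, ∃ p, G p = (T v : E) := fun v => by
    refine ⟨(⟨_, ρ x (ρ b⁻¹ v), rfl⟩, ⟨_, ρ b⁻¹ v, rfl⟩), ?_⟩
    show ρ x⁻¹ (ρ b (ρ x (ρ b⁻¹ v)) - ρ x (ρ b⁻¹ v)) - (ρ b (ρ b⁻¹ v) - ρ b⁻¹ v) = ρ y v - v
    rw [hy, rho_mul, rho_mul, rho_mul, map_sub, rho_inv_apply, rho_apply_inv]
    abel
  choose p hp using hsub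
  let f : F → Im × Im := fun u => p (Function.surjInv hT u)
  have hf : Function.Injective f := fun u v huv => by
    have h1 := hp (Function.surjInv hT u)
    have h2 := hp (Function.surjInv hT v)
    rw [Function.surjInv_eq hT] at h1 h2
    exact Subtype.ext (h1.symm.trans ((congrArg G huv).trans h2))
  refine (Nat.card_le_card_of_injective f hf).trans ?_
  rw [Nat.card_prod]
  exact le_trans (Nat.mul_le_mul h.rank h.rank) (by norm_num)

/-- The centre of `U` is fixed by `b`: then `F` is small. -/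
theorem card_le_of_central (h : Setting ρ b q₁ q₂ R F) (U : Subgroup S) (hUR : U ≤ R) (hU2 : IsPGroup 2 U)
    (hUn : ∀ r ∈ R, ∀ x ∈ U, r⁻¹ * x * r ∈ U) (hUb : ∀ x ∈ U, b⁻¹ * x * b ∈ U)
    (hCU : ∀ r ∈ R, (∀ x ∈ U, r * x = x * r) → r ∈ U)
    (hZb : ∀ x ∈ U, (∀ u ∈ U, x * u = u * x) → b * x = x * b) : Nat.card F ≤ 81 := by
  classical
  -- the centre of `U`
  have hZn : ∀ x, x ∈ U ∧ (∀ u ∈ U, x * u = u * x) → ∀ r ∈ R,
      r⁻¹ * x * r ∈ U ∧ ∀ u ∈ U, r⁻¹ * x * r * u = u * (r⁻¹ * x * r) := by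
    rintro x ⟨hx, hxc⟩ r hr
    refine ⟨hUn r hr x hx, fun u hu => ?_⟩
    have h1 := hxc _ (hUn r⁻¹ (inv_mem hr) u hu)
    rw [inv_inv] at h1
    calc r⁻¹ * x * r * u = r⁻¹ * (x * (r * u * r⁻¹)) * r := by group
      _ = r⁻¹ * (r * u * r⁻¹ * x) * r := by rw [h1]
      _ = _ := by group
  have hZR : ∀ x, x ∈ U ∧ (∀ u ∈ U, x * u = u * x) → ∀ r ∈ R, r * x = x * r := fun x hx r hr =>
    h.commute_of_fixed {x | x ∈ U ∧ ∀ u ∈ U, x * u = u * x} (fun t ht s hs => hZn t ht s hs)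
      (fun t ht => hZb t ht.1 ht.2) r hr x hx
  have hZpm : ∀ x ∈ U, (∀ u ∈ U, x * u = u * x) → x = 1 ∨ ∀ v ∈ F, ρ x v = -v := fun x hx hxc =>
    h.central_pm (hUR hx) (hZb x hx hxc).symm fun r hr => (hZR x ⟨hx, hxc⟩ r hr).symm
  have hZsq : ∀ x ∈ U, (∀ u ∈ U, x * u = u * x) → x * x = 1 := fun x hx hxc => by
    rcases hZpm x hx hxc with rfl | hneg
    · simp
    · exact (h.neg_central (hUR hx) hneg).1
  -- an element of the second centre moved by `b`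
  let Z : Subgroup U := Subgroup.center U
  have hnotall : ¬ ∀ x ∈ U, ∀ u ∈ U, x * u = u * x := by
    intro hab
    have hRU : R ≤ U := fun r hr => hCU r hr fun x hx =>
      hZR x ⟨hx, hab x hx⟩ r hr
    refine h.ne1 (Subgroup.mem_bot.1 (h.gen ⊥ (fun r hr => ?_) h.mem1))
    rw [Subgroup.mem_bot]
    have e : b * r⁻¹ = r⁻¹ * b :=
      (hZb r⁻¹ (hRU (inv_mem hr)) (hab _ (hRU (inv_mem hr))))
    calc r * b * r⁻¹ * b⁻¹ = r * (b * r⁻¹) * b⁻¹ := by group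
      _ = 1 := by rw [e]; group
  have hnt : Nontrivial (U ⧸ Z) := QuotientGroup.nontrivial_iff.2 fun htop => hnotall fun x hx u hu => by
    have : (⟨x, hx⟩ : U) ∈ Z := htop ▸ Subgroup.mem_top _
    exact (congrArg Subtype.val (Subgroup.mem_center_iff.1 this ⟨u, hu⟩)).symm
  have := (hU2.to_quotient Z).center_nontrivial
  obtain ⟨⟨xq, hxq⟩, hxq1⟩ := exists_ne (1 : Subgroup.center (U ⧸ Z))
  obtain ⟨x₀, rfl⟩ := QuotientGroup.mk_surjective xq
  let T : Subgroup S :=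
    { carrier := {x | x ∈ U ∧ ∀ u ∈ U, ∀ u' ∈ U, (x * u * x⁻¹ * u⁻¹) * u' = u' * (x * u * x⁻¹ * u⁻¹)}
      mul_mem' := fun {x y} hx hy => ⟨mul_mem hx.1 hy.1, fun u hu u' hu' => by
        have h1 := hy.2 u hu x hx.1
        have h2 := hy.2 u hu
        have h3 := hx.2 u hu
        have e : x * y * u * (x * y)⁻¹ * u⁻¹ = (y * u * y⁻¹ * u⁻¹) * (x * u * x⁻¹ * u⁻¹) := by
          calc x * y * u * (x * y)⁻¹ * u⁻¹ = (x * (y * u * y⁻¹ * u⁻¹)) * (u * x⁻¹ * u⁻¹) := by group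
            _ = ((y * u * y⁻¹ * u⁻¹) * x) * (u * x⁻¹ * u⁻¹) := by rw [h1]
            _ = _ := by group
        rw [e]
        exact (Commute.mul_left (h2 u' hu') (h3 u' hu')).eq⟩
      one_mem' := ⟨one_mem _, fun u _ u' _ => by simp⟩
      inv_mem' := fun {x} hx => ⟨inv_mem hx.1, fun u hu u' hu' => by
        have h1 := hx.2 (x⁻¹ * u * x) (mul_mem (mul_mem (inv_mem hx.1) hu) hx.1)
        have e : x⁻¹ * u * x⁻¹⁻¹ * u⁻¹ = (x * (x⁻¹ * u * x) * x⁻¹ * (x⁻¹ * u * x)⁻¹)⁻¹ := by group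
        rw [e]
        exact (Commute.inv_left (h1 u' hu')).eq⟩ }
  have hx₀T : (x₀ : S) ∈ T := ⟨x₀.2, fun u hu u' hu' => by
    have hc := Subgroup.mem_center_iff.1 hxq (QuotientGroup.mk ⟨u, hu⟩)
    have hz : x₀ * ⟨u, hu⟩ * x₀⁻¹ * (⟨u, hu⟩ : U)⁻¹ ∈ Z := by
      rw [← QuotientGroup.eq_one_iff]
      simp only [QuotientGroup.mk_mul, QuotientGroup.mk_inv]
      rw [← hc]; group
    exact (congrArg Subtype.val (Subgroup.mem_center_iff.1 hz ⟨u', hu'⟩)).symm⟩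
  have hTn : ∀ t ∈ (T : Set S), ∀ r ∈ R, r⁻¹ * t * r ∈ (T : Set S) := by
    rintro t ⟨ht, htc⟩ r hr
    refine ⟨hUn r hr t ht, fun u hu u' hu' => ?_⟩
    have hri := hUn r⁻¹ (inv_mem hr)
    simp only [inv_inv] at hri
    have h1 := htc _ (hri u hu) _ (hri u' hu')
    calc r⁻¹ * t * r * u * (r⁻¹ * t * r)⁻¹ * u⁻¹ * u'
        = r⁻¹ * (t * (r * u * r⁻¹) * t⁻¹ * (r * u * r⁻¹)⁻¹ * (r * u' * r⁻¹)) * r := by group
      _ = r⁻¹ * (r * u' * r⁻¹ * (t * (r * u * r⁻¹) * t⁻¹ * (r * u * r⁻¹)⁻¹)) * r := by rw [h1]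
      _ = _ := by group
  obtain ⟨x, hxT, hxb⟩ : ∃ x ∈ T, b * x ≠ x * b := by
    by_contra hcon
    push Not at hcon
    refine hxq1 (Subtype.ext ?_)
    show (QuotientGroup.mk x₀ : U ⧸ Z) = 1
    rw [QuotientGroup.eq_one_iff]
    refine Subgroup.mem_center_iff.2 fun u => Subtype.ext ?_
    exact h.commute_of_fixed (T : Set S) hTn hcon u (hUR u.2) x₀ hx₀T
  have hbT : b * x * b⁻¹ ∈ T := by
    obtain ⟨hxU, hxc⟩ := hxT
    have hb' : ∀ u ∈ U, b * u * b⁻¹ ∈ U := fun u hu => by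
      have hbi : b * b = b⁻¹ := eq_inv_of_mul_eq_one_left (by rw [← h.four.cube, pow_succ, pow_two])
      have := hUb _ (hUb u hu)
      rw [show b⁻¹ * (b⁻¹ * u * b) * b = (b * b)⁻¹ * u * (b * b) by group, hbi, inv_inv] at this
      exact this
    refine ⟨hb' x hxU, fun u hu u' hu' => ?_⟩
    have h1 := hxc _ (hUb u hu) _ (hUb u' hu')
    calc b * x * b⁻¹ * u * (b * x * b⁻¹)⁻¹ * u⁻¹ * u'
        = b * (x * (b⁻¹ * u * b) * x⁻¹ * (b⁻¹ * u * b)⁻¹ * (b⁻¹ * u' * b)) * b⁻¹ := by group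
      _ = b * (b⁻¹ * u' * b * (x * (b⁻¹ * u * b) * x⁻¹ * (b⁻¹ * u * b)⁻¹)) * b⁻¹ := by rw [h1]
      _ = _ := by group
  obtain ⟨y, hy⟩ : ∃ y, y = x⁻¹ * (b * x * b⁻¹) := ⟨_, rfl⟩
  have hyT : y ∈ T := hy ▸ mul_mem (inv_mem hxT) hbT
  obtain ⟨hyU, hyc⟩ := hyT
  have hy1 : y ≠ 1 := fun e => hxb (by
    rw [e, eq_comm, inv_mul_eq_one] at hy
    nth_rw 2 [hy]; group)
  have hynz : ¬ ∀ u ∈ U, y * u = u * y := fun hc =>
    hy1 (h.eq_one_of_fixed hU2 hy hyU (hZb y hyU hc))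
  push Not at hynz
  obtain ⟨u, hu, hyu⟩ := hynz
  have hy2c : ∀ u ∈ U, y * y * u = u * (y * y) := fun u hu => by
    have hcu := hyc u hu
    have hm : y * u * y⁻¹ * u⁻¹ ∈ U := mul_mem (mul_mem (mul_mem hyU hu) (inv_mem hyU)) (inv_mem hu)
    have hsq := hZsq _ hm hcu
    have e : y * y * u * (y * y)⁻¹ * u⁻¹ = 1 := by
      calc y * y * u * (y * y)⁻¹ * u⁻¹ = y * (y * u * y⁻¹ * u⁻¹) * y⁻¹ * (y * u * y⁻¹ * u⁻¹) := by group
        _ = (y * u * y⁻¹ * u⁻¹) * y * y⁻¹ * (y * u * y⁻¹ * u⁻¹) := by rw [hcu y hyU]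
        _ = _ := by rw [mul_inv_cancel_right]; exact hsq
    rwa [mul_inv_eq_one, mul_inv_eq_iff_eq_mul] at e
  rcases hZpm _ (mul_mem hyU hyU) hy2c with hy2 | hy2
  swap
  · -- `y² = -1`
    refine h.card_le_of_fpf (hUR hxT.1) hy fun v hv hyv => ?_
    have h2 := hy2 v hv
    rw [rho_mul, hyv, hyv] at h2
    exact eq_zero_of_eq_neg h2
  · -- `y` is an involution conjugate to `-y`
    obtain ⟨hfour, hyR, hy'R, hne⟩ := h.fourData_of (hUR hxT.1) hy hy2 hy1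
    obtain ⟨w, hw0, hw, huniq, -, hco⟩ := hfour.coords h.rank hne
    have hm : y * u * y⁻¹ * u⁻¹ ∈ U := mul_mem (mul_mem (mul_mem hyU hu) (inv_mem hyU)) (inv_mem hu)
    have hneg : ∀ v ∈ F, ρ (y * u * y⁻¹ * u⁻¹) v = -v := (hZpm _ hm (hyc u hu)).resolve_left fun e => hyu (by
      rwa [mul_inv_eq_one, mul_inv_eq_iff_eq_mul] at e)
    have hrel : ∀ v ∈ F, ρ y (ρ u v) = -ρ u (ρ y v) := fun v hv => by
      rw [← rho_mul, ← rho_mul, show y * u = (y * u * y⁻¹ * u⁻¹) * (u * y) by group,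
        rho_mul ρ _ (u * y), hneg _ (h.invR _ (mul_mem (hUR hu) hyR) v hv)]
    have hle : Nat.card ↥(F ⊓ fixSpace ρ y) ≤ Nat.card ↥(F ⊓ negSpace ρ y) := by
      refine Nat.card_le_card_of_injective (fun v => ⟨ρ u v.1, h.invR u (hUR hu) v.1 v.2.1, ?_⟩) fun v v' hvv => ?_
      · rw [SetLike.mem_coe, mem_negSpace, hrel _ v.2.1, mem_fixSpace.1 v.2.2]
      · have := congrArg (fun t : ↥(F ⊓ negSpace ρ y) => ρ u⁻¹ t.1) hvv
        simp only [rho_inv_apply] at this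
        exact Subtype.ext this
    have hneg9 : Nat.card ↥(F ⊓ negSpace ρ y) ≤ 9 := by
      have hbw := hfour.bw hw
      have hbbw := hfour.bbw hw
      have hrep : ∀ v : ↥(F ⊓ negSpace ρ y), ∃ p : ZMod 3 × ZMod 3,
          (v : E) = p.1 • ρ b w + p.2 • ρ b (ρ b w) := fun v => by
        obtain ⟨c, hc, a₁, a₂, a₃, he⟩ := hco v
        have h1 := mem_negSpace.1 v.2.2
        rw [he] at h1
        simp only [map_add, map_smul, hc.1, hw.1, hbw.1, hbbw.1, smul_neg] at h1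
        refine ⟨(a₂, a₃), ?_⟩
        have : c + a₁ • w = 0 := eq_zero_of_eq_neg (by
          calc c + a₁ • w = (c + a₁ • w + -(a₂ • ρ b w) + -(a₃ • ρ b (ρ b w))) + a₂ • ρ b w + a₃ • ρ b (ρ b w) := by abel
            _ = _ := by rw [h1]; abel)
        rw [he, this, zero_add]
      choose p hp using hrep
      refine (Nat.card_le_card_of_injective p fun v v' hvv => Subtype.ext (by rw [hp v, hp v', hvv])).trans ?_
      rw [Nat.card_prod, Nat.card_zmod]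
    rw [← card_eigen hfour.sq₁ F fun v hv => h.invR y hyR v hv]
    exact le_trans (Nat.mul_le_mul (hle.trans hneg9) hneg9) (by norm_num)

end Setting

end CfsgLib.CubicBlock
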