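import Cfsg.Agent.Lib.CubicBlock.Shape
import Cfsg.Agent.Lib.PGroup.Basic

/-!
The two possible shapes of `R`.
-/

set_option autoImplicit false
set_option linter.unusedSectionVars false

open scoped commutatorElement

namespace CfsgLib.CubicBlock

open Cfsg

variable {S E : Type*} [Group S] [Finite S] [AddCommGroup E] [Module (ZMod 3) E] [Finite E]
  {ρ : Representation (ZMod 3) S E} {b q₁ q₂ : S} {R : Subgroup S} {F : Submodule (ZMod 3) E}

namespace Setting

variable [Group.IsSolvable S]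

theorem card_bigA (h : Setting ρ b q₁ q₂ R F) : Nat.card (bigA q₁ q₂ R) = 4 * Nat.card (fixed b R) := by
  obtain ⟨hq1, hq2, hq3⟩ := h.q_mem_bigA
  obtain ⟨n1, n2, n3⟩ := h.q_notMem
  have hA : ∀ a ∈ fixed b R, a ∈ bigA q₁ q₂ R := fun a ha => h.fixed_le_bigA ha
  let Q : Fin 4 → S := ![1, q₁, q₂, q₁ * q₂]
  have hQA : ∀ i, Q i ∈ bigA q₁ q₂ R := fun i => by fin_cases i; exacts [one_mem _, hq1, hq2, hq3]
  let f : Fin 4 × fixed b R → bigA q₁ q₂ R := fun p => ⟨p.2 * Q p.1, mul_mem (hA _ p.2.2) (hQA _)⟩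
  have hf : Function.Bijective f := by
    constructor
    · rintro ⟨i, c, hc⟩ ⟨j, d, hd⟩ he
      have he' : c * Q i = d * Q j := congrArg Subtype.val he
      have hm : Q i * (Q j)⁻¹ ∈ fixed b R := by
        rw [show Q i * (Q j)⁻¹ = c⁻¹ * d by rw [mul_inv_eq_iff_eq_mul, mul_assoc, ← he', inv_mul_cancel_left]]
        exact mul_mem (inv_mem hc) hd
      have hij : i = j := by
        have hq1i : q₁⁻¹ = q₁ := inv_eq_of_mul_eq_one_right h.four.sq₁
        have hq2i : q₂⁻¹ = q₂ := inv_eq_of_mul_eq_one_right h.four.sq₂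
        have a1 : q₁ * (q₁ * q₂) = q₂ := by rw [← mul_assoc, h.four.sq₁, one_mul]
        have a2 : q₂ * (q₁ * q₂) = q₁ := by rw [← mul_assoc, ← h.four.comm, mul_assoc, h.four.sq₂, mul_one]
        have a3 : q₁ * q₂ * q₁ = q₂ := by rw [mul_assoc, ← h.four.comm, a1]
        have a4 : q₁ * q₂ * q₂ = q₁ := by rw [mul_assoc, h.four.sq₂, mul_one]
        fin_cases i <;> fin_cases j <;> first | rfl | exfalso
        all_goals simp only [Q, Matrix.cons_val_zero, Matrix.cons_val_one, Matrix.cons_val, Fin.zero_eta, Fin.mk_one,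
          Fin.reduceFinMk, inv_one, mul_one, one_mul, hq1i, hq2i, mul_inv_rev, ← h.four.comm] at hm
        all_goals try simp only [a1, a2, a3, a4] at hm
        all_goals first | exact n1 hm | exact n2 hm | exact n3 hm
      subst hij
      have := mul_right_cancel he'
      subst this
      rfl
    · rintro ⟨a, ha⟩
      obtain ⟨c, hc, hcase⟩ := h.bigA_cases ha
      rcases hcase with e | e | e | e
      · exact ⟨(0, ⟨c, hc⟩), Subtype.ext (by show c * 1 = a; rw [e, mul_one])⟩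
      · exact ⟨(1, ⟨c, hc⟩), Subtype.ext e.symm⟩
      · exact ⟨(2, ⟨c, hc⟩), Subtype.ext e.symm⟩
      · exact ⟨(3, ⟨c, hc⟩), Subtype.ext e.symm⟩
  rw [← Nat.card_eq_of_bijective f hf, Nat.card_prod, Nat.card_eq_fintype_card (α := Fin 4), Fintype.card_fin]

theorem bigA_elementary (h : Setting ρ b q₁ q₂ R F) : IsElementaryAbelian 2 (bigA q₁ q₂ R) := by
  have hc : ∀ a ∈ bigA q₁ q₂ R, ∀ c ∈ bigA q₁ q₂ R, a * c = c * a := by
    intro a ha c hc
    obtain ⟨-, hc1, hc2⟩ := mem_bigA.1 hc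
    obtain ⟨e, he, hcase⟩ := h.bigA_cases ha
    obtain ⟨heR, heb⟩ := mem_fixed.1 he
    have hec : Commute e c := (h.fixed_central heR heb).2 c (mem_bigA.1 hc).1
    rcases hcase with rfl | rfl | rfl | rfl
    · exact hec.eq
    · exact (hec.mul_left hc1).eq
    · exact (hec.mul_left hc2).eq
    · exact (hec.mul_left (Commute.mul_left hc1 hc2)).eq
  refine ⟨⟨⟨fun a c => Subtype.ext (hc a a.2 c c.2)⟩⟩, fun a ha => ?_⟩
  obtain ⟨hq1, hq2, hq3⟩ := h.q_mem_bigA
  have hsq : ∀ e q : S, q ∈ bigA q₁ q₂ R → e ∈ fixed b R → q * q = 1 → (e * q) ^ 2 = 1 := fun e q hq he hqq => by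
    obtain ⟨heR, heb⟩ := mem_fixed.1 he
    obtain ⟨he2, hez⟩ := h.fixed_central heR heb
    rw [pow_two, (Commute.mul_mul_mul_comm (show Commute q e from (hez q (mem_bigA.1 hq).1).symm) e q), he2, hqq,
      mul_one]
  obtain ⟨e, he, hcase⟩ := h.bigA_cases ha
  rcases hcase with rfl | rfl | rfl | rfl
  · simpa using hsq a 1 (one_mem _) he (one_mul 1)
  · exact hsq e _ hq1 he h.four.sq₁
  · exact hsq e _ hq2 he h.four.sq₂
  · refine hsq e _ hq3 he ?_
    calc q₁ * q₂ * (q₁ * q₂) = q₁ * (q₂ * q₁) * q₂ := by group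
      _ = q₁ * q₁ * (q₂ * q₂) := by rw [← h.four.comm]; group
      _ = 1 := by rw [h.four.sq₁, h.four.sq₂, one_mul]

/-- The normalizer of `A` in `R`. -/
def normA (q₁ q₂ : S) (R : Subgroup S) : Subgroup S :=
  R ⊓ Subgroup.normalizer (bigA q₁ q₂ R : Set S)

theorem mem_normA (h : Setting ρ b q₁ q₂ R F) {n : S} :
    n ∈ normA q₁ q₂ R ↔ n ∈ R ∧ ⁅n, q₁⁆ ∈ fixed b R ∧ ⁅n, q₂⁆ ∈ fixed b R := by
  refine ⟨fun hn => ⟨hn.1, h.norm_fixes hn.1 hn.2⟩, fun ⟨hn, h1, h2⟩ => ⟨hn, ?_⟩⟩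
  obtain ⟨hq1, hq2, hq3⟩ := h.q_mem_bigA
  have hA : ∀ a ∈ bigA q₁ q₂ R, n * a * n⁻¹ ∈ bigA q₁ q₂ R := by
    intro a ha
    obtain ⟨e, he, hcase⟩ := h.bigA_cases ha
    have k : ∀ q, q ∈ bigA q₁ q₂ R → ⁅n, q⁆ ∈ fixed b R → n * (e * q) * n⁻¹ ∈ bigA q₁ q₂ R := fun q hq hd => by
      obtain ⟨heR, heb⟩ := mem_fixed.1 he
      rw [show n * (e * q) * n⁻¹ = (n * e) * q * n⁻¹ by group, ← (h.fixed_central heR heb).2 n hn,
        show e * n * q * n⁻¹ = e * ⁅n, q⁆ * q by rw [commutatorElement_def]; group]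
      exact mul_mem (mul_mem (h.fixed_le_bigA he) (h.fixed_le_bigA hd)) hq
    rcases hcase with rfl | rfl | rfl | rfl
    · simpa using k 1 (one_mem _) (by simp [(fixed b R).one_mem])
    · exact k q₁ hq1 h1
    · exact k q₂ hq2 h2
    · refine k _ hq3 ?_
      obtain ⟨hdR, hdb⟩ := mem_fixed.1 h2
      rw [show ⁅n, q₁ * q₂⁆ = ⁅n, q₁⁆ * (q₁ * ⁅n, q₂⁆ * q₁⁻¹) by simp only [commutatorElement_def]; group,
        ← (h.fixed_central hdR hdb).2 q₁ h.mem1, mul_inv_cancel_right]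
      exact mul_mem h1 h2
  refine Subgroup.mem_normalizer_iff.2 fun a => ⟨hA a, fun ha => ?_⟩
  have hf : Function.Surjective fun x : bigA q₁ q₂ R => (⟨n * x * n⁻¹, hA x x.2⟩ : bigA q₁ q₂ R) :=
    Finite.surjective_of_injective fun u v huv => Subtype.ext (by
      have := congrArg Subtype.val huv
      exact mul_left_cancel (mul_right_cancel this))
  obtain ⟨x, hx⟩ := hf ⟨_, ha⟩
  have := congrArg Subtype.val hx
  rw [← (mul_left_cancel (mul_right_cancel this) : (x : S) = a)]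
  exact x.2

theorem bigA_le_normA (h : Setting ρ b q₁ q₂ R F) : bigA q₁ q₂ R ≤ normA q₁ q₂ R := fun a ha => by
  obtain ⟨haR, h1, h2⟩ := mem_bigA.1 ha
  refine (h.mem_normA).2 ⟨haR, ?_, ?_⟩
  · rw [(commutatorElement_eq_one_iff_mul_comm).2 h1.symm]; exact one_mem _
  · rw [(commutatorElement_eq_one_iff_mul_comm).2 h2.symm]; exact one_mem _

/-- The commutators with `q₁, q₂`. -/
def theta (h : Setting ρ b q₁ q₂ R F) (n : normA q₁ q₂ R) : fixed b R × fixed b R :=
  (⟨⁅(n : S), q₁⁆, ((h.mem_normA).1 n.2).2.1⟩, ⟨⁅(n : S), q₂⁆, ((h.mem_normA).1 n.2).2.2⟩)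

theorem theta_eq (h : Setting ρ b q₁ q₂ R F) (n m : normA q₁ q₂ R) :
    h.theta n = h.theta m ↔ (n : S)⁻¹ * m ∈ bigA q₁ q₂ R := by
  have key : ∀ q, ⁅(n : S), q⁆ = ⁅(m : S), q⁆ ↔ q * ((n : S)⁻¹ * m) = ((n : S)⁻¹ * m) * q := fun q => by
    rw [commutatorElement_def, commutatorElement_def, mul_left_inj]
    constructor
    · intro e
      calc q * ((n : S)⁻¹ * m) = (n : S)⁻¹ * ((n : S) * q * (n : S)⁻¹) * m := by group
        _ = (n : S)⁻¹ * ((m : S) * q * (m : S)⁻¹) * m := by rw [e]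
        _ = _ := by group
    · intro e
      calc (n : S) * q * (n : S)⁻¹ = (n : S) * (q * ((n : S)⁻¹ * m)) * (m : S)⁻¹ := by group
        _ = (n : S) * (((n : S)⁻¹ * m) * q) * (m : S)⁻¹ := by rw [e]
        _ = _ := by group
  rw [mem_bigA, theta, theta, Prod.mk.injEq, Subtype.mk.injEq, Subtype.mk.injEq, key, key]
  exact ⟨fun hh => ⟨mul_mem (inv_mem n.2.1) m.2.1, hh⟩, fun hh => hh.2⟩

theorem card_normA (h : Setting ρ b q₁ q₂ R F) :
    Nat.card (normA q₁ q₂ R) ≤ Nat.card (bigA q₁ q₂ R) * (Nat.card (fixed b R) * Nat.card (fixed b R)) := by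
  classical
  let rep : fixed b R × fixed b R → normA q₁ q₂ R := fun t =>
    if ht : ∃ n, h.theta n = t then ht.choose else 1
  have hrep : ∀ n, h.theta (rep (h.theta n)) = h.theta n := fun n => by
    have ht : ∃ m, h.theta m = h.theta n := ⟨n, rfl⟩
    simp only [rep, dif_pos ht]; exact ht.choose_spec
  let f : normA q₁ q₂ R → bigA q₁ q₂ R × (fixed b R × fixed b R) := fun n =>
    (⟨(rep (h.theta n) : S)⁻¹ * n, (h.theta_eq _ _).1 (hrep n)⟩, h.theta n)
  have hf : Function.Injective f := fun n m e => by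
    simp only [f, Prod.mk.injEq, Subtype.mk.injEq] at e
    obtain ⟨e1, e2⟩ := e
    rw [e2] at e1
    exact Subtype.ext (mul_left_cancel e1)
  refine (Nat.card_le_card_of_injective f hf).trans ?_
  rw [Nat.card_prod, Nat.card_prod]

/-- Conjugates of `A` normalize `A`. -/
theorem conj_le_normA (h : Setting ρ b q₁ q₂ R F) {g a : S} (hg : g ∈ R) (ha : a ∈ bigA q₁ q₂ R) :
    g * a * g⁻¹ ∈ normA q₁ q₂ R := by
  have hfx : ∀ {u}, u ∈ R → ∀ {v}, v ∈ R → ⁅u, v⁆ * b = b * ⁅u, v⁆ → ⁅u, v⁆ ∈ fixed b R :=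
    fun {u} hu {v} hv e => mem_fixed.2 ⟨by
      rw [commutatorElement_def]; exact mul_mem (mul_mem (mul_mem hu hv) (inv_mem hu)) (inv_mem hv), e⟩
  have hgR : ∀ x ∈ R, g * x * g⁻¹ ∈ R := fun x hx => mul_mem (mul_mem hg hx) (inv_mem hg)
  obtain ⟨-, k, -⟩ := h.quot_facts
  have hq1i : q₁⁻¹ = q₁ := inv_eq_of_mul_eq_one_right h.four.sq₁
  have hsplit : ∀ u ∈ R, ∀ v ∈ R, ∀ v' ∈ R, ⁅u, v⁆ ∈ fixed b R → ⁅u, v'⁆ ∈ fixed b R → ⁅u, v * v'⁆ ∈ fixed b R := by
    intro u _ v hv v' _ e1 e2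
    obtain ⟨hdR, hdb⟩ := mem_fixed.1 e2
    rw [show ⁅u, v * v'⁆ = ⁅u, v⁆ * (v * ⁅u, v'⁆ * v⁻¹) by simp only [commutatorElement_def]; group,
      ← (h.fixed_central hdR hdb).2 v hv, mul_inv_cancel_right]
    exact mul_mem e1 e2
  have e1 : g * q₁ * g⁻¹ ∈ normA q₁ q₂ R := by
    obtain ⟨k1, k2⟩ := k q₁ h.mem1 g hg
    rw [h.four.conj₁] at k1
    exact h.mem_normA.2 ⟨hgR _ h.mem1, hfx (hgR _ h.mem1) h.mem1 k2, hfx (hgR _ h.mem1) h.mem2 k1⟩
  have e2 : g * q₂ * g⁻¹ ∈ normA q₁ q₂ R := by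
    obtain ⟨k1, k2⟩ := k q₂ h.mem2 g hg
    rw [h.four.conj₂] at k1
    have hh1 := hfx (hgR _ h.mem2) (mul_mem h.mem1 h.mem2) k1
    have hh2 := hfx (hgR _ h.mem2) h.mem2 k2
    refine h.mem_normA.2 ⟨hgR _ h.mem2, ?_, hh2⟩
    have := hsplit _ (hgR _ h.mem2) _ (mul_mem h.mem1 h.mem2) _ h.mem2 hh1 hh2
    rwa [mul_assoc q₁ q₂ q₂, h.four.sq₂, mul_one] at this
  obtain ⟨e, he, hcase⟩ := h.bigA_cases ha
  obtain ⟨heR, heb⟩ := mem_fixed.1 he
  have heg : g * e * g⁻¹ = e := by rw [← (h.fixed_central heR heb).2 g hg, mul_inv_cancel_right]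
  have heN : g * e * g⁻¹ ∈ normA q₁ q₂ R := heg.symm ▸ h.bigA_le_normA (h.fixed_le_bigA he)
  rcases hcase with rfl | rfl | rfl | rfl
  · exact heN
  · rw [show g * (e * q₁) * g⁻¹ = g * e * g⁻¹ * (g * q₁ * g⁻¹) by group]; exact mul_mem heN e1
  · rw [show g * (e * q₂) * g⁻¹ = g * e * g⁻¹ * (g * q₂ * g⁻¹) by group]; exact mul_mem heN e2
  · rw [show g * (e * (q₁ * q₂)) * g⁻¹ = g * e * g⁻¹ * (g * q₁ * g⁻¹ * (g * q₂ * g⁻¹)) by group]
    exact mul_mem heN (mul_mem e1 e2)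

theorem conj_b_normA (h : Setting ρ b q₁ q₂ R F) :
    (∀ a ∈ bigA q₁ q₂ R, b * a * b⁻¹ ∈ bigA q₁ q₂ R) ∧ ∀ n ∈ normA q₁ q₂ R, b * n * b⁻¹ ∈ normA q₁ q₂ R := by
  obtain ⟨hq1, hq2, hq3⟩ := h.q_mem_bigA
  have hA : ∀ a ∈ bigA q₁ q₂ R, b * a * b⁻¹ ∈ bigA q₁ q₂ R := by
    intro a ha
    obtain ⟨e, he, hcase⟩ := h.bigA_cases ha
    have hbe : b * e * b⁻¹ = e := by rw [← (mem_fixed.1 he).2, mul_inv_cancel_right]
    have k : ∀ q, b * q * b⁻¹ ∈ bigA q₁ q₂ R → b * (e * q) * b⁻¹ ∈ bigA q₁ q₂ R := fun q hq => by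
      rw [show b * (e * q) * b⁻¹ = b * e * b⁻¹ * (b * q * b⁻¹) by group, hbe]
      exact mul_mem (h.fixed_le_bigA he) hq
    rcases hcase with rfl | rfl | rfl | rfl
    · rw [hbe]; exact h.fixed_le_bigA he
    · exact k _ (h.four.conj₁.symm ▸ hq2)
    · exact k _ (h.four.conj₂.symm ▸ hq3)
    · refine k _ ?_
      rw [show b * (q₁ * q₂) * b⁻¹ = b * q₁ * b⁻¹ * (b * q₂ * b⁻¹) by group, h.four.conj₁, h.four.conj₂]
      exact mul_mem hq2 hq3
  refine ⟨hA, fun n hn => ⟨h.norm n hn.1, ?_⟩⟩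
  have hbn : b ∈ Subgroup.normalizer (bigA q₁ q₂ R : Set S) := by
    rw [Subgroup.mem_normalizer_iff]
    refine fun a => ⟨hA a, fun ha => ?_⟩
    have := hA _ (hA _ ha)
    rwa [show b * (b * (b * a * b⁻¹) * b⁻¹) * b⁻¹ = (b * b * b) * a * (b * b * b)⁻¹ by group,
      show b * b * b = 1 by rw [← h.four.cube, pow_succ, pow_two], one_mul, inv_one, mul_one] at this
  exact Subgroup.mul_mem _ (Subgroup.mul_mem _ hbn hn.2) (Subgroup.inv_mem _ hbn)

theorem card_fixed_le (h : Setting ρ b q₁ q₂ R F) : Nat.card (fixed b R) ≤ 2 := by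
  classical
  have hf : ∀ c : fixed b R, (c : S) = 1 ∨ ∀ v ∈ F, ρ c v = -v := fun c =>
    h.fixed_pm (mem_fixed.1 c.2).1 (mem_fixed.1 c.2).2
  let f : fixed b R → Fin 2 := fun c => if (c : S) = 1 then 0 else 1
  have hinj : Function.Injective f := fun c d e => by
    simp only [f] at e
    refine Subtype.ext ?_
    split_ifs at e with hc hd hd <;> first | exact absurd e (by decide) | skip
    · rw [hc, hd]
    · exact h.neg_ext (mem_fixed.1 c.2).1 (mem_fixed.1 d.2).1 ((hf c).resolve_left hc) ((hf d).resolve_left hd)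
  have := Nat.card_le_card_of_injective f hinj
  rwa [Nat.card_eq_fintype_card (α := Fin 2), Fintype.card_fin] at this

/-- Self-normalizing `A` is everything. -/
theorem eq_bigA_of_normA (h : Setting ρ b q₁ q₂ R F) (he : normA q₁ q₂ R = bigA q₁ q₂ R) : R = bigA q₁ q₂ R := by
  have := h.isPGroup_two.isNilpotent
  have hne : Subgroup.normalizer (((bigA q₁ q₂ R).subgroupOf R : Subgroup R) : Set R) = (bigA q₁ q₂ R).subgroupOf R := by
    refine le_antisymm (fun n hn => ?_) Subgroup.le_normalizer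
    show (n : S) ∈ bigA q₁ q₂ R
    rw [← he]
    refine ⟨n.2, Subgroup.mem_normalizer_iff.2 fun a => ⟨fun ha => ?_, fun ha => ?_⟩⟩
    · have haR : a ∈ R := (mem_bigA.1 ha).1
      exact (Subgroup.mem_normalizer_iff.1 hn ⟨a, haR⟩).1 ha
    · have haR : a ∈ R := by
        have := mul_mem (mul_mem (inv_mem n.2) (mem_bigA.1 ha).1) n.2
        rwa [show (n : S)⁻¹ * ((n : S) * a * (n : S)⁻¹) * n = a by group] at this
      exact (Subgroup.mem_normalizer_iff.1 hn ⟨a, haR⟩).2 ha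
  have htop : (bigA q₁ q₂ R).subgroupOf R = ⊤ := by
    by_contra hne'
    exact (Group.normalizerCondition_of_isNilpotent _ (lt_top_iff_ne_top.2 hne')).ne' hne
  exact le_antisymm (Subgroup.subgroupOf_eq_top.1 htop) inf_le_left

set_option maxHeartbeats 400000 in
/-- A nontrivial `C_R(b)`: `A` is normal in `R`. -/
theorem le_normA (h : Setting ρ b q₁ q₂ R F) (hC : Nat.card (fixed b R) = 2) : R ≤ normA q₁ q₂ R := by
  classical
  set A := bigA q₁ q₂ R with hA
  set M := normA q₁ q₂ R with hM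
  have hA8 : Nat.card A = 8 := by rw [hA, h.card_bigA, hC]
  intro g₀ hg₀
  by_contra hg₀M
  obtain ⟨g, hgR, hgM, hg2⟩ : ∃ g ∈ R, g ∉ M ∧ g * g ∈ M := by
    obtain ⟨k, hk⟩ := h.isPGroup_two ⟨g₀, hg₀⟩
    have hk' : g₀ ^ 2 ^ k = 1 := congrArg Subtype.val hk
    have hex : ∃ i, g₀ ^ 2 ^ i ∈ M := ⟨k, by rw [hk']; exact one_mem _⟩
    have hi0 : Nat.find hex ≠ 0 := fun e => hg₀M (by simpa [e] using Nat.find_spec hex)
    obtain ⟨i, hi⟩ := Nat.exists_eq_succ_of_ne_zero hi0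
    refine ⟨g₀ ^ 2 ^ i, pow_mem hg₀ _, Nat.find_min hex (by omega), ?_⟩
    have := Nat.find_spec hex
    rw [hi, pow_succ, pow_mul, pow_two] at this
    exact this
  obtain ⟨kprod, -, kdesc⟩ := h.quot_facts
  obtain ⟨hbA, hbM⟩ := h.conj_b_normA
  have hb3 : b * b * b = 1 := by rw [← h.four.cube, pow_succ, pow_two]
  obtain ⟨g', hg'⟩ : ∃ g', g' = b * g * b⁻¹ := ⟨_, rfl⟩
  obtain ⟨g'', hg''⟩ : ∃ g'', g'' = b * g' * b⁻¹ := ⟨_, rfl⟩
  have hg'R : g' ∈ R := hg' ▸ h.norm g hgR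
  have hg''R : g'' ∈ R := hg'' ▸ h.norm g' hg'R
  have hg''2 : g'' * g'' ∈ M := by
    rw [show g'' * g'' = b * (b * (g * g) * b⁻¹) * b⁻¹ by rw [hg'', hg']; group]
    exact hbM _ (hbM _ hg2)
  have hMR : M ≤ R := inf_le_left
  have hMnorm : ∀ m ∈ M, ∀ a, a ∈ A ↔ m * a * m⁻¹ ∈ A := fun m hm a => Subgroup.mem_normalizer_iff.1 hm.2 a
  -- membership in the conjugates
  let T : S → Set S := fun k => {t | k⁻¹ * t * k ∈ A}
  have hTM : ∀ k ∈ R, ∀ t ∈ T k, t ∈ M := fun k hk t ht => by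
    have := h.conj_le_normA hk ht
    rwa [show k * (k⁻¹ * t * k) * k⁻¹ = t by group] at this
  have hTb : ∀ k t, t ∈ T k ↔ b * t * b⁻¹ ∈ T (b * k * b⁻¹) := fun k t => by
    show k⁻¹ * t * k ∈ A ↔ (b * k * b⁻¹)⁻¹ * (b * t * b⁻¹) * (b * k * b⁻¹) ∈ A
    rw [show (b * k * b⁻¹)⁻¹ * (b * t * b⁻¹) * (b * k * b⁻¹) = b * (k⁻¹ * t * k) * b⁻¹ by group]
    refine ⟨hbA _, fun hh => ?_⟩
    have := hbA _ (hbA _ hh)
    rwa [show b * (b * (b * (k⁻¹ * t * k) * b⁻¹) * b⁻¹) * b⁻¹ = (b * b * b) * (k⁻¹ * t * k) * (b * b * b)⁻¹ by group,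
      hb3, one_mul, inv_one, mul_one] at this
  have hgg : b * g'' * b⁻¹ = g := by
    calc b * g'' * b⁻¹ = (b * b * b) * g * (b * b * b)⁻¹ := by rw [hg'', hg']; group
      _ = g := by rw [hb3]; group
  -- intersections
  let I : S → S → Set S := fun k l => T k ∩ T l
  have hT1 : T 1 = (A : Set S) := by ext t; simp [T]
  have hconjI : ∀ k l k' l' : S, (∀ t, t ∈ T k ↔ g * t * g⁻¹ ∈ T k') → (∀ t, t ∈ T l ↔ g * t * g⁻¹ ∈ T l') →
      Nat.card (I k l) = Nat.card (I k' l') := fun k l k' l' hk hl =>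
    Nat.card_congr
      { toFun := fun t => ⟨g * t * g⁻¹, (hk _).1 t.2.1, (hl _).1 t.2.2⟩
        invFun := fun t => ⟨g⁻¹ * t * g, (hk _).2 (by simpa [mul_assoc] using t.2.1),
          (hl _).2 (by simpa [mul_assoc] using t.2.2)⟩
        left_inv := fun t => Subtype.ext (by simp [mul_assoc])
        right_inv := fun t => Subtype.ext (by simp [mul_assoc]) }
  have hbI : ∀ k l, Nat.card (I k l) = Nat.card (I (b * k * b⁻¹) (b * l * b⁻¹)) := fun k l =>
    Nat.card_congr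
      { toFun := fun t => ⟨b * t * b⁻¹, (hTb k _).1 t.2.1, (hTb l _).1 t.2.2⟩
        invFun := fun t => ⟨b⁻¹ * t * b, (hTb k _).2 (by simpa [mul_assoc] using t.2.1),
          (hTb l _).2 (by simpa [mul_assoc] using t.2.2)⟩
        left_inv := fun t => Subtype.ext (by simp [mul_assoc])
        right_inv := fun t => Subtype.ext (by simp [mul_assoc]) }
  have hg1 : ∀ t, t ∈ T 1 ↔ g * t * g⁻¹ ∈ T g := fun t => by
    show 1⁻¹ * t * 1 ∈ A ↔ g⁻¹ * (g * t * g⁻¹) * g ∈ A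
    rw [show g⁻¹ * (g * t * g⁻¹) * g = t by group]; simp
  have hg2' : ∀ t, t ∈ T g ↔ g * t * g⁻¹ ∈ T 1 := fun t => by
    show g⁻¹ * t * g ∈ A ↔ 1⁻¹ * (g * t * g⁻¹) * 1 ∈ A
    rw [hMnorm _ hg2 (g⁻¹ * t * g), inv_one, one_mul, mul_one]
    rw [show g * g * (g⁻¹ * t * g) * (g * g)⁻¹ = g * t * g⁻¹ by group]
  have hg3 : ∀ t, t ∈ T g' ↔ g * t * g⁻¹ ∈ T g'' := fun t => by
    show g'⁻¹ * t * g' ∈ A ↔ g''⁻¹ * (g * t * g⁻¹) * g'' ∈ A
    have hc : g * g' * g'' ∈ M := by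
      refine h.bigA_le_normA (h.fixed_le_bigA (mem_fixed.2 ⟨mul_mem (mul_mem hgR hg'R) hg''R, ?_⟩))
      have := kprod g hgR
      rwa [← hg', ← hg''] at this
    -- `g''⁻¹ g g'` normalizes `A`
    have hm : g''⁻¹ * g * g' ∈ M := by
      have := mul_mem (mul_mem (inv_mem (mul_mem hc (inv_mem hc))) (one_mem M))
        (mul_mem (inv_mem hg''2) (one_mem M))
      have hd : g'' * (g * g' * g'') * g''⁻¹ ∈ M := by
        have hcz : g * g' * g'' ∈ fixed b R := mem_fixed.2 ⟨mul_mem (mul_mem hgR hg'R) hg''R, by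
          have := kprod g hgR
          rwa [← hg', ← hg''] at this⟩
        obtain ⟨hcR, hcb⟩ := mem_fixed.1 hcz
        rw [← (h.fixed_central hcR hcb).2 g'' hg''R, mul_inv_cancel_right]
        exact hc
      rw [show g''⁻¹ * g * g' = (g'' * g'')⁻¹ * (g'' * (g * g' * g'') * g''⁻¹) by group]
      exact mul_mem (inv_mem hg''2) hd
    rw [hMnorm _ hm (g'⁻¹ * t * g'),
      show g''⁻¹ * g * g' * (g'⁻¹ * t * g') * (g''⁻¹ * g * g')⁻¹ = g''⁻¹ * (g * t * g⁻¹) * g'' by group]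
  have s1 : Nat.card (I 1 g) = Nat.card (I 1 g') := by
    have := hbI 1 g; rwa [mul_one, mul_inv_cancel, ← hg'] at this
  have s2 : Nat.card (I 1 g') = Nat.card (I 1 g'') := by
    have := hbI 1 g'; rwa [mul_one, mul_inv_cancel, ← hg''] at this
  have s3 : Nat.card (I 1 g') = Nat.card (I g g'') := hconjI 1 g' g g'' hg1 hg3
  have s4 : Nat.card (I g g'') = Nat.card (I g' g) := by
    have := hbI g g''; rwa [hgg, ← hg'] at this
  have s5 : Nat.card (I g' g) = Nat.card (I g'' g') := by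
    have := hbI g' g; rwa [← hg', ← hg''] at this
  -- the subgroup `T g`
  let Tg : S → Subgroup S := fun k => A.comap (MulAut.conj k⁻¹).toMonoidHom
  have hTg : ∀ k t, t ∈ Tg k ↔ t ∈ T k := fun k t => by simp [Tg, T]
  have hcardT : ∀ k, Nat.card (Tg k) = 8 := fun k => by
    rw [← hA8]
    exact Nat.card_congr
      { toFun := fun t => ⟨k⁻¹ * t * k, (hTg k _).1 t.2⟩
        invFun := fun a => ⟨k * a * k⁻¹, (hTg k _).2 (by simp [T, mul_assoc])⟩
        left_inv := fun t => Subtype.ext (by simp [mul_assoc])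
        right_inv := fun t => Subtype.ext (by simp [mul_assoc]) }
  have hC_T : ∀ k ∈ R, ∀ c ∈ fixed b R, c ∈ T k := fun k hk c hc => by
    show k⁻¹ * c * k ∈ A
    obtain ⟨hcR, hcb⟩ := mem_fixed.1 hc
    rw [show k⁻¹ * c * k = k⁻¹ * (c * k) by group, (h.fixed_central hcR hcb).2 k hk, inv_mul_cancel_left]
    exact h.fixed_le_bigA hc
  have hCA : ∀ c ∈ fixed b R, c ∈ T 1 := fun c hc => hC_T 1 (one_mem R) c hc
  have hAcomm : ∀ a ∈ A, ∀ c ∈ A, a * c = c * a := fun a ha c hc => by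
    obtain ⟨⟨⟨hh⟩⟩, -⟩ := h.bigA_elementary
    exact congrArg Subtype.val (hh ⟨a, ha⟩ ⟨c, hc⟩)
  have hAsq : ∀ a ∈ A, a * a = 1 := fun a ha => by rw [← pow_two]; exact h.bigA_elementary.2 a ha
  -- a subgroup with three cosets of the fixed elements has at least six elements
  have hsix : ∀ X : Subgroup S, fixed b R ≤ X → ∀ u ∈ X, ∀ v ∈ X, u ∉ fixed b R → v ∉ fixed b R →
      u⁻¹ * v ∉ fixed b R → 6 ≤ Nat.card X := by
    intro X hX u hu v hv hu' hv' huv
    let w : Fin 3 → S := ![1, u, v]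
    have hw : ∀ i, w i ∈ X := fun i => by fin_cases i; exacts [one_mem X, hu, hv]
    let f : Fin 3 × fixed b R → X := fun p => ⟨w p.1 * p.2, mul_mem (hw _) (hX p.2.2)⟩
    have hf : Function.Injective f := by
      rintro ⟨i, c, hc⟩ ⟨j, d, hd⟩ he
      have he' : w i * c = w j * d := congrArg Subtype.val he
      have hm : (w i)⁻¹ * w j ∈ fixed b R := by
        rw [show (w i)⁻¹ * w j = c * d⁻¹ by
          rw [eq_mul_inv_iff_mul_eq, mul_assoc, ← he', inv_mul_cancel_left]]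
        exact mul_mem hc (inv_mem hd)
      have hm' : (w j)⁻¹ * w i ∈ fixed b R := by
        have := inv_mem hm
        rwa [mul_inv_rev, inv_inv] at this
      have hij : i = j := by
        fin_cases i <;> fin_cases j <;> first | rfl | exfalso
        all_goals simp only [w, Matrix.cons_val_zero, Matrix.cons_val_one, Matrix.cons_val, Fin.zero_eta, Fin.mk_one,
          Fin.reduceFinMk, inv_one, mul_one, one_mul] at hm hm'
        all_goals first | exact hu' hm | exact hu' hm' | exact hv' hm | exact hv' hm' | exact huv hm | exact huv hm'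
      subst hij
      have := mul_left_cancel he'
      subst this
      rfl
    have := Nat.card_le_card_of_injective f hf
    rw [Nat.card_prod, hC, Nat.card_eq_fintype_card (α := Fin 3), Fintype.card_fin] at this
    exact this
  -- intersections of order two are fixed
  have hmemI : ∀ k l, Nat.card (I k l) = Nat.card ↥(Tg k ⊓ Tg l) := fun k l =>
    Nat.card_congr (Equiv.subtypeEquivRight fun t => by
      show t ∈ T k ∧ t ∈ T l ↔ t ∈ Tg k ⊓ Tg l
      rw [Subgroup.mem_inf, hTg, hTg])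
  have hCTg : ∀ k ∈ R, fixed b R ≤ Tg k := fun k hk c hc => (hTg k c).2 (hC_T k hk c hc)
  have hTA : Tg 1 = A := by
    ext t
    rw [hTg, hT1, SetLike.mem_coe]
  have hfix2 : ∀ k ∈ R, ∀ l ∈ R, Nat.card (I k l) = 2 → ∀ t ∈ Tg k, t ∈ Tg l → t ∈ fixed b R := by
    intro k hk l hl h2 t htk htl
    have he : fixed b R = Tg k ⊓ Tg l :=
      Subgroup.eq_of_le_of_card_ge (le_inf (hCTg k hk) (hCTg l hl)) (by rw [← hmemI, h2, hC])
    rw [he]
    exact ⟨htk, htl⟩
  by_cases hs : Nat.card (I 1 g) = 2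
  · -- trivial intersections
    have h1g' : Nat.card (I 1 g') = 2 := s1 ▸ hs
    have h1g'' : Nat.card (I 1 g'') = 2 := s2 ▸ h1g'
    have hgg'' : Nat.card (I g g'') = 2 := s3 ▸ h1g'
    have hg'g : Nat.card (I g' g) = 2 := s4 ▸ hgg''
    have hg''g' : Nat.card (I g'' g') = 2 := s5 ▸ hg'g
    have hinA : ∀ k ∈ R, Nat.card (I 1 k) = 2 → ∀ t ∈ Tg k, t ∈ A → t ∈ fixed b R := fun k hk h2 t ht htA =>
      hfix2 1 (one_mem R) k hk h2 t (by rw [hTA]; exact htA) ht
    have hsurj : ∀ k (hk : k ∈ R), Nat.card (I 1 k) = 2 → ∀ v, ∃ s : Tg k,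
        h.theta ⟨s, hTM k hk s ((hTg k s).1 s.2)⟩ = v := by
      intro k hk h2
      let θ : Tg k → fixed b R × fixed b R := fun s => h.theta ⟨s, hTM k hk s ((hTg k s).1 s.2)⟩
      choose r hr using fun v : Set.range θ => v.2
      let φ : Tg k → Set.range θ × fixed b R := fun s =>
        (⟨θ s, s, rfl⟩, ⟨(r ⟨θ s, s, rfl⟩ : S)⁻¹ * s, hinA k hk h2 _
          (mul_mem (inv_mem (r ⟨θ s, s, rfl⟩).2) s.2)
          ((h.theta_eq _ _).1 (hr ⟨θ s, s, rfl⟩))⟩)
      have hφ : Function.Injective φ := fun s s' e => by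
        simp only [φ, Prod.mk.injEq, Subtype.mk.injEq] at e
        obtain ⟨e1, e2⟩ := e
        have e3 : r ⟨θ s, s, rfl⟩ = r ⟨θ s', s', rfl⟩ := congrArg r e1
        rw [e3] at e2
        exact Subtype.ext (mul_left_cancel e2)
      have h8 := Nat.card_le_card_of_injective φ hφ
      rw [hcardT, Nat.card_prod, hC] at h8
      have hb : Function.Bijective (Subtype.val : Set.range θ → fixed b R × fixed b R) :=
        (Nat.bijective_iff_injective_and_card _).2 ⟨Subtype.val_injective, le_antisymm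
          (Nat.card_le_card_of_injective _ Subtype.val_injective) (by
            rw [Nat.card_prod, hC]; exact show 2 * 2 ≤ Nat.card (Set.range θ) by omega)⟩
      intro v
      obtain ⟨⟨_, s, rfl⟩, rfl⟩ := hb.2 v
      exact ⟨s, rfl⟩
    obtain ⟨t, ht, htC⟩ : ∃ t ∈ Tg g, t ∉ fixed b R := by
      by_contra hcon
      push Not at hcon
      have := Subgroup.card_dvd_of_le (show Tg g ≤ fixed b R from hcon)
      rw [hcardT, hC] at this
      norm_num at this
    have htA : t ∉ A := fun e => htC (hinA g hgR hs t ht e)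
    have htM : t ∈ M := hTM g hgR t ((hTg g t).1 ht)
    obtain ⟨⟨t', ht'⟩, e'⟩ := hsurj g' hg'R h1g' (h.theta ⟨t, htM⟩)
    obtain ⟨⟨t'', ht''⟩, e''⟩ := hsurj g'' hg''R h1g'' (h.theta ⟨t, htM⟩)
    have ha := (h.theta_eq _ _).1 e'.symm
    have ha' := (h.theta_eq _ _).1 e''.symm
    have hta : t * (t⁻¹ * t') = (t⁻¹ * t') * t ∧ t * (t⁻¹ * t'') = (t⁻¹ * t'') * t := by
      have hsq : ∀ k x, x ∈ Tg k → x * x = 1 := fun k x hx => by
        have := hAsq _ ((hTg k x).1 hx)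
        rw [show k⁻¹ * x * k * (k⁻¹ * x * k) = k⁻¹ * (x * x) * k by group] at this
        calc x * x = k * (k⁻¹ * (x * x) * k) * k⁻¹ := by group
          _ = 1 := by rw [this]; group
      have i1 := inv_eq_of_mul_eq_one_right (hsq g t ht)
      have k : ∀ k x, x ∈ Tg k → t⁻¹ * x ∈ A → t * (t⁻¹ * x) = t⁻¹ * x * t := fun k x hx hxA => by
        have j1 := inv_eq_of_mul_eq_one_right (hsq k x hx)
        have j2 := inv_eq_of_mul_eq_one_right (hAsq _ hxA)
        calc t * (t⁻¹ * x) = x := mul_inv_cancel_left t x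
          _ = (t⁻¹ * x)⁻¹ * t⁻¹ := by rw [mul_inv_rev, inv_inv, mul_inv_cancel_right, j1]
          _ = t⁻¹ * x * t := by rw [j2, i1]
      exact ⟨k g' t' ht' ha, k g'' t'' ht'' ha'⟩
    have hne : ∀ k l, k ∈ R → l ∈ R → Nat.card (I 1 l) = 2 → Nat.card (I k l) = 2 → ∀ x y, x ∈ Tg k → y ∈ Tg l →
        t⁻¹ * y ∈ A → x⁻¹ * y ∉ fixed b R := by
      intro k l hk hl h1l hkl x y hx hy hya hd
      have hyk : y ∈ Tg k := by
        have := mul_mem hx (hCTg k hk hd)
        rwa [mul_inv_cancel_left] at this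
      have hyC := hfix2 k hk l hl hkl y hyk hy
      apply htA
      have := mul_mem (h.fixed_le_bigA hyC) (inv_mem hya)
      rwa [mul_inv_rev, inv_inv, mul_inv_cancel_left] at this
    have n1 : t⁻¹ * t' ∉ fixed b R := hne g g' hgR hg'R h1g' (by
      rw [hmemI, inf_comm, ← hmemI]; exact hg'g) t t' ht ht' ha
    have n2 : t⁻¹ * t'' ∉ fixed b R := hne g g'' hgR hg''R h1g'' hgg'' t t'' ht ht'' ha'
    have n3 : (t⁻¹ * t')⁻¹ * (t⁻¹ * t'') ∉ fixed b R := by
      rw [show (t⁻¹ * t')⁻¹ * (t⁻¹ * t'') = t'⁻¹ * t'' by group]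
      exact hne g' g'' hg'R hg''R h1g'' (by rw [hmemI, inf_comm, ← hmemI]; exact hg''g') t' t'' ht' ht'' ha'
    let X : Subgroup S := A ⊓ Subgroup.centralizer {t}
    have hX := hsix X (fun c hc => ⟨h.fixed_le_bigA hc, Subgroup.mem_centralizer_singleton_iff.2
      ((h.fixed_central (mem_fixed.1 hc).1 (mem_fixed.1 hc).2).2 t (hMR htM))⟩)
      (t⁻¹ * t') ⟨ha, Subgroup.mem_centralizer_singleton_iff.2 hta.1.symm⟩
      (t⁻¹ * t'') ⟨ha', Subgroup.mem_centralizer_singleton_iff.2 hta.2.symm⟩ n1 n2 n3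
    have hd8 := Subgroup.card_dvd_of_le (show X ≤ A from inf_le_left)
    rw [hA8] at hd8
    have hXA : X = A := Subgroup.eq_of_le_of_card_ge inf_le_left (by
      rw [hA8]
      obtain ⟨i, hi, hio⟩ := (Nat.dvd_prime_pow Nat.prime_two).1 (show Nat.card X ∣ 2 ^ 3 by simpa using hd8)
      interval_cases i <;> omega)
    have hcomm : ∀ q ∈ A, q * t = t * q := fun q hq =>
      Subgroup.mem_centralizer_singleton_iff.1 (show q ∈ Subgroup.centralizer {t} by rw [← hXA] at hq; exact hq.2)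
    obtain ⟨hq1, hq2, -⟩ := h.q_mem_bigA
    exact htA (mem_bigA.2 ⟨hMR htM, hcomm _ hq1, hcomm _ hq2⟩)
  · -- intersections of order four
    have h4 : Nat.card (I 1 g) = 4 := by
      have hd : Nat.card (I 1 g) ∣ 8 := by
        rw [hmemI]; exact (Subgroup.card_dvd_of_le (inf_le_right : Tg 1 ⊓ Tg g ≤ Tg g)).trans (by rw [hcardT])
      have hd2 : 2 ∣ Nat.card (I 1 g) := by
        rw [hmemI, ← hC]
        exact Subgroup.card_dvd_of_le (le_inf (hCTg 1 (one_mem R)) (hCTg g hgR))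
      have hne8 : Nat.card (I 1 g) ≠ 8 := fun e8 => hgM ⟨hgR, by
        have hAg : A ≤ Tg g := by
          have := Subgroup.eq_of_le_of_card_ge (inf_le_left : Tg 1 ⊓ Tg g ≤ Tg 1) (by rw [← hmemI, e8, hcardT])
          rw [← hTA, ← this]; exact inf_le_right
        have he : A = Tg g := Subgroup.eq_of_le_of_card_ge hAg (by rw [hcardT, hA8])
        refine (Subgroup.inv_mem_iff _).1 (Subgroup.mem_normalizer_iff.2 fun a => ⟨fun ha => ?_, fun ha => ?_⟩)
        · rw [inv_inv]; exact (hTg g a).1 (hAg ha)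
        · rw [inv_inv] at ha
          show a ∈ A
          rw [he]; exact (hTg g a).2 ha⟩
      have := Nat.le_of_dvd (by norm_num) hd
      interval_cases (Nat.card (I 1 g)) <;> first | rfl | omega
    have h1g' : Nat.card (I 1 g') = 4 := s1 ▸ h4
    have hg'g : Nat.card ↥(Tg g' ⊓ Tg g) = 4 := by rw [← hmemI, ← s4, ← s3]; exact h1g'
    obtain ⟨t, ht, htC⟩ : ∃ t ∈ Tg g' ⊓ Tg g, t ∉ fixed b R := by
      by_contra hcon
      push Not at hcon
      have := Subgroup.card_dvd_of_le (show Tg g' ⊓ Tg g ≤ fixed b R from hcon)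
      rw [hg'g, hC] at this
      norm_num at this
    obtain ⟨htg', htg⟩ := ht
    have htM : t ∈ M := hTM g hgR t ((hTg g t).1 htg)
    have hCdesc : ∀ u ∈ R, u⁻¹ * (b * u * b⁻¹) ∈ fixed b R → u ∈ fixed b R := fun u hu hh =>
      kdesc (fixed b R) inf_le_left (fun c hc hcb => mem_fixed.2 ⟨hc, hcb⟩) (fun c hc => by
        rw [← (mem_fixed.1 hc).2, mul_inv_cancel_right]; exact hc) u hu hh
    have htA : t ∉ A := fun htA => by
      have hbt : b * t * b⁻¹ ∈ Tg g' := by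
        rw [hTg]; have := (hTb g t).1 ((hTg g t).1 htg); rwa [← hg'] at this
      have hbtA : b * t * b⁻¹ ∈ A := hbA t htA
      have := hsix (Tg 1 ⊓ Tg g') (le_inf (hCTg 1 (one_mem R)) (hCTg g' hg'R)) t ⟨by rw [hTA]; exact htA, htg'⟩
        (b * t * b⁻¹) ⟨by rw [hTA]; exact hbtA, hbt⟩ htC (fun hh => htC ?_) (fun hh => htC (hCdesc t (hMR htM) hh))
      · rw [← hmemI, h1g'] at this; omega
      · obtain ⟨hhR, hhb⟩ := mem_fixed.1 hh
        have e : b * (b * t * b⁻¹) * b⁻¹ = b * t * b⁻¹ := by rw [← hhb, mul_inv_cancel_right]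
        have e' : b * t * b⁻¹ = t := mul_left_cancel (mul_right_cancel e)
        exact mem_fixed.2 ⟨hMR htM, (mul_inv_eq_iff_eq_mul.1 e').symm⟩
    obtain ⟨u, hu⟩ : ∃ u, u = b⁻¹ * t * b := ⟨_, rfl⟩
    have hbu : b * u * b⁻¹ = t := by rw [hu]; group
    have hug : u ∈ Tg g := by
      rw [hTg]
      refine (hTb g u).2 ?_
      rw [hbu, ← hg']; exact (hTg g' t).1 htg'
    have huM : u ∈ M := hTM g hgR u ((hTg g u).1 hug)
    have huA : u ∉ A := fun e => htA (hbu ▸ hbA u e)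
    let W : Subgroup (Tg g) := A.subgroupOf (Tg g)
    have hWcard : Nat.card W = 4 := by
      rw [← h4, hmemI, hTA]
      exact Nat.card_congr
        { toFun := fun x => ⟨x.1.1, x.2, x.1.2⟩
          invFun := fun x => ⟨⟨x.1, x.2.2⟩, x.2.1⟩
          left_inv := fun x => rfl
          right_inv := fun x => rfl }
    have hW : W.index = 2 := by
      have := Subgroup.card_mul_index W
      rw [hWcard, hcardT] at this
      omega
    have hprod : u⁻¹ * t ∈ A := (Subgroup.mul_mem_iff_of_index_two hW (a := (⟨u, hug⟩ : Tg g)⁻¹) (b := ⟨t, htg⟩)).2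
      (iff_of_false (fun e => huA (by simpa using inv_mem (show (u⁻¹ : S) ∈ A from e))) htA)
    exact huA (kdesc A inf_le_left (fun c hc hcb => h.fixed_le_bigA (mem_fixed.2 ⟨hc, hcb⟩)) hbA u (hMR huM)
      (by rw [hbu]; exact hprod))

/-- The shape of `R`. -/
theorem shape (h : Setting ρ b q₁ q₂ R F) :
    (IsElementaryAbelian 2 R ∧ Nat.card R = 4) ∨
      (IsExtraspecial 2 R ∧ Nat.card R = 32 ∧ ∃ A : Subgroup S, A ≤ R ∧ IsElementaryAbelian 2 A ∧ Nat.card A = 8) := by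
  classical
  have hCle := h.card_fixed_le
  have hCpos : 0 < Nat.card (fixed b R) := Nat.card_pos
  rcases (show Nat.card (fixed b R) = 1 ∨ Nat.card (fixed b R) = 2 by omega) with hC | hC
  · have he : normA q₁ q₂ R = bigA q₁ q₂ R := by
      refine (Subgroup.eq_of_le_of_card_ge h.bigA_le_normA ?_).symm
      have := h.card_normA
      rw [hC] at this
      simpa using this
    have hR := h.eq_bigA_of_normA he
    refine Or.inl ?_
    rw [hR]
    exact ⟨h.bigA_elementary, by rw [h.card_bigA, hC]⟩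
  refine Or.inr ?_
  have hA8 : Nat.card (bigA q₁ q₂ R) = 8 := by rw [h.card_bigA, hC]
  have hN : normA q₁ q₂ R = R := le_antisymm inf_le_left (h.le_normA hC)
  have h32 : Nat.card R ≤ 32 := by
    have := h.card_normA
    rw [hN, hA8, hC] at this
    exact this
  obtain ⟨hbA, hbN⟩ := h.conj_b_normA
  obtain ⟨kprod, kcomm, kdesc⟩ := h.quot_facts
  obtain ⟨hq1, hq2, hq3⟩ := h.q_mem_bigA
  obtain ⟨n1, n2, n3⟩ := h.q_notMem
  obtain ⟨z, hz, hz1⟩ : ∃ z ∈ fixed b R, z ≠ 1 := by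
    by_contra hcon
    push Not at hcon
    have := Subgroup.eq_bot_iff_forall _ |>.2 hcon
    rw [this, Subgroup.card_bot] at hC
    omega
  have hall : ∀ c ∈ fixed b R, c = 1 ∨ c = z := fun c hc => by
    rcases h.fixed_pm (mem_fixed.1 hc).1 (mem_fixed.1 hc).2 with e | e
    · exact Or.inl e
    · rcases h.fixed_pm (mem_fixed.1 hz).1 (mem_fixed.1 hz).2 with e' | e'
      · exact absurd e' hz1
      · exact Or.inr (h.neg_ext (mem_fixed.1 hc).1 (mem_fixed.1 hz).1 e e')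
  have hbq3 : b * (q₁ * q₂) * b⁻¹ = q₁ := by
    calc b * (q₁ * q₂) * b⁻¹ = b * q₁ * b⁻¹ * (b * q₂ * b⁻¹) := by group
      _ = q₂ * (q₁ * q₂) := by rw [h.four.conj₁, h.four.conj₂]
      _ = q₁ * (q₂ * q₂) := by rw [← mul_assoc, ← h.four.comm, mul_assoc]
      _ = q₁ := by rw [h.four.sq₂, mul_one]
  have hcenC : ∀ c ∈ fixed b R, ∀ r ∈ R, c * r = r * c := fun c hc =>
    (h.fixed_central (mem_fixed.1 hc).1 (mem_fixed.1 hc).2).2
  -- an element outside `A`
  have hR8 : ¬ R ≤ bigA q₁ q₂ R := fun hle => by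
    have c1 : ∀ x, q₁ * (q₁ * x) = x := fun x => by rw [← mul_assoc, h.four.sq₁, one_mul]
    have c2 : ∀ x, q₂ * (q₂ * x) = x := fun x => by rw [← mul_assoc, h.four.sq₂, one_mul]
    have c3 : ∀ x, q₂ * (q₁ * x) = q₁ * (q₂ * x) := fun x => by rw [← mul_assoc, ← h.four.comm, mul_assoc]
    have i1 : q₁⁻¹ = q₁ := inv_eq_of_mul_eq_one_right h.four.sq₁
    have i2 : q₂⁻¹ = q₂ := inv_eq_of_mul_eq_one_right h.four.sq₂
    let X : Subgroup S :=
      { carrier := {x | x = 1 ∨ x = q₁ ∨ x = q₂ ∨ x = q₁ * q₂}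
        mul_mem' := by
          rintro x y (rfl | rfl | rfl | rfl) (rfl | rfl | rfl | rfl) <;>
            simp [mul_assoc, h.four.sq₁, h.four.sq₂, c1, c2, c3, h.four.comm.symm]
        one_mem' := Or.inl rfl
        inv_mem' := by
          rintro x (rfl | rfl | rfl | rfl) <;> simp [i1, i2, h.four.comm.symm] }
    have hsub : ∀ q ∈ X, q * (b * q * b⁻¹)⁻¹ ∈ X := fun q hq => by
      refine X.mul_mem hq (X.inv_mem ?_)
      rcases hq with rfl | rfl | rfl | rfl
      · left; group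
      · right; right; left; exact h.four.conj₁
      · right; right; right; exact h.four.conj₂
      · right; left; exact hbq3
    have hRX : R ≤ X := h.gen X fun r hr => by
      obtain ⟨c, hc, hcase⟩ := h.bigA_cases (hle hr)
      have hbc : b * c * b⁻¹ = c := by rw [← (mem_fixed.1 hc).2, mul_inv_cancel_right]
      have k : ∀ q ∈ X, q ∈ R → r = c * q → r * b * r⁻¹ * b⁻¹ ∈ X := fun q hq hqR e => by
        have he : r * b * r⁻¹ * b⁻¹ = q * (b * q * b⁻¹)⁻¹ := by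
          rw [show r * b * r⁻¹ * b⁻¹ = r * (b * r * b⁻¹)⁻¹ by group, e,
            show b * (c * q) * b⁻¹ = b * c * b⁻¹ * (b * q * b⁻¹) by group, hbc, hcenC c hc q hqR,
            hcenC c hc _ (h.norm q hqR)]
          group
        rw [he]; exact hsub q hq
      rcases hcase with e | e | e | e
      · exact k 1 (Or.inl rfl) (one_mem R) (by rw [e, mul_one])
      · exact k q₁ (Or.inr (Or.inl rfl)) h.mem1 e
      · exact k q₂ (Or.inr (Or.inr (Or.inl rfl))) h.mem2 e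
      · exact k _ (Or.inr (Or.inr (Or.inr rfl))) (mul_mem h.mem1 h.mem2) e
    rcases hRX (mem_fixed.1 hz).1 with e | e | e | e
    · exact hz1 e
    · exact n1 (e ▸ hz)
    · exact n2 (e ▸ hz)
    · exact n3 (e ▸ hz)
  obtain ⟨g, hgR, hgA⟩ := SetLike.not_le_iff_exists.1 hR8
  obtain ⟨g', hg'⟩ : ∃ g', g' = b * g * b⁻¹ := ⟨_, rfl⟩
  have hg'R : g' ∈ R := hg' ▸ h.norm g hgR
  have hgg' : g⁻¹ * g' ∉ bigA q₁ q₂ R := fun hh =>
    hgA (kdesc _ inf_le_left (fun c hc hcb => h.fixed_le_bigA (mem_fixed.2 ⟨hc, hcb⟩)) hbA g hgR (hg' ▸ hh))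
  have hg'A : g' ∉ bigA q₁ q₂ R := fun hh => hgA (by
    have := hbA _ (hbA _ hh)
    rwa [hg', show b * (b * (b * g * b⁻¹) * b⁻¹) * b⁻¹ = (b * b * b) * g * (b * b * b)⁻¹ by group,
      show b * b * b = 1 by rw [← h.four.cube, pow_succ, pow_two], one_mul, inv_one, mul_one] at this)
  let w : Fin 3 → S := ![1, g, g']
  have hwR : ∀ i, w i ∈ R := fun i => by fin_cases i; exacts [one_mem R, hgR, hg'R]
  have h24 : 24 ≤ Nat.card R := by
    let f : Fin 3 × bigA q₁ q₂ R → R := fun p => ⟨w p.1 * p.2, mul_mem (hwR _) (mem_bigA.1 p.2.2).1⟩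
    have hf : Function.Injective f := by
      rintro ⟨i, c, hc⟩ ⟨j, d, hd⟩ he
      have he' : w i * c = w j * d := congrArg Subtype.val he
      have hm : (w i)⁻¹ * w j ∈ bigA q₁ q₂ R := by
        rw [show (w i)⁻¹ * w j = c * d⁻¹ by
          rw [eq_mul_inv_iff_mul_eq, mul_assoc, ← he', inv_mul_cancel_left]]
        exact mul_mem hc (inv_mem hd)
      have hm' : (w j)⁻¹ * w i ∈ bigA q₁ q₂ R := by
        have := inv_mem hm
        rwa [mul_inv_rev, inv_inv] at this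
      have hij : i = j := by
        fin_cases i <;> fin_cases j <;> first | rfl | exfalso
        all_goals simp only [w, Matrix.cons_val_zero, Matrix.cons_val_one, Matrix.cons_val, Fin.zero_eta, Fin.mk_one,
          Fin.reduceFinMk, inv_one, mul_one, one_mul] at hm hm'
        all_goals first | exact hgA hm | exact hgA hm' | exact hg'A hm | exact hg'A hm' | exact hgg' hm | exact hgg' hm'
      subst hij
      have := mul_left_cancel he'
      subst this
      rfl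
    have := Nat.card_le_card_of_injective f hf
    rwa [Nat.card_prod, hA8, Nat.card_eq_fintype_card (α := Fin 3), Fintype.card_fin] at this
  have hR32 : Nat.card R = 32 := by
    obtain ⟨k, hk⟩ := IsPGroup.iff_card.1 h.isPGroup_two
    rw [hk] at h24 h32 ⊢
    have : k = 5 := by
      rcases lt_trichotomy k 5 with hlt | he | hgt
      · have := Nat.pow_le_pow_right (show 1 ≤ 2 by norm_num) (show k ≤ 4 by omega); omega
      · exact he
      · have := Nat.pow_le_pow_right (show 1 ≤ 2 by norm_num) (show 6 ≤ k by omega); omega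
    rw [this]; norm_num
  -- commutators lie in the fixed subgroup
  let W : ∀ u, u ∈ R → Subgroup S := fun u hu =>
    { carrier := {r | r ∈ R ∧ ⁅r, u⁆ ∈ fixed b R}
      mul_mem' := fun {r s} hr hs => ⟨mul_mem hr.1 hs.1, by
        rw [show ⁅r * s, u⁆ = r * ⁅s, u⁆ * r⁻¹ * ⁅r, u⁆ by simp only [commutatorElement_def]; group,
          ← hcenC _ hs.2 r hr.1, mul_inv_cancel_right]
        exact mul_mem hs.2 hr.2⟩
      one_mem' := ⟨one_mem R, by simp [(fixed b R).one_mem]⟩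
      inv_mem' := fun {r} hr => ⟨inv_mem hr.1, by
        rw [show ⁅r⁻¹, u⁆ = r⁻¹ * ⁅r, u⁆⁻¹ * r by simp only [commutatorElement_def]; group,
          mul_assoc, hcenC _ (inv_mem hr.2) r hr.1, inv_mul_cancel_left]
        exact inv_mem hr.2⟩ }
  have hflip : ∀ u v, ⁅u, v⁆ ∈ fixed b R → ⁅v, u⁆ ∈ fixed b R := fun u v e => by
    rw [← commutatorElement_inv]; exact inv_mem e
  have hAW : ∀ r (hr : r ∈ R), bigA q₁ q₂ R ≤ W r hr := fun r hr a ha => by
    obtain ⟨-, k1, k2⟩ := h.mem_normA.1 (hN.symm ▸ hr : r ∈ normA q₁ q₂ R)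
    have w1 : q₁ ∈ W r hr := ⟨h.mem1, hflip _ _ k1⟩
    have w2 : q₂ ∈ W r hr := ⟨h.mem2, hflip _ _ k2⟩
    obtain ⟨c, hc, hcase⟩ := h.bigA_cases ha
    have wc : c ∈ W r hr := ⟨(mem_fixed.1 hc).1, by
      rw [commutatorElement_eq_one_iff_mul_comm.2 (hcenC c hc r hr)]; exact one_mem _⟩
    rcases hcase with rfl | rfl | rfl | rfl
    exacts [wc, mul_mem wc w1, mul_mem wc w2, mul_mem wc (mul_mem w1 w2)]
  have hfull : ∀ X : Subgroup S, X ≤ R → bigA q₁ q₂ R ≤ X → g ∈ X → g' ∈ X → R ≤ X := by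
    intro X hXR hAX hgX hg'X
    have hd : Nat.card X ∣ 32 := hR32 ▸ Subgroup.card_dvd_of_le hXR
    have hwX : ∀ i, w i ∈ X := fun i => by fin_cases i; exacts [one_mem X, hgX, hg'X]
    let f : Fin 3 × bigA q₁ q₂ R → X := fun p => ⟨w p.1 * p.2, mul_mem (hwX _) (hAX p.2.2)⟩
    have hf : Function.Injective f := by
      rintro ⟨i, c, hc⟩ ⟨j, d, hd⟩ he
      have he' : w i * c = w j * d := congrArg Subtype.val he
      have hm : (w i)⁻¹ * w j ∈ bigA q₁ q₂ R := by
        rw [show (w i)⁻¹ * w j = c * d⁻¹ by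
          rw [eq_mul_inv_iff_mul_eq, mul_assoc, ← he', inv_mul_cancel_left]]
        exact mul_mem hc (inv_mem hd)
      have hm' : (w j)⁻¹ * w i ∈ bigA q₁ q₂ R := by
        have := inv_mem hm
        rwa [mul_inv_rev, inv_inv] at this
      have hij : i = j := by
        fin_cases i <;> fin_cases j <;> first | rfl | exfalso
        all_goals simp only [w, Matrix.cons_val_zero, Matrix.cons_val_one, Matrix.cons_val, Fin.zero_eta, Fin.mk_one,
          Fin.reduceFinMk, inv_one, mul_one, one_mul] at hm hm'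
        all_goals first | exact hgA hm | exact hgA hm' | exact hg'A hm | exact hg'A hm' | exact hgg' hm | exact hgg' hm'
      subst hij
      have := mul_left_cancel he'
      subst this
      rfl
    have h24' := Nat.card_le_card_of_injective f hf
    rw [Nat.card_prod, hA8, Nat.card_eq_fintype_card (α := Fin 3), Fintype.card_fin] at h24'
    have hX32 : Nat.card X = 32 := by
      obtain ⟨k, hk, hk'⟩ := (Nat.dvd_prime_pow Nat.prime_two).1 (show Nat.card X ∣ 2 ^ 5 by simpa using hd)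
      rw [hk'] at h24' ⊢
      interval_cases k <;> omega
    exact (Subgroup.eq_of_le_of_card_ge hXR (by rw [hX32, hR32])).symm.le
  have hgg : ⁅g, g'⁆ ∈ fixed b R := by
    have := (kcomm g hgR 1 (one_mem R)).1
    rw [one_mul, inv_one, mul_one, ← hg'] at this
    exact mem_fixed.2 ⟨by
      rw [commutatorElement_def]; exact mul_mem (mul_mem (mul_mem hgR hg'R) (inv_mem hgR)) (inv_mem hg'R), this⟩
  have hone : ∀ u, ⁅u, u⁆ ∈ fixed b R := fun u => by
    rw [commutatorElement_eq_one_iff_mul_comm.2 rfl]; exact one_mem _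
  have hWg : R ≤ W g hgR := hfull _ (fun r hr => hr.1) (hAW g hgR) ⟨hgR, hone g⟩ ⟨hg'R, hflip _ _ hgg⟩
  have hWg' : R ≤ W g' hg'R := hfull _ (fun r hr => hr.1) (hAW g' hg'R) ⟨hgR, hgg⟩ ⟨hg'R, hone g'⟩
  have hcomm : ∀ x ∈ R, ∀ y ∈ R, ⁅x, y⁆ ∈ fixed b R := fun x hx y hy =>
    (hfull (W y hy) (fun r hr => hr.1) (hAW y hy) ⟨hgR, hflip _ _ (hWg hy).2⟩ ⟨hg'R, hflip _ _ (hWg' hy).2⟩ hx).2
  -- the centre
  have hcentre : ∀ x ∈ R, (∀ y ∈ R, x * y = y * x) → x ∈ fixed b R := by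
    intro x hx hxc
    have hxA : x ∈ bigA q₁ q₂ R := mem_bigA.2 ⟨hx, (hxc _ h.mem1).symm, (hxc _ h.mem2).symm⟩
    obtain ⟨c, hc, hcase⟩ := h.bigA_cases hxA
    have hcb : ∀ q, q ∈ R → (∀ y ∈ R, q * y = y * q) → ∀ y ∈ R, (b * q * b⁻¹) * y = y * (b * q * b⁻¹) := by
      intro q _ hqc y hy
      have := hqc _ (h.norm' hy)
      calc b * q * b⁻¹ * y = b * (q * (b⁻¹ * y * b)) * b⁻¹ := by group
        _ = b * (b⁻¹ * y * b * q) * b⁻¹ := by rw [this]
        _ = _ := by group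
    have hq1c : ¬ ∀ y ∈ R, q₁ * y = y * q₁ := fun hh => hgA (mem_bigA.2 ⟨hgR, hh g hgR, by
      have := hcb q₁ h.mem1 hh g hgR
      rwa [h.four.conj₁] at this⟩)
    have hdiv : ∀ q, x = c * q → ∀ y ∈ R, q * y = y * q := fun q e y hy => by
      have h1 := hxc y hy
      rw [e] at h1
      have : c * (q * y) = c * (y * q) := by
        calc c * (q * y) = c * q * y := by group
          _ = y * (c * q) := h1
          _ = y * c * q := by group
          _ = c * y * q := by rw [hcenC c hc y hy]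
          _ = _ := by group
      exact mul_left_cancel this
    rcases hcase with e | e | e | e
    · exact e ▸ hc
    · exact absurd (hdiv _ e) hq1c
    · refine absurd ?_ hq1c
      have := hcb _ (mul_mem h.mem1 h.mem2) (fun y hy => by
        have := hcb q₂ h.mem2 (hdiv _ e) y hy
        rwa [h.four.conj₂] at this)
      rwa [hbq3] at this
    · refine absurd ?_ hq1c
      have := hcb _ (mul_mem h.mem1 h.mem2) (hdiv _ e)
      rwa [hbq3] at this
  have hzsq : ∀ c ∈ fixed b R, c * c = 1 := fun c hc => (h.fixed_central (mem_fixed.1 hc).1 (mem_fixed.1 hc).2).1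
  have hsq : ∀ x ∈ R, x * x ∈ fixed b R := fun x hx => hcentre _ (mul_mem hx hx) fun y hy => by
    refine commutatorElement_eq_one_iff_mul_comm.1 ?_
    rw [show ⁅x * x, y⁆ = x * ⁅x, y⁆ * x⁻¹ * ⁅x, y⁆ by simp only [commutatorElement_def]; group,
      ← hcenC _ (hcomm x hx y hy) x hx, mul_inv_cancel_right, hzsq _ (hcomm x hx y hy)]
  have hzR : z ∈ R := (mem_fixed.1 hz).1
  refine ⟨?_, hR32, bigA q₁ q₂ R, inf_le_left, h.bigA_elementary, hA8⟩
  have hp := h.isPGroup_two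
  let zR : R := ⟨z, hzR⟩
  have hcenR : ∀ x : R, x ∈ Subgroup.center R ↔ x = 1 ∨ x = zR := fun x => by
    rw [Subgroup.mem_center_iff]
    constructor
    · intro hc
      rcases hall _ (hcentre x x.2 fun y hy => (congrArg Subtype.val (hc ⟨y, hy⟩)).symm) with e | e
      · exact Or.inl (Subtype.ext e)
      · exact Or.inr (Subtype.ext e)
    · rintro (rfl | rfl) y
      · simp
      · exact Subtype.ext (hcenC z hz y y.2).symm
  have : Fact (Nat.Prime 2) := ⟨Nat.prime_two⟩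
  have hmem : ∀ x y : R, ⁅x, y⁆ ∈ Subgroup.center R := fun x y => by
    rw [hcenR]
    rcases hall _ (hcomm x x.2 y y.2) with e | e
    · exact Or.inl (Subtype.ext e)
    · exact Or.inr (Subtype.ext e)
  have hle' : _root_.commutator R ≤ Subgroup.center R := by
    rw [commutator_def, Subgroup.commutator_le]
    exact fun x _ y _ => hmem x y
  have hle : Subgroup.center R ≤ _root_.commutator R := by
    intro c hc
    rcases (hcenR c).1 hc with rfl | rfl
    · exact one_mem _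
    · obtain ⟨hgc, hgc'⟩ : g ∈ R ∧ ¬ (q₁ * g = g * q₁ ∧ q₂ * g = g * q₂) :=
        ⟨hgR, fun e => hgA (mem_bigA.2 ⟨hgR, e⟩)⟩
      have hk : ∀ q (hq : q ∈ R), q * g ≠ g * q → zR ∈ _root_.commutator R := fun q hq hne => by
        have hc' := hcomm q hq g hgR
        rcases hall _ hc' with e | e
        · exact absurd (commutatorElement_eq_one_iff_mul_comm.1 e) hne
        · have : ⁅(⟨q, hq⟩ : R), (⟨g, hgR⟩ : R)⁆ = zR := Subtype.ext e
          rw [← this]
          exact Subgroup.commutator_mem_commutator (Subgroup.mem_top _) (Subgroup.mem_top _)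
      by_cases e1 : q₁ * g = g * q₁
      · exact hk q₂ h.mem2 fun e2 => hgc' ⟨e1, e2⟩
      · exact hk q₁ h.mem1 e1
  refine ⟨⟨hp, le_antisymm ?_ (hle.trans (CfsgLib.PGroup.commutator_le_frattini hp)), le_antisymm hle' hle⟩, ?_⟩
  · refine CfsgLib.Transfer.frattini_le_of_commutator_pow (p := 2) (Subgroup.center R) hmem fun u => ?_
    rw [hcenR, pow_two]
    rcases hall _ (hsq u u.2) with e | e
    · exact Or.inl (Subtype.ext e)
    · exact Or.inr (Subtype.ext e)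
  · rw [Nat.card_eq_two_iff]
    refine ⟨⟨1, one_mem _⟩, ⟨zR, (hcenR zR).2 (Or.inr rfl)⟩, fun e => hz1 (congrArg (fun t => ((t.1 : R) : S)) e).symm, ?_⟩
    rw [Set.eq_univ_iff_forall]
    rintro ⟨x, hx⟩
    rcases (hcenR x).1 hx with rfl | rfl <;> simp

end Setting

end CfsgLib.CubicBlock
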