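import Cfsg.Agent.Lib.CubicBlock.Setting

/-!
The Fitting subgroup of `R` is a self-centralizing `2`-group.
-/

set_option autoImplicit false
set_option linter.unusedSectionVars false

namespace CfsgLib.CubicBlock

open Cfsg

variable {S E : Type*} [Group S] [Finite S] [AddCommGroup E] [Module (ZMod 3) E] [Finite E]
  {ρ : Representation (ZMod 3) S E} {b q₁ q₂ : S} {R : Subgroup S} {F : Submodule (ZMod 3) E}

namespace Setting

theorem two_group (h : Setting ρ b q₁ q₂ R F) (N : Subgroup S) (hNR : N ≤ R) [Group.IsNilpotent N]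
    (hn : ∀ r ∈ R, ∀ x ∈ N, r⁻¹ * x * r ∈ N) (hb : ∀ x ∈ N, b⁻¹ * x * b ∈ N) : IsPGroup 2 N := by
  suffices H : ∀ q : ℕ, q.Prime → q ∣ Nat.card N → q = 2 by
    exact IsPGroup.of_card (Nat.eq_prime_pow_of_unique_prime_dvd Nat.card_pos.ne' fun hd1 hd2 => H _ hd1 hd2)
  intro q hq hqN
  by_contra hq2
  have : Fact q.Prime := ⟨hq⟩
  obtain ⟨P⟩ : Nonempty (Sylow q N) := inferInstance
  have hP : (P : Subgroup N).Normal :=
    ((Group.isNilpotent_of_finite_tfae (G := N)).out 0 3 :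
      Group.IsNilpotent N ↔ ∀ (p : ℕ) (_hp : Fact p.Prime) (P : Sylow p N), (P : Subgroup N).Normal).mp ‹_› q this P
  have := Sylow.unique_of_normal P hP
  have hmemP : ∀ (x : N) (k : ℕ), x ^ q ^ k = 1 → x ∈ (P : Subgroup N) := fun x k hk => by
    have hz : IsPGroup q (Subgroup.zpowers x) := by
      refine IsPGroup.of_card (n := ?_) ?_
      · exact ((Nat.dvd_prime_pow hq).1 (orderOf_dvd_of_pow_eq_one hk)).choose
      · rw [Nat.card_zpowers]; exact ((Nat.dvd_prime_pow hq).1 (orderOf_dvd_of_pow_eq_one hk)).choose_spec.2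
    obtain ⟨Q, hQ⟩ := hz.exists_le_sylow
    rw [Subsingleton.elim Q P] at hQ
    exact hQ (Subgroup.mem_zpowers x)
  let A : Subgroup S :=
    { carrier := {x | ∃ hx : x ∈ N, (⟨x, hx⟩ : N) ∈ (P : Subgroup N) ∧
        ∀ y : N, y ∈ (P : Subgroup N) → x * y = y * x}
      mul_mem' := fun {x y} => fun ⟨hx, hxP, hxc⟩ ⟨hy, hyP, hyc⟩ => ⟨mul_mem hx hy,
        (P : Subgroup N).mul_mem hxP hyP, fun z hz => by rw [mul_assoc, hyc z hz, ← mul_assoc, hxc z hz, mul_assoc]⟩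
      one_mem' := ⟨one_mem _, (P : Subgroup N).one_mem, fun z _ => by simp⟩
      inv_mem' := fun {x} => fun ⟨hx, hxP, hxc⟩ => ⟨inv_mem hx, (P : Subgroup N).inv_mem hxP, fun z hz =>
        (Commute.inv_left (hxc z hz)).eq⟩ }
  have hAN : ∀ x ∈ A, x ∈ N := fun x ⟨hx, _⟩ => hx
  -- conjugation stability
  have hinv : ∀ g : S, (∀ x ∈ N, g⁻¹ * x * g ∈ N) → ∀ x ∈ A, g⁻¹ * x * g ∈ A := by
    rintro g hg x ⟨hx, hxP, hxc⟩
    have hsurj : ∀ y ∈ N, ∃ y' ∈ N, g⁻¹ * y' * g = y := fun y hy => by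
      have hf : Function.Surjective fun x : N => (⟨g⁻¹ * x * g, hg x x.2⟩ : N) :=
        Finite.surjective_of_injective fun a c hac => by
          have := congrArg Subtype.val hac
          exact Subtype.ext (mul_left_cancel (mul_right_cancel this))
      obtain ⟨y', hy'⟩ := hf ⟨y, hy⟩
      exact ⟨y', y'.2, congrArg Subtype.val hy'⟩
    obtain ⟨k, hk⟩ := P.2 ⟨_, hxP⟩
    refine ⟨hg x hx, hmemP _ k ?_, fun y hy => ?_⟩
    · have hk' : x ^ q ^ k = 1 := congrArg (fun z => ((z.1 : N) : S)) hk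
      refine Subtype.ext ?_
      show (g⁻¹ * x * g) ^ q ^ k = 1
      have := conj_pow (a := g⁻¹) (b := x) (i := q ^ k)
      rw [inv_inv] at this
      rw [this, hk', mul_one, inv_mul_cancel]
    · obtain ⟨y', hy'N, hy'⟩ := hsurj y y.2
      have hy'P : (⟨y', hy'N⟩ : N) ∈ (P : Subgroup N) := by
        obtain ⟨l, hl⟩ := P.2 ⟨_, hy⟩
        refine hmemP _ l (Subtype.ext ?_)
        show y' ^ q ^ l = 1
        have hl' : (y : S) ^ q ^ l = 1 := congrArg (fun z => ((z.1 : N) : S)) hl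
        have e : y' = g * y * g⁻¹ := by rw [← hy']; group
        rw [e, conj_pow, hl', mul_one, mul_inv_cancel]
      rw [← hy']
      calc g⁻¹ * x * g * (g⁻¹ * y' * g) = g⁻¹ * (x * y') * g := by group
        _ = g⁻¹ * (y' * x) * g := by rw [show x * y' = y' * x from hxc ⟨y', hy'N⟩ hy'P]
        _ = _ := by group
  have hA6 : ∀ a ∈ A, (orderOf a).Coprime 6 := by
    rintro a ⟨ha, haP, -⟩
    obtain ⟨k, hk⟩ := P.2 ⟨_, haP⟩
    have hk' : a ^ q ^ k = 1 := congrArg (fun z => ((z.1 : N) : S)) hk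
    refine Nat.Coprime.coprime_dvd_left (orderOf_dvd_of_pow_eq_one hk') (Nat.Coprime.pow_left k ?_)
    have hq3 : q ≠ 3 := fun e => by
      have h3 : 3 ∣ Nat.card R := e ▸ hqN.trans (Subgroup.card_dvd_of_le hNR)
      have := Nat.eq_one_of_dvd_coprimes h.cop h3 dvd_rfl
      omega
    rw [show (6 : ℕ) = 2 * 3 from rfl]
    exact Nat.Coprime.mul_right ((Nat.coprime_primes hq Nat.prime_two).2 hq2)
      ((Nat.coprime_primes hq Nat.prime_three).2 hq3)
  have hq1i : q₁⁻¹ = q₁ := inv_eq_of_mul_eq_one_right h.four.sq₁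
  have hq2i : q₂⁻¹ = q₂ := inv_eq_of_mul_eq_one_right h.four.sq₂
  have hc := commute_of_odd_abelian h.inj h.four h.rank h.act_ne A
    (fun a ⟨_, _, hac⟩ c ⟨hc, hcP, _⟩ => hac ⟨c, hc⟩ hcP) hA6
    (fun a ha => by have := hinv q₁ (hn q₁ h.mem1) a ha; rwa [hq1i] at this ⊢)
    (fun a ha => by have := hinv q₂ (hn q₂ h.mem2) a ha; rwa [hq2i] at this ⊢)
    (hinv b hb)
  obtain ⟨w, hw0, hw, -, -, -⟩ := h.four.coords h.rank h.act_ne
  have hAbot : A = ⊥ := h.trivial_of_fixed A (fun x hx => hNR (hAN x hx)) (fun r hr => hinv r (hn r hr))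
    (hinv b hb) (h.line_mem h.mem1 h.mem2 hw) hw0 fun x hx => (hc x hx).2 w hw
  have hPne : (P : Subgroup N) ≠ ⊥ := P.ne_bot_of_dvd_card hqN
  have : Nontrivial (P : Subgroup N) := (Subgroup.nontrivial_iff_ne_bot _).2 hPne
  have := P.2.center_nontrivial
  obtain ⟨⟨x, hx⟩, hx1⟩ := exists_ne (1 : Subgroup.center (P : Subgroup N))
  apply hx1
  have hxA : ((x : N) : S) ∈ A := ⟨(x : N).2, x.2, fun y hy => by
    have := Subgroup.mem_center_iff.1 hx ⟨y, hy⟩
    exact (congrArg (fun z => ((z.1 : N) : S)) this).symm⟩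
  rw [hAbot, Subgroup.mem_bot] at hxA
  exact Subtype.ext (Subtype.ext (Subtype.ext hxA))

/-- A self-centralizing `2`-subgroup normalized by `R` and `b`. -/
theorem exists_fit (h : Setting ρ b q₁ q₂ R F) :
    ∃ U : Subgroup S, U ≤ R ∧ IsPGroup 2 U ∧ (∀ r ∈ R, ∀ x ∈ U, r⁻¹ * x * r ∈ U) ∧
      (∀ x ∈ U, b⁻¹ * x * b ∈ U) ∧ (∀ r ∈ R, (∀ x ∈ U, r * x = x * r) → r ∈ U) ∧
      ∀ N : Subgroup R, N.Normal → Group.IsNilpotent N → N.map R.subtype ≤ U := by
  have := h.solv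
  have hnil : Group.IsNilpotent (fittingSubgroup R) := CfsgLib.Cores.isNilpotent_fittingSubgroup
  have hFn := CfsgLib.Cores.fittingSubgroup_normal (G := R)
  have hFc := CfsgLib.Cores.fittingSubgroup_characteristic (G := R)
  refine ⟨(fittingSubgroup R).map R.subtype, Subgroup.map_subtype_le _, ?_⟩
  have hR : ∀ r ∈ R, ∀ x ∈ (fittingSubgroup R).map R.subtype, r⁻¹ * x * r ∈ (fittingSubgroup R).map R.subtype := by
    rintro r hr _ ⟨x, hx, rfl⟩
    refine ⟨(⟨r, hr⟩ : R)⁻¹ * x * ⟨r, hr⟩, ?_, by simp⟩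
    have := hFn.conj_mem x hx (⟨r, hr⟩ : R)⁻¹
    rwa [inv_inv] at this
  let ψ : R ≃* R :=
    { toFun := fun x => ⟨b⁻¹ * x * b, h.norm' x.2⟩
      invFun := fun x => ⟨b * x * b⁻¹, h.norm x x.2⟩
      left_inv := fun x => Subtype.ext (by simp [mul_assoc])
      right_inv := fun x => Subtype.ext (by simp [mul_assoc])
      map_mul' := fun x y => Subtype.ext (by simp [mul_assoc]) }
  have hB : ∀ x ∈ (fittingSubgroup R).map R.subtype, b⁻¹ * x * b ∈ (fittingSubgroup R).map R.subtype := by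
    rintro _ ⟨x, hx, rfl⟩
    refine ⟨ψ x, ?_, rfl⟩
    have := Subgroup.characteristic_iff_map_eq.1 hFc ψ
    rw [← this]
    exact Subgroup.mem_map_of_mem _ hx
  have : Group.IsNilpotent ((fittingSubgroup R).map R.subtype) :=
    CfsgLib.Cores.isNilpotent_map hnil _
  refine ⟨h.two_group _ (Subgroup.map_subtype_le _) hR hB, hR, hB, fun r hr hc => ?_, fun N hN hNn =>
    Subgroup.map_mono (CfsgLib.Cores.le_fittingSubgroup hNn)⟩
  refine ⟨⟨r, hr⟩, CfsgLib.Solvable.centralizer_fittingSubgroup_le (Subgroup.mem_centralizer_iff.2 fun x hx =>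
    Subtype.ext (hc x ⟨x, hx, rfl⟩).symm), rfl⟩

end Setting

end CfsgLib.CubicBlock
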