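import Cfsg.Agent.Lib.CubicBlock.MovedCase

/-!
Elements of `R` commuting with `b` are `±1`; `R` is a `2`-group.
-/

set_option autoImplicit false
set_option linter.unusedSectionVars false

open scoped commutatorElement

namespace CfsgLib.CubicBlock

variable {S E : Type*} [Group S] [Finite S] [AddCommGroup E] [Module (ZMod 3) E] [Finite E]
  {ρ : Representation (ZMod 3) S E} {b q₁ q₂ : S} {R : Subgroup S} {F : Submodule (ZMod 3) E}

/-- A vector moved by a fixed difference. -/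
theorem eq_zero_of_shift (ρ : Representation (ZMod 3) S E) {t : S} (ht : (orderOf t).Coprime 3) {v δ : E}
    (hδ : ρ t δ = δ) (hv : ρ t v = v + δ) : δ = 0 := by
  have hn : ∀ n : ℕ, ρ (t ^ n) v = v + n • δ := by
    intro n
    induction n with
    | zero => simp
    | succ n ih => rw [pow_succ_apply, ih, map_add, map_nsmul, hδ, hv, succ_nsmul]; abel
  have h3 := hn (orderOf t)
  rw [pow_orderOf_eq_one, map_one, Module.End.one_apply, left_eq_add, ← Nat.cast_smul_eq_nsmul (ZMod 3)] at h3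
  refine (smul_eq_zero.1 h3).resolve_left fun h0 => ?_
  rw [ZMod.natCast_eq_zero_iff] at h0
  have := Nat.eq_one_of_dvd_coprimes ht h0 dvd_rfl
  omega

namespace Setting

variable [Group.IsSolvable S]

set_option maxHeartbeats 400000 in
theorem sq_of_commute_b (h : Setting ρ b q₁ q₂ R F) {r : S} (hr : r ∈ R) (hrb : r * b = b * r) : r * r = 1 := by
  obtain ⟨w, hw0, hw, -, hfix, hco⟩ := h.four.coords h.rank h.act_ne
  have hbw := h.four.bw hw
  have hbbw := h.four.bbw hw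
  have hwF := h.line_mem h.mem1 h.mem2 hw
  have hb1F := h.invb w hwF
  have hb2F := h.invb _ hb1F
  have hcF : ∀ v ∈ F, ∃ c ∈ F, FourData.IsFix ρ q₁ q₂ c ∧ ∃ a₁ a₂ a₃ : ZMod 3,
      v = c + a₁ • w + a₂ • ρ b w + a₃ • ρ b (ρ b w) := fun v hv => by
    obtain ⟨c, hc, a₁, a₂, a₃, rfl⟩ := hco v
    refine ⟨c, ?_, hc, a₁, a₂, a₃, rfl⟩
    have := sub_mem (sub_mem (sub_mem hv (F.smul_mem a₃ hb2F)) (F.smul_mem a₂ hb1F)) (F.smul_mem a₁ hwF)
    simpa using this
  -- at most three fixed vectors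
  let C := {c : E // c ∈ F ∧ FourData.IsFix ρ q₁ q₂ c}
  have hC : Nat.card C ≤ 3 := by
    let f : C × ZMod 3 × ZMod 3 × ZMod 3 → F := fun p =>
      ⟨p.1.1 + p.2.1 • w + p.2.2.1 • ρ b w + p.2.2.2 • ρ b (ρ b w),
        add_mem (add_mem (add_mem p.1.2.1 (F.smul_mem _ hwF)) (F.smul_mem _ hb1F)) (F.smul_mem _ hb2F)⟩
    have hf : Function.Injective f := by
      rintro ⟨⟨c, hc⟩, a₁, a₂, a₃⟩ ⟨⟨d, hd⟩, e₁, e₂, e₃⟩ he
      have he' : c + a₁ • w + a₂ • ρ b w + a₃ • ρ b (ρ b w) = d + e₁ • w + e₂ • ρ b w + e₃ • ρ b (ρ b w) :=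
        congrArg Subtype.val he
      have hfix' : FourData.IsFix ρ q₁ q₂ (c - d) :=
        ⟨by rw [map_sub, hc.2.1, hd.2.1], by rw [map_sub, hc.2.2, hd.2.2]⟩
      obtain ⟨k0, k1, k2, k3⟩ := h.four.unique hfix' (FourData.lineVec_smul hw (a₁ - e₁))
        (FourData.lineVec_smul hw (a₂ - e₂)) (FourData.lineVec_smul hw (a₃ - e₃))
        (by simp only [sub_smul, map_sub, map_smul]
            rw [show c - d + (a₁ • w - e₁ • w) + (a₂ • ρ b w - e₂ • ρ b w) + (a₃ • ρ b (ρ b w) - e₃ • ρ b (ρ b w))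
              = (c + a₁ • w + a₂ • ρ b w + a₃ • ρ b (ρ b w)) - (d + e₁ • w + e₂ • ρ b w + e₃ • ρ b (ρ b w)) by abel,
              he', sub_self])
      rw [smul_eq_zero, or_iff_left hw0, sub_eq_zero] at k1 k2 k3
      rw [sub_eq_zero] at k0
      subst k0 k1 k2 k3
      rfl
    have := (Nat.card_le_card_of_injective f hf).trans h.card_le
    simp only [Nat.card_prod, Nat.card_zmod] at this
    omega
  obtain ⟨c₀, hc₀F, hc₀, hall⟩ : ∃ c₀ ∈ F, FourData.IsFix ρ q₁ q₂ c₀ ∧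
      ∀ c ∈ F, FourData.IsFix ρ q₁ q₂ c → ∃ l : ZMod 3, c = l • c₀ := by
    by_cases h0 : ∀ c ∈ F, FourData.IsFix ρ q₁ q₂ c → c = 0
    · exact ⟨0, zero_mem _, FourData.fix_zero, fun c hc hc' => ⟨0, by rw [h0 c hc hc', zero_smul]⟩⟩
    push Not at h0
    obtain ⟨c₀, hc₀F, hc₀, hne⟩ := h0
    refine ⟨c₀, hc₀F, hc₀, fun c hc hc' => ?_⟩
    let g : ZMod 3 → C := fun l => ⟨l • c₀, F.smul_mem l hc₀F, by rw [map_smul, hc₀.1], by rw [map_smul, hc₀.2]⟩
    have hg : Function.Injective g := fun l l' he => by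
      have he' : l • c₀ = l' • c₀ := congrArg Subtype.val he
      rw [← sub_eq_zero, ← sub_smul, smul_eq_zero, or_iff_left hne, sub_eq_zero] at he'
      exact he'
    have hb : Function.Bijective g := (Nat.bijective_iff_injective_and_card g).2 ⟨hg, by
      have := Nat.card_le_card_of_injective g hg
      rw [Nat.card_zmod] at this ⊢
      omega⟩
    obtain ⟨l, hl⟩ := hb.2 ⟨c, hc, hc'⟩
    exact ⟨l, (congrArg Subtype.val hl).symm⟩
  obtain ⟨s, hs⟩ : ∃ s, s = w + ρ b w + ρ b (ρ b w) := ⟨_, rfl⟩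
  have hsF : s ∈ F := hs ▸ add_mem (add_mem hwF hb1F) hb2F
  have hbs : ρ b s = s := by rw [hs, map_add, map_add, h.four.b3]; abel
  have hker : ∀ v ∈ F, ρ b v = v → ∃ l a : ZMod 3, v = l • c₀ + a • s := by
    intro v hv hbv
    obtain ⟨c, hcm, hc, a₁, a₂, a₃, rfl⟩ := hcF v hv
    simp only [map_add, map_smul, hfix c hc, h.four.b3] at hbv
    obtain ⟨-, k1, k2, k3⟩ := h.four.unique FourData.fix_zero (FourData.lineVec_smul hw (a₃ - a₁))
      (FourData.lineVec_smul hw (a₁ - a₂)) (FourData.lineVec_smul hw (a₂ - a₃))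
      (by rw [map_smul, map_smul, map_smul, sub_smul, sub_smul, sub_smul,
            show 0 + (a₃ • w - a₁ • w) + (a₁ • ρ b w - a₂ • ρ b w) + (a₂ • ρ b (ρ b w) - a₃ • ρ b (ρ b w))
              = (c + a₁ • ρ b w + a₂ • ρ b (ρ b w) + a₃ • w) - (c + a₁ • w + a₂ • ρ b w + a₃ • ρ b (ρ b w)) by abel,
            hbv, sub_self])
    rw [smul_eq_zero, or_iff_left hw0, sub_eq_zero] at k1 k2
    subst k1 k2
    obtain ⟨l, hl⟩ := hall c hcm hc
    exact ⟨l, a₃, by rw [hl, hs, smul_add, smul_add]; abel⟩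
  have hcomm : ∀ v, ρ r (ρ b v) = ρ b (ρ r v) := fun v => by rw [← rho_mul, hrb, rho_mul]
  -- the action on `s`
  obtain ⟨e, he⟩ : ∃ e : ZMod 3, ρ r s = e • s := by
    obtain ⟨c, -, hc, a₁, a₂, a₃, he⟩ := hcF _ (h.invR r hr w hwF)
    refine ⟨a₁ + a₂ + a₃, ?_⟩
    have h3 := three_eq_zero c
    rw [hs, map_add, map_add, hcomm, hcomm, hcomm, he]
    simp only [map_add, map_smul, hfix c hc, h.four.b3, smul_add, add_smul]
    calc _ = (c + c + c) + (a₁ • w + a₂ • w + a₃ • w + (a₁ • ρ b w + a₂ • ρ b w + a₃ • ρ b w)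
          + (a₁ • ρ b (ρ b w) + a₂ • ρ b (ρ b w) + a₃ • ρ b (ρ b w))) := by abel
      _ = _ := by rw [h3, zero_add]
  have hs0 : s ≠ 0 := fun e0 => hw0 (h.four.eq_zero_of_dd hw (by rw [← e0, hs]; abel))
  have he0 : e ≠ 0 := by
    rintro rfl
    rw [zero_smul] at he
    exact hs0 (by rw [← rho_inv_apply ρ r s, he, map_zero])
  have he2 : e * e = 1 := by rcases zmod3_cases e with rfl | rfl | rfl <;> first | exact absurd rfl he0 | decide
  obtain ⟨t, ht⟩ : ∃ t, t = r * r := ⟨_, rfl⟩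
  have htR : t ∈ R := ht ▸ mul_mem hr hr
  have hord : (orderOf t).Coprime 3 :=
    Nat.Coprime.coprime_dvd_left (Subgroup.orderOf_dvd_natCard R htR) h.cop
  have htcomm : ∀ v, ρ t (ρ b v) = ρ b (ρ t v) := fun v => by rw [ht, rho_mul, rho_mul, hcomm, hcomm]
  have hts : ρ t s = s := by rw [ht, rho_mul, he, map_smul, he, smul_smul, he2, one_smul]
  have htc : ρ t c₀ = c₀ := by
    obtain ⟨l, a, hla⟩ := hker (ρ r c₀) (h.invR r hr _ hc₀F) (by rw [← hcomm, hfix c₀ hc₀])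
    by_cases hl : l = 0
    · rw [hl, zero_smul, zero_add] at hla
      have h1 : c₀ = (a * e) • s := by
        have := congrArg (ρ r⁻¹) hla
        rw [rho_inv_apply, map_smul] at this
        rw [this]
        nth_rw 1 [show s = e • ρ r s by rw [he, smul_smul, he2, one_smul]]
        rw [map_smul, rho_inv_apply, smul_smul]
      have hk := h.four.unique (c := -c₀) (w₁ := (a * e) • w) (w₂ := (a * e) • w) (w₃ := (a * e) • w)
        ⟨by rw [map_neg, hc₀.1], by rw [map_neg, hc₀.2]⟩ (FourData.lineVec_smul hw _) (FourData.lineVec_smul hw _)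
        (FourData.lineVec_smul hw _) (by simp only [map_smul]; rw [h1, hs, smul_add, smul_add]; abel)
      rw [neg_eq_zero.1 hk.1, map_zero]
    have hl2 : l * l = 1 := by rcases zmod3_cases l with rfl | rfl | rfl <;> first | exact absurd rfl hl | decide
    have hv : ρ t c₀ = c₀ + (l * a + a * e) • s := by
      rw [ht, rho_mul, hla, map_add, map_smul, map_smul, hla, he, smul_add, smul_smul, smul_smul, smul_smul, hl2,
        one_smul, add_assoc, ← add_smul]
    rw [hv, eq_zero_of_shift ρ hord (by rw [map_smul, hts]) hv, add_zero]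
  have htker : ∀ v ∈ F, ρ b v = v → ρ t v = v := fun v hv hbv => by
    obtain ⟨l, a, rfl⟩ := hker v hv hbv
    rw [map_add, map_smul, map_smul, htc, hts]
  have hstep : ∀ v ∈ F, ρ t (ρ b v - v) = ρ b v - v → ρ t v = v := fun v hv hd => by
    have hδ : ρ b (ρ t v - v) = ρ t v - v := by
      have hd' : ρ b (ρ t v) - ρ t v = ρ b v - v := by rw [← htcomm, ← map_sub, hd]
      rw [map_sub, ← sub_eq_zero]
      calc ρ b (ρ t v) - ρ b v - (ρ t v - v) = (ρ b (ρ t v) - ρ t v) - (ρ b v - v) := by abel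
        _ = 0 := by rw [hd', sub_self]
    have := eq_zero_of_shift ρ hord (htker _ (sub_mem (h.invR t htR v hv) hv) hδ)
      (show ρ t v = v + (ρ t v - v) by abel)
    rwa [sub_eq_zero] at this
  have hd2 : ρ t (ρ b (ρ b w - w) - (ρ b w - w)) = ρ b (ρ b w - w) - (ρ b w - w) := by
    have : ρ b (ρ b w - w) - (ρ b w - w) = s := by
      rw [map_sub, hs]
      have h3 := three_eq_zero (ρ b w)
      calc ρ b (ρ b w) - ρ b w - (ρ b w - w) = w + ρ b w + ρ b (ρ b w) - (ρ b w + ρ b w + ρ b w) := by abel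
        _ = _ := by rw [h3, sub_zero]
    rw [this, hts]
  have htw : ρ t w = w := hstep w hwF (hstep _ (sub_mem hb1F hwF) hd2)
  rw [← ht]
  refine h.eq_one_on htR fun v hv => ?_
  obtain ⟨c, hcm, hc, a₁, a₂, a₃, rfl⟩ := hcF v hv
  simp only [map_add, map_smul, htcomm, htw, htker c hcm (hfix c hc)]

/-- An element of `R` commuting with `b` is `±1`. -/
theorem fixed_pm (h : Setting ρ b q₁ q₂ R F) {r : S} (hr : r ∈ R) (hrb : r * b = b * r) :
    r = 1 ∨ ∀ v ∈ F, ρ r v = -v := by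
  have hr2 := h.sq_of_commute_b hr hrb
  have hcomm : ∀ v, ρ r (ρ b v) = ρ b (ρ r v) := fun v => by rw [← rho_mul, hrb, rho_mul]
  have hsmall : ∀ W : Submodule (ZMod 3) E, (∀ v ∈ W, ρ b v ∈ W) → Nat.card W ≤ 9 →
      ∀ v ∈ W, ρ b (ρ b v - v) - (ρ b v - v) = 0 := by
    intro W hW h9 v hv
    by_contra hne
    obtain ⟨d, hd⟩ : ∃ d, d = ρ b v - v := ⟨_, rfl⟩
    obtain ⟨d', hd'⟩ : ∃ d', d' = ρ b d - d := ⟨_, rfl⟩
    rw [← hd, ← hd'] at hne
    have hd3 : ρ b d' - d' = 0 := by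
      rw [hd', hd, map_sub, map_sub, map_sub, h.four.b3]
      have h3 := three_eq_zero (ρ b (ρ b v))
      have h4 := three_eq_zero (ρ b v)
      calc v - ρ b (ρ b v) - (ρ b (ρ b v) - ρ b v) - (ρ b (ρ b v) - ρ b v - (ρ b v - v))
          = (ρ b v + ρ b v + ρ b v) - (ρ b (ρ b v) + ρ b (ρ b v) + ρ b (ρ b v)) := by abel
        _ = 0 := by rw [h3, h4, sub_zero]
    have hdW : d ∈ W := hd ▸ sub_mem (hW v hv) hv
    let f : ZMod 3 × ZMod 3 × ZMod 3 → W := fun p => ⟨p.1 • v + p.2.1 • d + p.2.2 • d',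
      add_mem (add_mem (W.smul_mem _ hv) (W.smul_mem _ hdW)) (W.smul_mem _ (hd' ▸ sub_mem (hW d hdW) hdW))⟩
    let Dm : E →ₗ[ZMod 3] E := ρ b - LinearMap.id
    have hDv : Dm v = d := by simp [Dm, hd]
    have hDd : Dm d = d' := by simp [Dm, hd']
    have hDd' : Dm d' = 0 := by simpa [Dm] using hd3
    have hf : Function.Injective f := by
      rintro ⟨a, c, e⟩ ⟨a', c', e'⟩ he
      have h0 : (a - a') • v + (c - c') • d + (e - e') • d' = 0 := by
        have := congrArg Subtype.val he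
        simp only [f] at this
        rw [← sub_eq_zero] at this
        rw [← this]; simp only [sub_smul]; abel
      have h1 := congrArg Dm (congrArg Dm h0)
      simp only [map_add, map_smul, map_zero, hDv, hDd, hDd', smul_zero, add_zero] at h1
      rw [smul_eq_zero, or_iff_left hne] at h1
      rw [h1, zero_smul, zero_add] at h0
      have h2 := congrArg Dm h0
      simp only [map_add, map_smul, map_zero, hDd, hDd', smul_zero, add_zero] at h2
      rw [smul_eq_zero, or_iff_left hne] at h2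
      rw [h2, zero_smul, zero_add, smul_eq_zero, or_iff_left hne] at h0
      rw [sub_eq_zero] at h0 h1 h2
      subst h0 h1 h2; rfl
    have := (Nat.card_le_card_of_injective f hf).trans h9
    simp only [Nat.card_prod, Nat.card_zmod] at this
    omega
  have hbinv : ∀ x : S, (x = r) → ∀ v ∈ F ⊓ fixSpace ρ x, ρ b v ∈ F ⊓ fixSpace ρ x := by
    rintro x rfl v ⟨hv, hv'⟩
    exact ⟨h.invb v hv, show ρ x (ρ b v) = ρ b v by rw [hcomm, mem_fixSpace.1 hv']⟩
  have hbinv' : ∀ v ∈ F ⊓ negSpace ρ r, ρ b v ∈ F ⊓ negSpace ρ r := by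
    rintro v ⟨hv, hv'⟩
    exact ⟨h.invb v hv, show ρ r (ρ b v) = -ρ b v by rw [hcomm, mem_negSpace.1 hv', map_neg]⟩
  have hprod := card_eigen hr2 F fun v hv => h.invR r hr v hv
  obtain ⟨hn3, hn27⟩ := h.card_neg_ne hr hr2
  have h81 := h.card_le
  obtain ⟨i, hi⟩ := card_pow (F ⊓ fixSpace ρ r)
  obtain ⟨j, hj⟩ := card_pow (F ⊓ negSpace ρ r)
  have hbig : 2 < i ∨ 2 < j := by
    by_contra hcon
    push Not at hcon
    obtain ⟨v, hv⟩ := h.dd
    obtain ⟨u, hu, f, hf, rfl⟩ := h.split v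
    obtain ⟨⟨⟨u₁, hu₁⟩, ⟨u₂, hu₂⟩⟩, he⟩ := (eigen_bijective hr2 F fun v hv => h.invR r hr v hv).2 ⟨u, hu⟩
    have he' : u₁ + u₂ = u := congrArg Subtype.val he
    have k1 := hsmall _ (hbinv r rfl) (by rw [hi]; exact (Nat.pow_le_pow_right (by norm_num) hcon.1).trans (by norm_num)) u₁ hu₁
    have k2 := hsmall _ hbinv' (by rw [hj]; exact (Nat.pow_le_pow_right (by norm_num) hcon.2).trans (by norm_num)) u₂ hu₂
    apply hv
    have hbf := h.b_fix hf
    rw [← he']
    simp only [map_add, map_sub, hbf] at k1 k2 ⊢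
    calc _ = (ρ b (ρ b u₁) - ρ b u₁ - (ρ b u₁ - u₁)) + (ρ b (ρ b u₂) - ρ b u₂ - (ρ b u₂ - u₂)) := by abel
      _ = 0 := by rw [k1, k2, add_zero]
  have hij : i + j ≤ 4 := by
    refine (Nat.pow_le_pow_iff_right (show 1 < 3 by norm_num)).1 ?_
    rw [pow_add, ← hi, ← hj, hprod]
    exact h81.trans (by norm_num)
  have hj1 : j ≠ 1 := fun e => hn3 (by rw [hj, e]; norm_num)
  have hj3 : j ≠ 3 := fun e => hn27 (by rw [hj, e]; norm_num)
  have hcases : j = 0 ∨ i = 0 := by omega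
  rcases hcases with e | e
  · refine Or.inl (h.eq_one_on hr fun v hv => ?_)
    obtain ⟨⟨⟨u₁, hu₁⟩, ⟨u₂, hu₂⟩⟩, he⟩ := (eigen_bijective hr2 F fun v hv => h.invR r hr v hv).2 ⟨v, hv⟩
    have he' : u₁ + u₂ = v := congrArg Subtype.val he
    rw [e, pow_zero, Nat.card_eq_one_iff_unique] at hj
    have : (⟨u₂, hu₂⟩ : ↥(F ⊓ negSpace ρ r)) = 0 := @Subsingleton.elim _ hj.1 _ _
    rw [← he', show u₂ = 0 from congrArg Subtype.val this, add_zero]
    exact hu₁.2
  · refine Or.inr fun v hv => ?_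
    obtain ⟨⟨⟨u₁, hu₁⟩, ⟨u₂, hu₂⟩⟩, he⟩ := (eigen_bijective hr2 F fun v hv => h.invR r hr v hv).2 ⟨v, hv⟩
    have he' : u₁ + u₂ = v := congrArg Subtype.val he
    rw [e, pow_zero, Nat.card_eq_one_iff_unique] at hi
    have : (⟨u₁, hu₁⟩ : ↥(F ⊓ fixSpace ρ r)) = 0 := @Subsingleton.elim _ hi.1 _ _
    rw [← he', show u₁ = 0 from congrArg Subtype.val this, zero_add]
    exact hu₂.2

/-- The fixed elements form a central subgroup of exponent two. -/
theorem fixed_central (h : Setting ρ b q₁ q₂ R F) {c : S} (hc : c ∈ R) (hcb : c * b = b * c) :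
    c * c = 1 ∧ ∀ r ∈ R, c * r = r * c := by
  rcases h.fixed_pm hc hcb with rfl | hneg
  · exact ⟨one_mul 1, fun r _ => by simp⟩
  · exact ⟨(h.neg_central hc hneg).1, (h.neg_central hc hneg).2.2⟩

theorem quot_facts (h : Setting ρ b q₁ q₂ R F) :
    (∀ x ∈ R, (x * (b * x * b⁻¹) * (b * (b * x * b⁻¹) * b⁻¹)) * b = b * (x * (b * x * b⁻¹) * (b * (b * x * b⁻¹) * b⁻¹))) ∧
      (∀ x ∈ R, ∀ g ∈ R, ⁅g * x * g⁻¹, b * x * b⁻¹⁆ * b = b * ⁅g * x * g⁻¹, b * x * b⁻¹⁆ ∧
        ⁅g * x * g⁻¹, x⁆ * b = b * ⁅g * x * g⁻¹, x⁆) ∧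
      (∀ N : Subgroup S, N ≤ R → (∀ c ∈ R, c * b = b * c → c ∈ N) → (∀ x ∈ N, b * x * b⁻¹ ∈ N) →
        ∀ r ∈ R, r⁻¹ * (b * r * b⁻¹) ∈ N → r ∈ N) := by
  let α : R →* R :=
    { toFun := fun x => ⟨b * x * b⁻¹, h.norm x x.2⟩
      map_one' := Subtype.ext (by simp)
      map_mul' := fun x y => Subtype.ext (by simp [mul_assoc]) }
  have hα : ∀ x, α (α (α x)) = x := fun x => Subtype.ext (by
    show b * (b * (b * x * b⁻¹) * b⁻¹) * b⁻¹ = (x : S)
    calc _ = (b * b * b) * x * (b * b * b)⁻¹ := by group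
      _ = _ := by rw [show b * b * b = 1 by rw [← h.four.cube, pow_succ, pow_two]]; group)
  have hfixed : ∀ c : R, α c = c ↔ (c : S) * b = b * c := fun c => by
    rw [Subtype.ext_iff]
    show b * c * b⁻¹ = c ↔ _
    rw [mul_inv_eq_iff_eq_mul, eq_comm]
  have hC : ∀ c, α c = c → c * c = 1 ∧ ∀ x, c * x = x * c := fun c hc => by
    obtain ⟨h1, h2⟩ := h.fixed_central c.2 ((hfixed c).1 hc)
    exact ⟨Subtype.ext h1, fun x => Subtype.ext (h2 x x.2)⟩
  refine ⟨fun x hx => (hfixed _).1 (central_prod α hα hC ⟨x, hx⟩), fun x hx g hg => ?_,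
    fun N hN hCN hNb r hr hrN => ?_⟩
  · obtain ⟨k1, k2⟩ := central_comm_conj α hα hC ⟨x, hx⟩ ⟨g, hg⟩
    exact ⟨(hfixed _).1 k1, (hfixed _).1 k2⟩
  · exact central_mem α hα hC (N.subgroupOf R) (fun c hc => hCN c c.2 ((hfixed c).1 hc))
      (fun x hx => hNb x hx) (r := ⟨r, hr⟩) hrN

/-- `R` is a `2`-group. -/
theorem isPGroup_two (h : Setting ρ b q₁ q₂ R F) : IsPGroup 2 R := by
  obtain ⟨U, hUR, hU2, -, -, -, hUN⟩ := h.exists_fit
  suffices hle : R ≤ U from hU2.to_le hle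
  intro r hr
  obtain ⟨x, hx⟩ : ∃ x : R, x = ⟨r, hr⟩ := ⟨_, rfl⟩
  set N := Subgroup.normalClosure ({x} : Set R) with hN
  have hcen : ∀ g : R, ⁅g * x * g⁻¹, x⁆ ∈ Subgroup.center R := fun g => by
    refine Subgroup.mem_center_iff.2 fun y => Subtype.ext ?_
    obtain ⟨-, k⟩ := h.quot_facts.2.1 x x.2 g g.2
    exact ((h.fixed_central (⁅g * x * g⁻¹, x⁆ : R).2 k).2 y y.2).symm
  let π := QuotientGroup.mk' (Subgroup.center R)
  have hab : ∀ a ∈ N, ∀ c ∈ N, π a * π c = π c * π a := by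
    have hconj : ∀ u v : R, Commute (π (u * x * u⁻¹)) (π (v * x * v⁻¹)) := fun u v => by
      have h1 : π ⁅v⁻¹ * u * x * (v⁻¹ * u)⁻¹, x⁆ = 1 := (QuotientGroup.eq_one_iff _).2 (hcen _)
      rw [map_commutatorElement, commutatorElement_eq_one_iff_mul_comm] at h1
      simp only [map_mul, map_inv] at h1 ⊢
      simp only [Commute, SemiconjBy]
      calc π u * π x * (π u)⁻¹ * (π v * π x * (π v)⁻¹)
          = π v * ((π v)⁻¹ * π u * π x * ((π v)⁻¹ * π u)⁻¹ * π x) * (π v)⁻¹ := by group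
        _ = π v * (π x * ((π v)⁻¹ * π u * π x * ((π v)⁻¹ * π u)⁻¹)) * (π v)⁻¹ := by rw [h1]
        _ = _ := by group
    intro a ha c hc
    induction ha using Subgroup.closure_induction with
    | mem a ha =>
      induction hc using Subgroup.closure_induction with
      | mem c hc =>
        obtain ⟨_, rfl, hu⟩ := Group.mem_conjugatesOfSet_iff.1 ha
        obtain ⟨_, rfl, hv⟩ := Group.mem_conjugatesOfSet_iff.1 hc
        obtain ⟨u, rfl⟩ := isConj_iff.1 hu
        obtain ⟨v, rfl⟩ := isConj_iff.1 hv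
        exact (hconj u v).eq
      | one => simp
      | mul c d _ _ hc hd => rw [map_mul]; exact (Commute.mul_right hc hd).eq
      | inv c _ hc => rw [map_inv]; exact (Commute.inv_right hc).eq
    | one => simp
    | mul a d _ _ ha hd => rw [map_mul]; exact (Commute.mul_left ha hd).eq
    | inv a _ ha => rw [map_inv]; exact (Commute.inv_left ha).eq
  let ψ : N →* (N.map π) := π.subgroupMap N
  let _ : CommGroup (N.map π) :=
    { (inferInstance : Group (N.map π)) with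
      mul_comm := by rintro ⟨_, a, ha, rfl⟩ ⟨_, c, hc, rfl⟩; exact Subtype.ext (hab a ha c hc) }
  have hnil : Group.IsNilpotent N := Subgroup.isNilpotent_of_ker_le_center ψ (fun a ha => by
      have : π a = 1 := congrArg Subtype.val ha
      exact Subgroup.mem_center_iff.2 fun c => Subtype.ext (Subgroup.mem_center_iff.1 ((QuotientGroup.eq_one_iff _).1 this) c))
  exact hUN N inferInstance hnil ⟨x, Subgroup.subset_normalClosure rfl, by rw [hx]; rfl⟩

end Setting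

end CfsgLib.CubicBlock
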