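import Mathlib

/-!
An automorphism of order three whose fixed points form a central subgroup of exponent two.
-/

set_option autoImplicit false

open scoped commutatorElement

namespace CfsgLib.CubicBlock

variable {H : Type*} [Group H] [Finite H]

/-- A fixed-point-free automorphism of order three: `h ↦ h⁻¹ β h` is onto. -/
theorem fpf_surjective (β : H →* H) (hfix : ∀ x, β x = x → x = 1) :
    Function.Surjective fun h => h⁻¹ * β h := by
  refine Finite.surjective_of_injective fun x y hxy => ?_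
  have h1 : β (x * y⁻¹) = x * y⁻¹ := by
    have hxy' : x⁻¹ * β x = y⁻¹ * β y := hxy
    rw [map_mul, map_inv]
    calc β x * (β y)⁻¹ = x * (x⁻¹ * β x) * (β y)⁻¹ := by group
      _ = x * y⁻¹ := by rw [hxy']; group
  exact mul_inv_eq_one.1 (hfix _ h1)

theorem fpf_prod (β : H →* H) (h3 : ∀ x, β (β (β x)) = x) (hfix : ∀ x, β x = x → x = 1) (x : H) :
    x * β x * β (β x) = 1 := by
  obtain ⟨h, rfl⟩ := fpf_surjective β hfix x
  simp only [map_mul, map_inv, h3]
  group

theorem fpf_comm (β : H →* H) (h3 : ∀ x, β (β (β x)) = x) (hfix : ∀ x, β x = x → x = 1) (x : H) :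
    x * β x = β x * x := by
  have e1 := fpf_prod β h3 hfix x
  have e2 := congrArg β (congrArg β e1)
  simp only [map_mul, h3, map_one] at e2
  -- `β²x · x · βx = 1` and `x · βx · β²x = 1`
  have e3 : x * β x = (β (β x))⁻¹ := eq_inv_of_mul_eq_one_left e1
  have e4 : β x * β (β x) * x = 1 := by
    have := congrArg β e1
    simpa only [map_mul, h3, map_one] using this
  have e5 := fpf_prod β h3 hfix (β (β x))
  simp only [h3] at e5
  have f1 := fpf_prod β h3 hfix x⁻¹
  simp only [map_inv] at f1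
  have f2 : β (β x) * β x * x = 1 := by
    have := congrArg Inv.inv f1
    simpa [mul_assoc] using this
  rw [e3]
  exact (eq_inv_of_mul_eq_one_right (by rw [← mul_assoc]; exact f2)).symm

/-- Every element commutes with all conjugates of itself and of its image. -/
theorem fpf_comm_conj (β : H →* H) (h3 : ∀ x, β (β (β x)) = x) (hfix : ∀ x, β x = x → x = 1) (x g : H) :
    Commute (g * x * g⁻¹) (β x) ∧ Commute (g * x * g⁻¹) x := by
  have key : ∀ x g : H, Commute x (g * β x * g⁻¹) := fun x g => by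
    obtain ⟨h, rfl⟩ := fpf_surjective β hfix g
    have := fpf_comm β h3 hfix (h * x * h⁻¹)
    simp only [map_mul, map_inv] at this
    have h' := congrArg (fun z => h⁻¹ * z * h) this
    simp only [Commute, SemiconjBy]
    calc x * (h⁻¹ * β h * β x * (h⁻¹ * β h)⁻¹)
        = h⁻¹ * (h * x * h⁻¹ * (β h * β x * (β h)⁻¹)) * h := by group
      _ = h⁻¹ * (β h * β x * (β h)⁻¹ * (h * x * h⁻¹)) * h := by rw [this]
      _ = _ := by group
  have key2 : ∀ x g : H, Commute x (g * β (β x) * g⁻¹) := fun x g => by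
    have h1 := key (β (β x)) g⁻¹
    rw [h3] at h1
    have := h1.map (MulAut.conj g).toMonoidHom
    simp only [MulEquiv.coe_toMonoidHom, MulAut.conj_apply, inv_inv] at this
    rw [show g * (g⁻¹ * x * g) * g⁻¹ = x by group] at this
    exact this.symm
  constructor
  · have := (key x g⁻¹).map (MulAut.conj g).toMonoidHom
    simp only [MulEquiv.coe_toMonoidHom, MulAut.conj_apply, inv_inv] at this
    rwa [show g * (g⁻¹ * β x * g) * g⁻¹ = β x by group] at this
  · have e : g * x * g⁻¹ = (g * β (β x) * g⁻¹)⁻¹ * (g * β x * g⁻¹)⁻¹ := by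
      have h := fpf_prod β h3 hfix x
      have hx : x = (β x * β (β x))⁻¹ := eq_inv_of_mul_eq_one_left (by rw [← mul_assoc]; exact h)
      nth_rw 1 [hx]; group
    rw [e]
    exact ((key2 x g).inv_right.mul_right (key x g).inv_right).symm

/-- Invariant subgroups are closed under taking preimages of `h ↦ h⁻¹ β h`. -/
theorem fpf_mem (β : H →* H) (hfix : ∀ x, β x = x → x = 1) (N : Subgroup H) (hN : ∀ x ∈ N, β x ∈ N) {r : H}
    (hr : r⁻¹ * β r ∈ N) : r ∈ N := by
  let βN : N →* N := (β.comp N.subtype).codRestrict N fun x => hN x x.2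
  have hfixN : ∀ x : N, βN x = x → x = 1 := fun x hx =>
    Subtype.ext (hfix x (congrArg Subtype.val hx))
  obtain ⟨y, hy⟩ := fpf_surjective βN hfixN ⟨_, hr⟩
  have hy' : (y : H)⁻¹ * β y = r⁻¹ * β r := congrArg Subtype.val hy
  have := (Finite.injective_iff_surjective.2 (fpf_surjective β hfix)) hy'
  exact this ▸ y.2

section Central

variable (α : H →* H) (hα : ∀ x, α (α (α x)) = x)
  (hC : ∀ c, α c = c → c * c = 1 ∧ ∀ h, c * h = h * c)

/-- The fixed points. -/
def fixedSub : Subgroup H := MonoidHom.eqLocus α (MonoidHom.id H)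

set_option linter.unusedSectionVars false

include hα hC

theorem central_fpf_quot :
    ∃ (_ : (fixedSub α).Normal) (β : H ⧸ fixedSub α →* H ⧸ fixedSub α),
      (∀ x, β (QuotientGroup.mk x) = QuotientGroup.mk (α x)) ∧
      (∀ x, β (β (β x)) = x) ∧ ∀ x, β x = x → x = 1 := by
  have hn : (fixedSub α).Normal := ⟨fun c hc g => by
    rw [← (hC c hc).2 g, mul_inv_cancel_right]
    exact hc⟩
  refine ⟨hn, QuotientGroup.map _ _ α (fun c hc => ?_), fun x => rfl, fun x => ?_, fun x hx => ?_⟩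
  · show α (α c) = α c
    rw [show α c = c from hc]; exact hc
  · obtain ⟨x, rfl⟩ := QuotientGroup.mk_surjective x
    simp [QuotientGroup.map_mk, hα]
  · obtain ⟨x, rfl⟩ := QuotientGroup.mk_surjective x
    rw [QuotientGroup.map_mk, QuotientGroup.eq] at hx
    rw [QuotientGroup.eq_one_iff]
    -- `α x = x ζ` and `ζ ^ 3 = 1`
    set ζ := (α x)⁻¹ * x with hζ
    have hf : α ζ = ζ := hx
    have h1 : α x = x * ζ⁻¹ := by rw [hζ]; group
    have h2 : x = x * ζ⁻¹ * ζ⁻¹ * ζ⁻¹ := by
      conv_lhs => rw [← hα x]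
      rw [h1, map_mul, map_inv, hf, h1, map_mul, map_mul, map_inv, hf, h1]
    have h4 : ζ⁻¹ * ζ⁻¹ * ζ⁻¹ = 1 := by
      rw [mul_assoc, mul_assoc, left_eq_mul] at h2
      rw [mul_assoc]; exact h2
    have h5 : ζ⁻¹ * ζ⁻¹ = 1 := by rw [← mul_inv_rev, (hC ζ hf).1, inv_one]
    rw [h5, one_mul] at h4
    show α x = x
    rw [h1, h4, mul_one]

theorem central_prod (x : H) : x * α x * α (α x) ∈ fixedSub α := by
  obtain ⟨hn, β, hβ, h3, hfix⟩ := central_fpf_quot α hα hC
  have := fpf_prod β h3 hfix (QuotientGroup.mk x)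
  rwa [hβ, hβ, ← QuotientGroup.mk_mul, ← QuotientGroup.mk_mul, QuotientGroup.eq_one_iff] at this

theorem central_comm_conj (x g : H) :
    ⁅g * x * g⁻¹, α x⁆ ∈ fixedSub α ∧ ⁅g * x * g⁻¹, x⁆ ∈ fixedSub α := by
  obtain ⟨hn, β, hβ, h3, hfix⟩ := central_fpf_quot α hα hC
  obtain ⟨h1, h2⟩ := fpf_comm_conj β h3 hfix (QuotientGroup.mk x) (QuotientGroup.mk g)
  rw [hβ] at h1
  simp only [commutatorElement_def]
  constructor <;> rw [← QuotientGroup.eq_one_iff] <;>
    simp only [QuotientGroup.mk_mul, QuotientGroup.mk_inv]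
  · rw [h1.eq]; group
  · rw [h2.eq]; group

/-- An invariant subgroup containing the fixed points contains `r` as soon as it contains `r⁻¹ α r`. -/
theorem central_mem (N : Subgroup H) (hCN : ∀ c, α c = c → c ∈ N) (hN : ∀ x ∈ N, α x ∈ N) {r : H}
    (hr : r⁻¹ * α r ∈ N) : r ∈ N := by
  obtain ⟨hn, β, hβ, h3, hfix⟩ := central_fpf_quot α hα hC
  have h := fpf_mem β hfix (N.map (QuotientGroup.mk' _)) (by
      rintro _ ⟨x, hx, rfl⟩
      exact ⟨α x, hN x hx, (hβ x).symm⟩)
    (r := QuotientGroup.mk r) ⟨_, hr, by rw [hβ]; rfl⟩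
  obtain ⟨y, hy, hyr⟩ := h
  have hyr' : y⁻¹ * r ∈ fixedSub α := QuotientGroup.eq.1 hyr
  have := mul_mem hy (hCN _ hyr')
  rwa [mul_inv_cancel_left] at this

end Central

end CfsgLib.CubicBlock
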