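import Mathlib

/-!
A cubic unipotent `b` of small rank on a space over the field with three elements, and a four group
normalised but not centralised by it.
-/

set_option autoImplicit false

namespace CfsgLib.CubicBlock

variable {S E : Type*} [Group S] [AddCommGroup E] [Module (ZMod 3) E]

/-- Scalars `1`, `-1`, `0`. -/
theorem zmod3_cases (a : ZMod 3) : a = 0 ∨ a = 1 ∨ a = -1 := by revert a; decide

theorem rho_mul (ρ : Representation (ZMod 3) S E) (g h : S) (v : E) : ρ (g * h) v = ρ g (ρ h v) := by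
  rw [map_mul, Module.End.mul_apply]

theorem three_eq_zero (v : E) : v + v + v = 0 := by
  have h : (3 : ZMod 3) • v = 0 := by rw [show (3 : ZMod 3) = 0 from rfl, zero_smul]
  rw [show (3 : ZMod 3) = 1 + 1 + 1 from rfl, add_smul, add_smul, one_smul] at h
  exact h

theorem eq_zero_of_eq_neg {v : E} (h : v = -v) : v = 0 := by
  have h3 := three_eq_zero v
  have h2 : v + v = 0 := by nth_rw 2 [h]; exact add_neg_cancel v
  rwa [h2, zero_add] at h3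

/-- The four group `⟨q₁, q₂⟩` with a triple of lines `w, bw, b²w`. -/
structure FourData (ρ : Representation (ZMod 3) S E) (b q₁ q₂ : S) : Prop where
  sq₁ : q₁ * q₁ = 1
  sq₂ : q₂ * q₂ = 1
  comm : q₁ * q₂ = q₂ * q₁
  conj₁ : b * q₁ * b⁻¹ = q₂
  conj₂ : b * q₂ * b⁻¹ = q₁ * q₂
  cube : b ^ 3 = 1

namespace FourData

variable {ρ : Representation (ZMod 3) S E} {b q₁ q₂ : S}

theorem q1_b (h : FourData ρ b q₁ q₂) (v : E) : ρ (q₁ * q₂) (ρ b v) = ρ b (ρ q₂ v) := by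
  rw [← rho_mul, ← rho_mul, ← h.conj₂]; group

theorem q2_b (h : FourData ρ b q₁ q₂) (v : E) : ρ q₂ (ρ b v) = ρ b (ρ q₁ v) := by
  rw [← rho_mul, ← rho_mul, ← h.conj₁]; group

theorem b3 (h : FourData ρ b q₁ q₂) (v : E) : ρ b (ρ b (ρ b v)) = v := by
  rw [← rho_mul, ← rho_mul, show b * b * b = 1 by rw [← h.cube, pow_succ, pow_two], map_one,
    Module.End.one_apply]

theorem q11 (h : FourData ρ b q₁ q₂) (v : E) : ρ q₁ (ρ q₁ v) = v := by
  rw [← rho_mul, h.sq₁, map_one, Module.End.one_apply]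

theorem q22 (h : FourData ρ b q₁ q₂) (v : E) : ρ q₂ (ρ q₂ v) = v := by
  rw [← rho_mul, h.sq₂, map_one, Module.End.one_apply]

theorem q21 (h : FourData ρ b q₁ q₂) (v : E) : ρ q₂ (ρ q₁ v) = ρ q₁ (ρ q₂ v) := by
  rw [← rho_mul, ← rho_mul, h.comm]

theorem q1_b' (h : FourData ρ b q₁ q₂) (v : E) : ρ q₁ (ρ b v) = ρ b (ρ q₁ (ρ q₂ v)) := by
  have h1 := h.q1_b (ρ q₂ v)
  rw [h.q22, rho_mul, h.q2_b] at h1
  have h2 := congrArg (ρ q₁) h1
  rw [h.q11] at h2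
  exact h2.symm

/-- The `(+,-)` eigenspace. -/
def IsLineVec (ρ : Representation (ZMod 3) S E) (q₁ q₂ : S) (w : E) : Prop := ρ q₁ w = w ∧ ρ q₂ w = -w

/-- The common fixed points of the four group. -/
def IsFix (ρ : Representation (ZMod 3) S E) (q₁ q₂ : S) (c : E) : Prop := ρ q₁ c = c ∧ ρ q₂ c = c

theorem bw (h : FourData ρ b q₁ q₂) {w : E} (hw : IsLineVec ρ q₁ q₂ w) :
    ρ q₁ (ρ b w) = -ρ b w ∧ ρ q₂ (ρ b w) = ρ b w := by
  constructor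
  · rw [h.q1_b', hw.2, map_neg, hw.1, map_neg]
  · rw [h.q2_b, hw.1]

theorem bbw (h : FourData ρ b q₁ q₂) {w : E} (hw : IsLineVec ρ q₁ q₂ w) :
    ρ q₁ (ρ b (ρ b w)) = -ρ b (ρ b w) ∧ ρ q₂ (ρ b (ρ b w)) = -ρ b (ρ b w) := by
  obtain ⟨h1, h2⟩ := h.bw hw
  constructor
  · rw [h.q1_b', h2, h1, map_neg]
  · rw [h.q2_b, h1, map_neg]

theorem line_decomp (h : FourData ρ b q₁ q₂) (v : E) :
    ∃ c w₁ w₂ w₃ : E, IsFix ρ q₁ q₂ c ∧ IsLineVec ρ q₁ q₂ w₁ ∧ IsLineVec ρ q₁ q₂ w₂ ∧ IsLineVec ρ q₁ q₂ w₃ ∧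
      v = c + w₁ + ρ b w₂ + ρ b (ρ b w₃) := by
  -- the four projections, `4 = 1` in the field
  obtain ⟨x, hx⟩ : ∃ x, x = ρ q₁ v := ⟨_, rfl⟩
  obtain ⟨y, hy⟩ : ∃ y, y = ρ q₂ v := ⟨_, rfl⟩
  obtain ⟨z, hz⟩ : ∃ z, z = ρ q₁ (ρ q₂ v) := ⟨_, rfl⟩
  have e1x : ρ q₁ x = v := hx ▸ h.q11 v
  have e1y : ρ q₁ y = z := by rw [hy, hz]
  have e1z : ρ q₁ z = y := by rw [hz, h.q11, hy]
  have e2x : ρ q₂ x = z := by rw [hx, h.q21, hz]
  have e2y : ρ q₂ y = v := hy ▸ h.q22 v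
  have e2z : ρ q₂ z = x := by rw [hz, h.q21, h.q22, hx]
  obtain ⟨u₂, hu₂⟩ : ∃ u, u = v - x + y - z := ⟨_, rfl⟩
  obtain ⟨u₃, hu₃⟩ : ∃ u, u = v - x - y + z := ⟨_, rfl⟩
  have a2 : ρ q₁ u₂ = -u₂ ∧ ρ q₂ u₂ = u₂ := by
    subst hu₂
    simp only [map_add, map_sub, ← hx, ← hy, e1x, e1y, e1z, e2x, e2y, e2z]
    constructor <;> abel
  have a3 : ρ q₁ u₃ = -u₃ ∧ ρ q₂ u₃ = -u₃ := by
    subst hu₃
    simp only [map_add, map_sub, ← hx, ← hy, e1x, e1y, e1z, e2x, e2y, e2z]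
    constructor <;> abel
  refine ⟨v + x + y + z, v + x - y - z, ρ b (ρ b u₂), ρ b u₃, ?_, ?_, ?_, ?_, ?_⟩
  · simp only [IsFix, map_add, ← hx, ← hy, e1x, e1y, e1z, e2x, e2y, e2z]; constructor <;> abel
  · simp only [IsLineVec, map_add, map_sub, ← hx, ← hy, e1x, e1y, e1z, e2x, e2y, e2z]; constructor <;> abel
  · constructor
    · rw [h.q1_b', h.q2_b, a2.1, map_neg, map_neg, h.q1_b', a2.2, a2.1]; simp
    · rw [h.q2_b, h.q1_b', a2.2, a2.1, map_neg, map_neg]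
  · constructor
    · rw [h.q1_b', a3.2, map_neg, a3.1, neg_neg]
    · rw [h.q2_b, a3.1, map_neg]
  · rw [h.b3, h.b3, hu₂, hu₃]
    have h3 := three_eq_zero v
    calc v = v + (v + v + v) := by rw [h3, add_zero]
      _ = _ := by abel

theorem unique (h : FourData ρ b q₁ q₂) {c w₁ w₂ w₃ : E} (hc : IsFix ρ q₁ q₂ c)
    (h₁ : IsLineVec ρ q₁ q₂ w₁) (h₂ : IsLineVec ρ q₁ q₂ w₂) (h₃ : IsLineVec ρ q₁ q₂ w₃)
    (h0 : c + w₁ + ρ b w₂ + ρ b (ρ b w₃) = 0) : c = 0 ∧ w₁ = 0 ∧ w₂ = 0 ∧ w₃ = 0 := by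
  obtain ⟨u₂, hu₂⟩ : ∃ u, u = ρ b w₂ := ⟨_, rfl⟩
  obtain ⟨u₃, hu₃⟩ : ∃ u, u = ρ b (ρ b w₃) := ⟨_, rfl⟩
  have a2 := h.bw h₂
  have a3 := h.bbw h₃
  rw [← hu₂] at a2
  rw [← hu₃] at a3
  rw [← hu₂, ← hu₃] at h0
  have e1 : c + w₁ - u₂ - u₃ = 0 := by
    have := congrArg (ρ q₁) h0
    simp only [map_add, map_zero, hc.1, h₁.1, a2.1, a3.1] at this
    rw [← this]; abel
  have e2 : c - w₁ + u₂ - u₃ = 0 := by
    have := congrArg (ρ q₂) h0
    simp only [map_add, map_zero, hc.2, h₁.2, a2.2, a3.2] at this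
    rw [← this]; abel
  have e3 : c - w₁ - u₂ + u₃ = 0 := by
    have := congrArg (ρ q₂) (congrArg (ρ q₁) h0)
    simp only [map_add, map_zero, map_neg, hc.1, hc.2, h₁.1, h₁.2, a2.1, a3.1, a2.2, a3.2, neg_neg] at this
    rw [← this]; abel
  have k : ∀ x : E, x + x + x + x = x := fun x => by rw [three_eq_zero x, zero_add]
  have r0 : c = 0 := by
    have : c + c + c + c = 0 := by
      calc c + c + c + c = (c + w₁ + u₂ + u₃) + (c + w₁ - u₂ - u₃) + (c - w₁ + u₂ - u₃) + (c - w₁ - u₂ + u₃) := by abel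
        _ = 0 := by rw [h0, e1, e2, e3]; simp
    rwa [k] at this
  have r1 : w₁ = 0 := by
    have : w₁ + w₁ + w₁ + w₁ = 0 := by
      calc w₁ + w₁ + w₁ + w₁ = (c + w₁ + u₂ + u₃) + (c + w₁ - u₂ - u₃) - (c - w₁ + u₂ - u₃) - (c - w₁ - u₂ + u₃) := by abel
        _ = 0 := by rw [h0, e1, e2, e3]; simp
    rwa [k] at this
  have r2 : u₂ = 0 := by
    have : u₂ + u₂ + u₂ + u₂ = 0 := by
      calc u₂ + u₂ + u₂ + u₂ = (c + w₁ + u₂ + u₃) - (c + w₁ - u₂ - u₃) + (c - w₁ + u₂ - u₃) - (c - w₁ - u₂ + u₃) := by abel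
        _ = 0 := by rw [h0, e1, e2, e3]; simp
    rwa [k] at this
  have r3 : u₃ = 0 := by rwa [r0, r1, r2, zero_add, zero_add, zero_add] at h0
  subst hu₂ hu₃
  refine ⟨r0, r1, ?_, ?_⟩
  · have := congrArg (fun x => ρ b (ρ b x)) r2
    simpa [h.b3] using this
  · have := congrArg (ρ b) r3
    simpa [h.b3] using this

theorem lineVec_zero : IsLineVec ρ q₁ q₂ (0 : E) := by simp [IsLineVec]

theorem fix_zero : IsFix ρ q₁ q₂ (0 : E) := by simp [IsFix]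

theorem lineVec_sub {u v : E} (hu : IsLineVec ρ q₁ q₂ u) (hv : IsLineVec ρ q₁ q₂ v) :
    IsLineVec ρ q₁ q₂ (u - v) := by
  constructor
  · rw [map_sub, hu.1, hv.1]
  · rw [map_sub, hu.2, hv.2]; abel

theorem lineVec_smul {u : E} (hu : IsLineVec ρ q₁ q₂ u) (a : ZMod 3) : IsLineVec ρ q₁ q₂ (a • u) := by
  constructor
  · rw [map_smul, hu.1]
  · rw [map_smul, hu.2, smul_neg]

theorem fix_b (h : FourData ρ b q₁ q₂) {c : E} (hc : IsFix ρ q₁ q₂ c) : IsFix ρ q₁ q₂ (ρ b c) := by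
  constructor
  · rw [h.q1_b', hc.2, hc.1]
  · rw [h.q2_b, hc.1]

/-- A vanishing `(b - 1)²` kills the lines. -/
theorem eq_zero_of_dd (h : FourData ρ b q₁ q₂) {w : E} (hw : IsLineVec ρ q₁ q₂ w)
    (hd : ρ b (ρ b w) + ρ b w + w = 0) : w = 0 :=
  (h.unique fix_zero hw hw hw (by rw [zero_add, ← hd]; abel)).2.1

theorem image_injective (h : FourData ρ b q₁ q₂) {u u' v v' c d : E}
    (hu : IsLineVec ρ q₁ q₂ u) (hu' : IsLineVec ρ q₁ q₂ u') (hv : IsLineVec ρ q₁ q₂ v)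
    (hv' : IsLineVec ρ q₁ q₂ v') (hc : IsFix ρ q₁ q₂ c) (hd : IsFix ρ q₁ q₂ d)
    (he : ρ b (c + u + ρ b u') - (c + u + ρ b u') = ρ b (d + v + ρ b v') - (d + v + ρ b v')) :
    u = v ∧ u' = v' ∧ ρ b c - c = ρ b d - d := by
  have hk := h.unique (c := (ρ b c - c) - (ρ b d - d)) (w₁ := v - u) (w₂ := (u - u') - (v - v'))
    (w₃ := u' - v') ?_ (lineVec_sub hv hu) (lineVec_sub (lineVec_sub hu hu') (lineVec_sub hv hv'))
    (lineVec_sub hu' hv') ?_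
  · obtain ⟨k0, k1, -, k3⟩ := hk
    exact ⟨(sub_eq_zero.1 k1).symm, sub_eq_zero.1 k3, sub_eq_zero.1 k0⟩
  · have a := h.fix_b hc
    have a' := h.fix_b hd
    constructor <;> simp only [map_sub, a.1, a.2, a'.1, a'.2, hc.1, hc.2, hd.1, hd.2]
  · simp only [map_add, map_sub] at he ⊢
    rw [← sub_eq_zero] at he
    rw [← he]; abel

variable [Finite E]

/-- With a rank two cube, the lines are one dimensional and `b` fixes the common fixed points. -/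
theorem coords (h : FourData ρ b q₁ q₂)
    (hrank : Nat.card (Set.range fun v : E => ρ b v - v) ≤ 9) (hne : ∃ v, ρ q₁ v ≠ v) :
    ∃ w : E, w ≠ 0 ∧ IsLineVec ρ q₁ q₂ w ∧ (∀ u, IsLineVec ρ q₁ q₂ u → ∃ a : ZMod 3, u = a • w) ∧
      (∀ c, IsFix ρ q₁ q₂ c → ρ b c = c) ∧
      ∀ v : E, ∃ c, IsFix ρ q₁ q₂ c ∧ ∃ a₁ a₂ a₃ : ZMod 3,
        v = c + a₁ • w + a₂ • ρ b w + a₃ • ρ b (ρ b w) := by
  obtain ⟨w, hw0, hw⟩ : ∃ w, w ≠ 0 ∧ IsLineVec ρ q₁ q₂ w := by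
    by_contra hcon
    push Not at hcon
    obtain ⟨v, hv⟩ := hne
    obtain ⟨c, w₁, w₂, w₃, hc, h₁, h₂, h₃, rfl⟩ := h.line_decomp v
    have z : ∀ u, IsLineVec ρ q₁ q₂ u → u = 0 := fun u hu => by_contra fun hu0 => hcon u hu0 hu
    rw [z _ h₁, z _ h₂, z _ h₃] at hv
    simp only [map_zero, add_zero] at hv
    exact hv hc.1
  let L := {u : E // IsLineVec ρ q₁ q₂ u}
  let g : ZMod 3 → L := fun a => ⟨a • w, lineVec_smul hw a⟩
  have hg : Function.Injective g := by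
    intro a a' he
    have he' : a • w = a' • w := congrArg Subtype.val he
    by_contra hne'
    rw [← sub_eq_zero, ← sub_smul] at he'
    rcases smul_eq_zero.1 he' with h' | h'
    · exact hne' (sub_eq_zero.1 h')
    · exact hw0 h'
  have hL3 : 3 ≤ Nat.card L := by
    have := Nat.card_le_card_of_injective g hg
    rwa [Nat.card_zmod] at this
  have hfix : ∀ c, IsFix ρ q₁ q₂ c → ρ b c = c := by
    intro c hc
    by_contra hbc
    let C : Bool → E := fun s => if s then c else 0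
    let f : L × L × Bool → Set.range fun v : E => ρ b v - v := fun t =>
      ⟨_, C t.2.2 + t.1.1 + ρ b t.2.1.1, rfl⟩
    have hf : Function.Injective f := by
      rintro ⟨⟨u, hu⟩, ⟨u', hu'⟩, s⟩ ⟨⟨v, hv⟩, ⟨v', hv'⟩, t⟩ he
      have hC : ∀ r, IsFix ρ q₁ q₂ (C r) := fun r => by cases r <;> simp [C, fix_zero, hc]
      obtain ⟨k1, k2, k3⟩ := h.image_injective hu hu' hv hv' (hC s) (hC t) (congrArg Subtype.val he)
      subst k1 k2
      congr 2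
      cases s <;> cases t <;> simp [C, sub_eq_zero] at k3 ⊢
      · exact hbc (sub_eq_zero.1 k3.symm)
      · exact hbc k3
    have h18 := (Nat.card_le_card_of_injective f hf).trans hrank
    rw [Nat.card_prod, Nat.card_prod] at h18
    simp only [Nat.card_eq_fintype_card (α := Bool), Fintype.card_bool] at h18
    nlinarith
  have hL : Nat.card L ≤ 3 := by
    let f : L × L → Set.range fun v : E => ρ b v - v := fun t => ⟨_, 0 + t.1.1 + ρ b t.2.1, rfl⟩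
    have hf : Function.Injective f := by
      rintro ⟨⟨u, hu⟩, ⟨u', hu'⟩⟩ ⟨⟨v, hv⟩, ⟨v', hv'⟩⟩ he
      obtain ⟨k1, k2, -⟩ := h.image_injective hu hu' hv hv' fix_zero fix_zero (congrArg Subtype.val he)
      subst k1 k2
      rfl
    have h9 := (Nat.card_le_card_of_injective f hf).trans hrank
    rw [Nat.card_prod] at h9
    nlinarith
  have hsur : ∀ u, IsLineVec ρ q₁ q₂ u → ∃ a : ZMod 3, u = a • w := by
    intro u hu
    have hb : Function.Bijective g := (Nat.bijective_iff_injective_and_card g).2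
      ⟨hg, by rw [Nat.card_zmod]; omega⟩
    obtain ⟨a, ha⟩ := hb.2 ⟨u, hu⟩
    exact ⟨a, (congrArg Subtype.val ha).symm⟩
  refine ⟨w, hw0, hw, hsur, hfix, fun v => ?_⟩
  obtain ⟨c, w₁, w₂, w₃, hc, h₁, h₂, h₃, rfl⟩ := h.line_decomp v
  obtain ⟨a₁, rfl⟩ := hsur _ h₁
  obtain ⟨a₂, rfl⟩ := hsur _ h₂
  obtain ⟨a₃, rfl⟩ := hsur _ h₃
  exact ⟨c, hc, a₁, a₂, a₃, by simp only [map_smul]⟩

end FourData

end CfsgLib.CubicBlock
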