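import Cfsg.Agent.Lib.CubicBlock.CentralCase
import Mathlib.GroupTheory.GroupAction.Jordan
import Mathlib.GroupTheory.SpecificGroups.Alternating.Simple

/-!
`b` moving the centre of the self-centralizing `2`-subgroup: the lines are at most four.
-/

set_option autoImplicit false
set_option linter.unusedSectionVars false

open scoped Pointwise

namespace CfsgLib.CubicBlock

variable {S E : Type*} [Group S] [Finite S] [AddCommGroup E] [Module (ZMod 3) E] [Finite E]
  {ρ : Representation (ZMod 3) S E} {b q₁ q₂ : S} {R : Subgroup S} {F : Submodule (ZMod 3) E}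

/-- A transitive solvable permutation group generated by conjugates of one three-cycle has degree at most four. -/
theorem degree_le_four {α : Type*} [Fintype α] [DecidableEq α] (G : Subgroup (Equiv.Perm α))
    [Group.IsSolvable G] (htrans : ∀ a c : α, ∃ g ∈ G, g a = c) {σ : Equiv.Perm α} (hσ : σ.IsThreeCycle) (hσG : σ ∈ G)
    (hgen : ∀ X : Subgroup (Equiv.Perm α), (∀ g ∈ G, g * σ * g⁻¹ ∈ X) → G ≤ X) : Fintype.card α ≤ 4 := by
  by_contra hcon
  push Not at hcon
  have : MulAction.IsPretransitive G α := ⟨fun a c => by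
    obtain ⟨g, hg, hgc⟩ := htrans a c; exact ⟨⟨g, hg⟩, hgc⟩⟩
  have hprim : MulAction.IsPreprimitive G α := ⟨fun {B} hB => by
    by_contra htriv
    rw [MulAction.IsTrivialBlock, not_or] at htriv
    obtain ⟨hsub, huniv⟩ := htriv
    rw [Set.not_subsingleton_iff] at hsub
    have hfixB : ∀ g ∈ G, ∀ a ∈ B, (g * σ * g⁻¹) a ∈ B := by
      intro g hg a ha
      by_contra hout
      set τ := g * σ * g⁻¹ with hτ
      have hτG : τ ∈ G := mul_mem (mul_mem hg hσG) (inv_mem hg)
      have hτ3 : τ.IsThreeCycle := by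
        rw [← card_support_eq_three_iff, Equiv.Perm.card_support_conj, hσ.card_support]
      -- the whole block moves, as do its images
      have hdisj : ∀ i ∈ B, τ i ∉ B := by
        intro i hi hτi
        rcases MulAction.isBlock_iff_smul_eq_or_disjoint.1 hB ⟨τ, hτG⟩ with he | hd
        · exact hout (he ▸ ⟨a, ha, rfl⟩)
        · exact Set.disjoint_left.1 hd ⟨i, hi, rfl⟩ hτi
      have hdisj2 : ∀ i ∈ B, τ (τ i) ∉ B := by
        intro i hi hτi
        have h3 : τ (τ (τ i)) = i := by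
          have := DFunLike.congr_fun (pow_orderOf_eq_one τ) i
          rw [hτ3.orderOf, pow_succ, pow_two] at this
          simpa using this
        exact hdisj _ hτi (h3.symm ▸ hi)
      obtain ⟨i, hi, j, hj, hij⟩ := hsub
      have hs : ∀ k ∈ B, k ∈ τ.support ∧ τ k ∈ τ.support := fun k hk => by
        have : k ∈ τ.support := Equiv.Perm.mem_support.2 fun e => hdisj k hk (e.symm ▸ hk)
        exact ⟨this, Equiv.Perm.apply_mem_support.2 this⟩
      have h4 : ({i, j, τ i, τ j} : Finset α) ⊆ τ.support := by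
        intro k hk
        simp only [Finset.mem_insert, Finset.mem_singleton] at hk
        rcases hk with rfl | rfl | rfl | rfl
        exacts [(hs _ hi).1, (hs _ hj).1, (hs _ hi).2, (hs _ hj).2]
      have hc := Finset.card_le_card h4
      rw [hτ3.card_support, Finset.card_insert_of_notMem, Finset.card_insert_of_notMem,
        Finset.card_insert_of_notMem, Finset.card_singleton] at hc
      · omega
      · simp [hij]
      · simp only [Finset.mem_insert, Finset.mem_singleton, not_or]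
        exact ⟨fun e => hdisj i hi (e ▸ hj), fun e => hdisj j hj (e ▸ hj)⟩
      · simp only [Finset.mem_insert, Finset.mem_singleton, not_or]
        exact ⟨hij, fun e => hdisj i hi (e ▸ hi), fun e => hdisj j hj (e ▸ hi)⟩
    refine huniv (Set.eq_univ_of_forall fun c => ?_)
    obtain ⟨a, ha, -⟩ := hsub
    obtain ⟨g, hg, hgc⟩ := htrans a c
    have hX : G ≤ MulAction.stabilizer (Equiv.Perm α) B := hgen _ fun g hg => by
      rw [MulAction.mem_stabilizer_iff]
      refine Set.eq_of_subset_of_ncard_le ?_ ?_ B.toFinite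
      · rintro _ ⟨a, ha, rfl⟩
        exact hfixB g hg a ha
      · rw [Set.ncard_smul_set]
    have := MulAction.mem_stabilizer_iff.1 (hX hg)
    rw [← hgc, ← this]
    exact ⟨a, ha, rfl⟩⟩
  have hA := Equiv.Perm.alternatingGroup_le_of_isPreprimitive_of_isThreeCycle_mem hprim hσ hσG
  have hsim := alternatingGroup.isSimpleGroup (α := α) (by rw [Nat.card_eq_fintype_card]; omega)
  have hsol : Group.IsSolvable (alternatingGroup α) :=
    Group.isSolvable_of_isSolvable_injective (f := Subgroup.inclusion hA) (Subgroup.inclusion_injective hA)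
  have : Group.IsSolvable (Equiv.Perm α) :=
    Group.isSolvable_of_ker_le_range (alternatingGroup α).subtype (Equiv.Perm.sign) (fun x hx => ⟨⟨x, hx⟩, rfl⟩)
  exact Equiv.Perm.not_isSolvable α (by rw [Cardinal.mk_fintype]; exact_mod_cast hcon) this

namespace Setting

/-- An involution in the centre of `U` moved by `b`. -/
theorem exists_moved (_h : Setting ρ b q₁ q₂ R F) {U : Subgroup S} (hU2 : IsPGroup 2 U)
    (hUb : ∀ x ∈ U, b * x * b⁻¹ ∈ U) : ∀ n, ∀ x ∈ U, (∀ u ∈ U, x * u = u * x) → orderOf x ≤ n → b * x ≠ x * b →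
    ∃ x ∈ U, (∀ u ∈ U, x * u = u * x) ∧
      x⁻¹ * (b * x * b⁻¹) * (x⁻¹ * (b * x * b⁻¹)) = 1 ∧ x⁻¹ * (b * x * b⁻¹) ≠ 1 := by
  intro n
  induction n with
  | zero => intro x _ _ hn; have := orderOf_pos x; omega
  | succ n ih =>
    intro x hx hxc hn hxb
    have hne : x⁻¹ * (b * x * b⁻¹) ≠ 1 := fun e => hxb (by
      rw [inv_mul_eq_one] at e; nth_rw 2 [e]; group)
    by_cases h2 : x⁻¹ * (b * x * b⁻¹) * (x⁻¹ * (b * x * b⁻¹)) = 1
    · exact ⟨x, hx, hxc, h2, hne⟩
    have hcomm := hxc _ (hUb x hx)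
    refine ih (x * x) (mul_mem hx hx) (fun u hu => (Commute.mul_left (hxc u hu) (hxc u hu)).eq) ?_ fun e => h2 ?_
    · obtain ⟨k, hk⟩ := hU2 ⟨x, hx⟩
      have hk' : x ^ 2 ^ k = 1 := congrArg Subtype.val hk
      obtain ⟨j, hj, hjo⟩ := (Nat.dvd_prime_pow Nat.prime_two).1 (orderOf_dvd_of_pow_eq_one hk')
      have hx1 : x ≠ 1 := fun e => hxb (by simp [e])
      have hj0 : j ≠ 0 := by rintro rfl; exact hx1 (orderOf_eq_one_iff.1 hjo)
      rw [← pow_two, orderOf_pow' x two_ne_zero]
      have hg : Nat.gcd (orderOf x) 2 = 2 := Nat.gcd_eq_right (hjo ▸ dvd_pow_self 2 hj0)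
      rw [hg]
      omega
    · have e' : b * (x * x) * b⁻¹ = x * x := by rw [e, mul_inv_cancel_right]
      calc x⁻¹ * (b * x * b⁻¹) * (x⁻¹ * (b * x * b⁻¹))
          = x⁻¹ * ((b * x * b⁻¹) * x⁻¹) * (b * x * b⁻¹) := by group
        _ = x⁻¹ * (x⁻¹ * (b * x * b⁻¹)) * (b * x * b⁻¹) := by rw [← (Commute.inv_left hcomm).eq]
        _ = (x * x)⁻¹ * (b * (x * x) * b⁻¹) := by group
        _ = 1 := by rw [e', inv_mul_cancel]

set_option maxHeartbeats 600000 in
/-- A moved central involution: at most four lines. -/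
theorem card_le_of_moved (h : Setting ρ b q₁ q₂ R F) [Group.IsSolvable S] (U : Subgroup S) (hUR : U ≤ R)
    (hU2 : IsPGroup 2 U) (hUn : ∀ r ∈ R, ∀ x ∈ U, r⁻¹ * x * r ∈ U) (hUb : ∀ x ∈ U, b⁻¹ * x * b ∈ U)
    {x₁ : S} (hx₁ : x₁ ∈ U) (hx₁c : ∀ u ∈ U, x₁ * u = u * x₁) (hx₁b : b * x₁ ≠ x₁ * b) : Nat.card F ≤ 81 := by
  classical
  have hb2 : b⁻¹ = b * b := inv_eq_of_mul_eq_one_left (by rw [← h.four.cube, pow_succ, pow_two])
  have hUb' : ∀ x ∈ U, b * x * b⁻¹ ∈ U := fun x hx => by
    have := hUb _ (hUb x hx)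
    rw [show b⁻¹ * (b⁻¹ * x * b) * b = (b * b)⁻¹ * x * (b * b) by group, ← hb2, inv_inv] at this
    exact this
  obtain ⟨x, hx, hxc, hy2, hy1⟩ := h.exists_moved hU2 hUb' _ x₁ hx₁ hx₁c le_rfl hx₁b
  obtain ⟨y, hy⟩ : ∃ y, y = x⁻¹ * (b * x * b⁻¹) := ⟨_, rfl⟩
  rw [← hy] at hy2 hy1
  obtain ⟨hfour, hyR, hy'R, hne⟩ := h.fourData_of (hUR hx) hy hy2 hy1
  obtain ⟨w, hw0, hw, huniq, hbfix, -⟩ := hfour.coords h.rank hne
  have hwF := h.line_mem hyR hy'R hw
  have hbw := hfour.bw hw
  have hbbw := hfour.bbw hw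
  -- the elementary abelian central subgroup
  let A : Set S := {a | a ∈ U ∧ a * a = 1 ∧ ∀ u ∈ U, a * u = u * a}
  have hAc : ∀ g : S, (∀ t ∈ U, g⁻¹ * t * g ∈ U) → (∀ t ∈ U, g * t * g⁻¹ ∈ U) → ∀ a ∈ A, g⁻¹ * a * g ∈ A := by
    rintro g hg hg' a ⟨ha, ha2, hac⟩
    refine ⟨hg a ha, ?_, fun u hu => ?_⟩
    · calc g⁻¹ * a * g * (g⁻¹ * a * g) = g⁻¹ * (a * a) * g := by group
        _ = 1 := by rw [ha2]; group
    · calc g⁻¹ * a * g * u = g⁻¹ * (a * (g * u * g⁻¹)) * g := by group
        _ = g⁻¹ * (g * u * g⁻¹ * a) * g := by rw [hac _ (hg' u hu)]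
        _ = _ := by group
  have hyU : y ∈ U := hy ▸ mul_mem (inv_mem hx) (hUb' x hx)
  have hyA : y ∈ A := by
    refine ⟨hyU, hy2, fun u hu => ?_⟩
    have hbx : ∀ u ∈ U, b * x * b⁻¹ * u = u * (b * x * b⁻¹) := fun u hu => by
      have := hxc _ (hUb u hu)
      calc b * x * b⁻¹ * u = b * (x * (b⁻¹ * u * b)) * b⁻¹ := by group
        _ = b * (b⁻¹ * u * b * x) * b⁻¹ := by rw [this]
        _ = _ := by group
    rw [hy]
    exact (Commute.mul_left (Commute.inv_left (hxc u hu)) (hbx u hu)).eq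
  have hy'A : b * y * b⁻¹ ∈ A := by
    have := hAc b⁻¹ (fun t ht => by rw [inv_inv]; exact hUb' t ht) (fun t ht => by rw [inv_inv]; exact hUb t ht) y hyA
    rwa [inv_inv] at this
  -- eigenvectors
  let Eig : E → Prop := fun v => ∀ a ∈ A, ρ a v = v ∨ ρ a v = -v
  have hwE : Eig w := fun a ha => by
    have hca : ∀ t ∈ A, a * t = t * a := fun t ht => ha.2.2 t ht.1
    obtain ⟨l, hl⟩ := huniq (ρ a w) ⟨by rw [← rho_mul, ← hca _ hyA, rho_mul, hw.1],
      by rw [← rho_mul, ← hca _ hy'A, rho_mul, hw.2, map_neg]⟩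
    rcases zmod3_cases l with rfl | rfl | rfl
    · rw [zero_smul] at hl
      exact absurd (by rw [← rho_inv_apply ρ a w, hl, map_zero]) hw0
    · exact Or.inl (by rw [hl, one_smul])
    · exact Or.inr (by rw [hl, neg_one_smul])
  set G₀ := R ⊔ Subgroup.zpowers b with hG₀
  let X : Subgroup S :=
    { carrier := {g | (∀ a ∈ A, g⁻¹ * a * g ∈ A) ∧ (∀ a ∈ A, g * a * g⁻¹ ∈ A)}
      mul_mem' := fun {g k} hg hk => ⟨fun a ha => by
          rw [show (g * k)⁻¹ * a * (g * k) = k⁻¹ * (g⁻¹ * a * g) * k by group]; exact hk.1 _ (hg.1 a ha),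
        fun a ha => by rw [show g * k * a * (g * k)⁻¹ = g * (k * a * k⁻¹) * g⁻¹ by group]; exact hg.2 _ (hk.2 a ha)⟩
      one_mem' := ⟨fun a ha => by simpa using ha, fun a ha => by simpa using ha⟩
      inv_mem' := fun {g} hg => ⟨fun a ha => by rw [inv_inv]; exact hg.2 a ha,
        fun a ha => by rw [inv_inv]; exact hg.1 a ha⟩ }
  have hRX : R ≤ X := fun r hr => by
    have h1 : ∀ t ∈ U, r * t * r⁻¹ ∈ U := fun t ht => by
      have := hUn r⁻¹ (inv_mem hr) t ht; rwa [inv_inv] at this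
    refine ⟨hAc r (hUn r hr) h1, fun a ha => ?_⟩
    have := hAc r⁻¹ (by rw [inv_inv]; exact h1) (by rw [inv_inv]; exact hUn r hr) a ha
    rwa [inv_inv] at this
  have hbX : b ∈ X := ⟨hAc b hUb hUb', fun a ha => by
    have := hAc b⁻¹ (by rw [inv_inv]; exact hUb') (by rw [inv_inv]; exact hUb) a ha
    rwa [inv_inv] at this⟩
  have hGX : G₀ ≤ X := sup_le hRX (Subgroup.zpowers_le.2 hbX)
  let T : Subgroup S :=
    { carrier := {g | (∀ v ∈ F, ρ g v ∈ F) ∧ ∀ v ∈ F, ρ g⁻¹ v ∈ F}
      mul_mem' := fun {g k} hg hk => ⟨fun v hv => by rw [rho_mul]; exact hg.1 _ (hk.1 v hv),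
        fun v hv => by rw [mul_inv_rev, rho_mul]; exact hk.2 _ (hg.2 v hv)⟩
      one_mem' := ⟨fun v hv => by simpa using hv, fun v hv => by simpa using hv⟩
      inv_mem' := fun {g} hg => ⟨hg.2, fun v hv => by rw [inv_inv]; exact hg.1 v hv⟩ }
  have hGT : G₀ ≤ T := sup_le (fun r hr => ⟨h.invR r hr, h.invR _ (inv_mem hr)⟩)
    (Subgroup.zpowers_le.2 ⟨h.invb, fun v hv => by rw [hb2, rho_mul]; exact h.invb _ (h.invb v hv)⟩)
  -- the lines
  let line : E → Set E := fun v => {v, -v}
  let Ω := {L : Set E // ∃ g ∈ G₀, L = line (ρ g w)}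
  have hline : ∀ (g : S) (v : E), (fun t => ρ g t) '' line v = line (ρ g v) := fun g v => by
    simp only [line, Set.image_insert_eq, Set.image_singleton, map_neg]
  let act : G₀ → Ω → Ω := fun g L => ⟨(fun t => ρ g t) '' L.1, by
    obtain ⟨k, hk, e⟩ := L.2
    exact ⟨g * k, mul_mem g.2 hk, by rw [e, hline, rho_mul]⟩⟩
  let : MulAction G₀ Ω :=
    { smul := act
      one_smul := fun L => Subtype.ext (by show (fun t => ρ (1 : S) t) '' L.1 = L.1; simp)
      mul_smul := fun g k L => Subtype.ext (by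
        show (fun t => ρ ((g : S) * k) t) '' L.1 = (fun t => ρ g t) '' ((fun t => ρ k t) '' L.1)
        rw [Set.image_image]; simp only [rho_mul]) }
  have := Fintype.ofFinite Ω
  have hline_eq : ∀ u v : E, u = v ∨ u = -v → line u = line v := by
    rintro u v (rfl | rfl)
    · rfl
    · simp only [line, neg_neg]; exact Set.pair_comm _ _
  let pt : ∀ k : S, k ∈ G₀ → Ω := fun k hk => ⟨line (ρ k w), k, hk, rfl⟩
  have hbG : b ∈ G₀ := Subgroup.mem_sup_right (Subgroup.mem_zpowers b)
  let L₁ := pt 1 (one_mem _)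
  let L₂ := pt b hbG
  let L₃ := pt (b * b) (mul_mem hbG hbG)
  set σ : Equiv.Perm Ω := MulAction.toPermHom G₀ Ω ⟨b, hbG⟩ with hσ
  have hσap : ∀ L : Ω, (σ L).1 = (fun t => ρ b t) '' L.1 := fun L => rfl
  have hmoved : ∀ L : Ω, σ L ≠ L → L = L₁ ∨ L = L₂ ∨ L = L₃ := by
    intro L hL
    obtain ⟨k, hk, e⟩ := L.2
    obtain ⟨v, hv⟩ : ∃ v, v = ρ k w := ⟨_, rfl⟩
    rw [← hv] at e
    have hve : Eig v := fun a ha => by
      have := hwE _ ((hGX hk).1 a ha)
      rw [hv, ← rho_mul, show a * k = k * (k⁻¹ * a * k) by group, rho_mul]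
      rcases this with h1 | h1 <;> rw [h1] <;> simp
    have hb3 := hfour.b3
    have hsign : ∀ (l : ZMod 3) (u : E), v = l • u → v = u ∨ v = -u := fun l u hl => by
      rcases zmod3_cases l with rfl | rfl | rfl
      · rw [zero_smul] at hl
        exact absurd (by rw [← rho_inv_apply ρ k w, ← hv, hl, map_zero]) hw0
      · exact Or.inl (by rw [hl, one_smul])
      · exact Or.inr (by rw [hl, neg_one_smul])
    rcases hve _ hyA with h1 | h1 <;> rcases hve _ hy'A with h2 | h2
    · refine absurd (Subtype.ext ?_) hL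
      rw [hσap, e, hline, hbfix v ⟨h1, h2⟩]
    · obtain ⟨l, hl⟩ := huniq v ⟨h1, h2⟩
      refine Or.inl (Subtype.ext ?_)
      show L.1 = line (ρ 1 w)
      rw [e]; apply hline_eq
      rw [map_one, Module.End.one_apply]
      exact hsign l w hl
    · have hlv : FourData.IsLineVec ρ y (b * y * b⁻¹) (ρ b (ρ b v)) := by
        have e1 := hfour.bw (w := v)
        refine ⟨?_, ?_⟩
        · rw [hfour.q1_b', hfour.q2_b, h1, map_neg, map_neg, hfour.q1_b', h2, h1]; simp
        · rw [hfour.q2_b, hfour.q1_b', h2, h1, map_neg, map_neg]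
      obtain ⟨l, hl⟩ := huniq _ hlv
      refine Or.inr (Or.inl (Subtype.ext ?_))
      show L.1 = line (ρ b w)
      rw [e]; apply hline_eq
      exact hsign l _ (by rw [← map_smul, ← hl, hb3])
    · have hlv : FourData.IsLineVec ρ y (b * y * b⁻¹) (ρ b v) := by
        refine ⟨?_, ?_⟩
        · rw [hfour.q1_b', h2, map_neg, h1, neg_neg]
        · rw [hfour.q2_b, h1, map_neg]
      obtain ⟨l, hl⟩ := huniq _ hlv
      refine Or.inr (Or.inr (Subtype.ext ?_))
      show L.1 = line (ρ (b * b) w)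
      rw [e]; apply hline_eq
      exact hsign l _ (by rw [rho_mul, ← map_smul, ← map_smul, ← hl, hb3])
  have hdist : L₁ ≠ L₂ ∧ L₁ ≠ L₃ ∧ L₂ ≠ L₃ := by
    have hbb : ρ (b * b) w = ρ b (ρ b w) := rho_mul ρ b b w
    have key : ∀ u v : E, ρ b u ≠ 0 → line u = line v → v = u ∨ v = -u := fun u v _ e => by
      have : v ∈ line u := e ▸ Set.mem_insert _ _
      simpa [line] using this
    refine ⟨fun e => hw0 ?_, fun e => hw0 ?_, fun e => hw0 ?_⟩
    · have : ρ b w ∈ line (ρ 1 w) := by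
        rw [show line (ρ 1 w) = line (ρ b w) from congrArg Subtype.val e]; exact Set.mem_insert _ _
      simp only [line, map_one, Module.End.one_apply, Set.mem_insert_iff, Set.mem_singleton_iff] at this
      rcases this with h' | h'
      · have := hbw.1; rw [h', hw.1] at this; exact eq_zero_of_eq_neg this
      · have := hbw.1; rw [h', map_neg, hw.1, neg_neg] at this; exact eq_zero_of_eq_neg this.symm
    · have : ρ b (ρ b w) ∈ line (ρ 1 w) := by
        rw [show line (ρ 1 w) = line (ρ (b * b) w) from congrArg Subtype.val e, hbb]; exact Set.mem_insert _ _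
      simp only [line, map_one, Module.End.one_apply, Set.mem_insert_iff, Set.mem_singleton_iff] at this
      rcases this with h' | h'
      · have := hbbw.1; rw [h', hw.1] at this; exact eq_zero_of_eq_neg this
      · have := hbbw.1; rw [h', map_neg, hw.1, neg_neg] at this; exact eq_zero_of_eq_neg this.symm
    · have : ρ b w ∈ line (ρ (b * b) w) := by
        rw [← show line (ρ b w) = line (ρ (b * b) w) from congrArg Subtype.val e]; exact Set.mem_insert _ _
      simp only [line, hbb, Set.mem_insert_iff, Set.mem_singleton_iff] at this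
      have hz : ρ b w = 0 := by
        rcases this with h' | h'
        · have := hbw.2; nth_rw 1 [h'] at this; rw [hbbw.2, ← h'] at this; exact eq_zero_of_eq_neg this.symm
        · have := hbw.2; nth_rw 1 [h'] at this; rw [map_neg, hbbw.2, ← h'] at this; exact eq_zero_of_eq_neg this.symm
      rw [← rho_inv_apply ρ b w, hz, map_zero]
  obtain ⟨d12, d13, d23⟩ := hdist
  have hσ12 : σ L₁ = L₂ := Subtype.ext (by
    rw [hσap]; show (fun t => ρ b t) '' line (ρ 1 w) = line (ρ b w); rw [hline]; simp)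
  have hσ23 : σ L₂ = L₃ := Subtype.ext (by
    rw [hσap]; show (fun t => ρ b t) '' line (ρ b w) = line (ρ (b * b) w); rw [hline, rho_mul])
  have hσ31 : σ L₃ = L₁ := Subtype.ext (by
    rw [hσap]; show (fun t => ρ b t) '' line (ρ (b * b) w) = line (ρ 1 w)
    rw [hline, rho_mul, hfour.b3]; simp)
  have hthree : σ.IsThreeCycle := by
    have hsup : σ.support = {L₁, L₂, L₃} := by
      ext L
      simp only [Equiv.Perm.mem_support, Finset.mem_insert, Finset.mem_singleton]
      refine ⟨hmoved L, ?_⟩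
      rintro (rfl | rfl | rfl)
      · rw [hσ12]; exact d12.symm
      · rw [hσ23]; exact d23.symm
      · rw [hσ31]; exact d13
    rw [← card_support_eq_three_iff, hsup, Finset.card_insert_of_notMem (by simp [d12, d13]),
      Finset.card_pair d23]
  have hcard : Fintype.card Ω ≤ 4 := by
    set f := MulAction.toPermHom G₀ Ω with hf
    have : Group.IsSolvable f.range := Group.isSolvable_of_surjective f.rangeRestrict_surjective
    refine degree_le_four f.range (fun L M => ?_) hthree ⟨_, rfl⟩ fun Y hY => ?_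
    · obtain ⟨k, hk, e⟩ := L.2
      obtain ⟨m, hm, e'⟩ := M.2
      refine ⟨f ⟨m * k⁻¹, mul_mem hm (inv_mem hk)⟩, ⟨_, rfl⟩, Subtype.ext ?_⟩
      show (fun t => ρ (m * k⁻¹) t) '' L.1 = M.1
      rw [e, hline, e', rho_mul, rho_inv_apply]
    · let W : Subgroup S :=
        { carrier := {g | ∃ hg : g ∈ G₀, f ⟨g, hg⟩ ∈ Y}
          mul_mem' := fun {g k} ⟨hg, hg'⟩ ⟨hk, hk'⟩ => ⟨mul_mem hg hk, by
            have := mul_mem hg' hk'; rwa [← map_mul] at this⟩
          one_mem' := ⟨one_mem _, by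
            rw [show (⟨1, one_mem G₀⟩ : G₀) = 1 from rfl, map_one]; exact one_mem _⟩
          inv_mem' := fun {g} ⟨hg, hg'⟩ => ⟨inv_mem hg, by
            have := inv_mem hg'; rwa [← map_inv] at this⟩ }
      have hbW : b ∈ W := ⟨hbG, by
        have := hY 1 (one_mem _); simp only [one_mul, inv_one, mul_one] at this; exact this⟩
      have hR : R ≤ W := h.gen W fun r hr => by
        have hrG : r ∈ G₀ := Subgroup.mem_sup_left hr
        have h1 := hY (f ⟨r, hrG⟩) ⟨_, rfl⟩
        suffices hc : r * b * r⁻¹ ∈ W from mul_mem hc (inv_mem hbW)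
        refine ⟨mul_mem (mul_mem hrG hbG) (inv_mem hrG), ?_⟩
        rw [show (⟨r * b * r⁻¹, _⟩ : G₀) = ⟨r, hrG⟩ * ⟨b, hbG⟩ * ⟨r, hrG⟩⁻¹ from rfl, map_mul, map_mul, map_inv]
        exact h1
      rintro _ ⟨g, rfl⟩
      obtain ⟨hg, hgY⟩ := sup_le hR (Subgroup.zpowers_le.2 hbW) g.2
      exact hgY
  -- the span
  have hrep : ∀ L : Ω, ∃ v : E, v ∈ F ∧ L.1 = line v := fun L => by
    obtain ⟨k, hk, e⟩ := L.2
    exact ⟨ρ k w, (hGT hk).1 w hwF, e⟩
  choose rep hrepF hrepE using hrep
  let Φ := Fintype.linearCombination (ZMod 3) rep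
  have hspanF : Φ.range ≤ F := by
    rintro _ ⟨a, rfl⟩
    rw [Fintype.linearCombination_apply]
    exact sum_mem fun L _ => F.smul_mem _ (hrepF L)
  have hrange : Φ.range = Submodule.span (ZMod 3) (Set.range rep) := Fintype.range_linearCombination (ZMod 3) rep
  have hperm : ∀ g : G₀, ∀ v ∈ Φ.range, ρ g v ∈ Φ.range := by
    intro g v hv
    rw [hrange] at hv ⊢
    induction hv using Submodule.span_induction with
    | mem v hv =>
      obtain ⟨L, rfl⟩ := hv
      have h1 : ρ g (rep L) ∈ (act g L).1 := ⟨rep L, by rw [hrepE L]; exact Set.mem_insert _ _, rfl⟩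
      rw [hrepE] at h1
      simp only [line, Set.mem_insert_iff, Set.mem_singleton_iff] at h1
      rcases h1 with e | e <;> rw [e]
      · exact Submodule.subset_span ⟨_, rfl⟩
      · exact neg_mem (Submodule.subset_span ⟨_, rfl⟩)
    | zero => rw [map_zero]; exact zero_mem _
    | add u v _ _ hu hv => rw [map_add]; exact add_mem hu hv
    | smul c v _ hv => rw [map_smul]; exact Submodule.smul_mem _ c hv
  have hwR : w ∈ Φ.range := by
    have : w ∈ L₁.1 := by show w ∈ line (ρ 1 w); simp [line]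
    rw [hrepE] at this
    simp only [line, Set.mem_insert_iff, Set.mem_singleton_iff] at this
    rw [hrange]
    rcases this with e | e <;> rw [e]
    · exact Submodule.subset_span ⟨_, rfl⟩
    · exact neg_mem (Submodule.subset_span ⟨_, rfl⟩)
  have hF : Φ.range = F := (h.irred Φ.range hspanF (fun r hr => hperm ⟨r, Subgroup.mem_sup_left hr⟩)
    (hperm ⟨b, hbG⟩)).resolve_left fun e => hw0 (by rwa [e, Submodule.mem_bot] at hwR)
  rw [← hF]
  refine (Nat.card_le_card_of_surjective Φ.rangeRestrict Φ.surjective_rangeRestrict).trans ?_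
  rw [Nat.card_fun, Nat.card_zmod, Nat.card_eq_fintype_card (α := Ω)]
  exact (Nat.pow_le_pow_right (by norm_num) hcard).trans (by norm_num)

/-- `F` has at most `81` vectors. -/
theorem card_le (h : Setting ρ b q₁ q₂ R F) [Group.IsSolvable S] : Nat.card F ≤ 81 := by
  obtain ⟨U, hUR, hU2, hUn, hUb, hCU, -⟩ := h.exists_fit
  by_cases hZ : ∀ x ∈ U, (∀ u ∈ U, x * u = u * x) → b * x = x * b
  · exact h.card_le_of_central U hUR hU2 hUn hUb hCU hZ
  · push Not at hZ
    obtain ⟨x, hx, hxc, hxb⟩ := hZ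
    exact h.card_le_of_moved U hUR hU2 hUn hUb hx hxc hxb

end Setting

end CfsgLib.CubicBlock
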