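import Cfsg.Agent.Lib.CubicBlock.Lines

/-!
An abelian group of order prime to six normalised by the four group and by `b` commutes with `b`.
-/

set_option autoImplicit false

namespace CfsgLib.CubicBlock

variable {S E : Type*} [Group S] [AddCommGroup E] [Module (ZMod 3) E]

theorem rho_inv_apply (ρ : Representation (ZMod 3) S E) (g : S) (v : E) : ρ g⁻¹ (ρ g v) = v := by
  rw [← rho_mul, inv_mul_cancel, map_one, Module.End.one_apply]

theorem rho_apply_inv (ρ : Representation (ZMod 3) S E) (g : S) (v : E) : ρ g (ρ g⁻¹ v) = v := by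
  rw [← rho_mul, mul_inv_cancel, map_one, Module.End.one_apply]

/-- `x - x⁻¹`. -/
def skew (ρ : Representation (ZMod 3) S E) (x : S) : E →ₗ[ZMod 3] E := ρ x - ρ x⁻¹

theorem skew_apply (ρ : Representation (ZMod 3) S E) (x : S) (v : E) : skew ρ x v = ρ x v - ρ x⁻¹ v := rfl

theorem skew_cube (ρ : Representation (ZMod 3) S E) (x : S) (v : E) :
    skew ρ x (skew ρ x (skew ρ x v)) = ρ x (ρ x (ρ x v)) - ρ x⁻¹ (ρ x⁻¹ (ρ x⁻¹ v)) := by
  simp only [skew_apply, map_sub, rho_inv_apply, rho_apply_inv]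
  have h3 := three_eq_zero (ρ x v)
  have h4 := three_eq_zero (ρ x⁻¹ v)
  calc _ = ρ x (ρ x (ρ x v)) - ρ x⁻¹ (ρ x⁻¹ (ρ x⁻¹ v)) - (ρ x v + ρ x v + ρ x v)
        + (ρ x⁻¹ v + ρ x⁻¹ v + ρ x⁻¹ v) := by abel
    _ = _ := by rw [h3, h4]; abel

theorem pow_succ_apply (ρ : Representation (ZMod 3) S E) (x : S) (k : ℕ) (v : E) :
    ρ (x ^ (k + 1)) v = ρ x (ρ (x ^ k) v) := by
  rw [pow_succ', rho_mul]

theorem iterate_apply (ρ : Representation (ZMod 3) S E) (x : S) :
    ∀ (k : ℕ) (v : E), ρ (x ^ k) v = (fun u => ρ x u)^[k] v := by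
  intro k
  induction k with
  | zero => intro v; simp
  | succ k ih => intro v; rw [pow_succ_apply, ih, Function.iterate_succ_apply']

/-- If `T³ = βT` on an invariant set, an element of order prime to six fixes it. -/
theorem fixed_of_skew_cube (ρ : Representation (ZMod 3) S E) (x : S)
    (hx : (orderOf x).Coprime 6) (P : E → Prop) (hP : ∀ v, P v → P (ρ x v)) (β : ZMod 3)
    (hT : ∀ v, P v → skew ρ x (skew ρ x (skew ρ x v)) = β • skew ρ x v) {v : E} (hv : P v) :
    ρ x v = v := by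
  -- the polynomial relation in `y = x²`
  set f : E → E := fun u => ρ x u with hf
  have hrel : ∀ u, P u → f^[6] u - u = β • (f^[4] u - f^[2] u) := by
    intro u hu
    have h0 := hT u hu
    rw [skew_cube, skew_apply] at h0
    have h1 := congrArg (fun t => ρ x (ρ x (ρ x t))) h0
    simp only [map_sub, rho_apply_inv, map_smul] at h1
    simpa [hf, Function.iterate_succ_apply'] using h1
  have h24 : f^[24] v = v := by
    have hPk : ∀ k, P (f^[k] v) := fun k => by
      induction k with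
      | zero => exact hv
      | succ k ih => rw [Function.iterate_succ_apply']; exact hP _ ih
    have E' : ∀ k, f^[k + 6] v - f^[k] v = β • (f^[k + 4] v - f^[k + 2] v) := fun k => by
      have := hrel _ (hPk k)
      rwa [← Function.iterate_add_apply, ← Function.iterate_add_apply, ← Function.iterate_add_apply,
        add_comm 6, add_comm 4, add_comm 2] at this
    rcases zmod3_cases β with rfl | rfl | rfl
    · simp only [zero_smul] at E'
      have h0 : ∀ k, f^[k + 6] v = f^[k] v := fun k => sub_eq_zero.1 (E' k)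
      rw [h0 18, h0 12, h0 6, h0 0]; rfl
    · simp only [one_smul] at E'
      have h0 : ∀ k, f^[k + 8] v = f^[k] v := fun k => by
        rw [← sub_eq_zero]
        calc f^[k + 8] v - f^[k] v
            = (f^[k + 2 + 6] v - f^[k + 2] v - (f^[k + 2 + 4] v - f^[k + 2 + 2] v)) +
              (f^[k + 6] v - f^[k] v - (f^[k + 4] v - f^[k + 2] v)) := by abel
          _ = 0 := by rw [E' (k + 2), E' k]; abel
      rw [h0 16, h0 8, h0 0]; rfl
    · simp only [neg_one_smul] at E'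
      have h0 : ∀ k, f^[k + 12] v = f^[k] v := fun k => by
        rw [← sub_eq_zero]
        have h3 := three_eq_zero (f^[k + 8] v)
        have h4 := three_eq_zero (f^[k + 4] v)
        calc f^[k + 12] v - f^[k] v
            = (f^[k + 6 + 6] v - f^[k + 6] v + (f^[k + 6 + 4] v - f^[k + 6 + 2] v))
              - (f^[k + 4 + 6] v - f^[k + 4] v + (f^[k + 4 + 4] v - f^[k + 4 + 2] v))
              - (f^[k + 2 + 6] v - f^[k + 2] v + (f^[k + 2 + 4] v - f^[k + 2 + 2] v))
              + (f^[k + 6] v - f^[k] v + (f^[k + 4] v - f^[k + 2] v))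
              + (f^[k + 8] v + f^[k + 8] v + f^[k + 8] v)
              - (f^[k + 4] v + f^[k + 4] v + f^[k + 4] v) := by abel
          _ = 0 := by rw [E' (k + 6), E' (k + 4), E' (k + 2), E' k, h3, h4]; abel
      rw [h0 12, h0 0]; rfl
  have ho : f^[orderOf x] v = v := by rw [← iterate_apply, pow_orderOf_eq_one, map_one, Module.End.one_apply]
  have hper : Function.IsPeriodicPt f (Nat.gcd 24 (orderOf x)) v := Function.IsPeriodicPt.gcd h24 ho
  have hc : Nat.gcd 24 (orderOf x) = 1 := by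
    have h2 : (orderOf x).Coprime 2 := Nat.Coprime.coprime_dvd_right (by norm_num) hx
    have h3 : (orderOf x).Coprime 3 := Nat.Coprime.coprime_dvd_right (by norm_num) hx
    have h : (orderOf x).Coprime (2 ^ 3 * 3) := (h2.pow_right 3).mul_right h3
    exact Nat.Coprime.symm h
  rw [hc] at hper
  exact hper

/-- An element inverted by an involution with two dimensional commutator space, fixing a vector there. -/
theorem eq_one_of_inverted (ρ : Representation (ZMod 3) S E) {x q : S} (hx : (orderOf x).Coprime 6)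
    (hq : q * x * q⁻¹ = x⁻¹) {u u' : E} (hu : ρ q u = -u) (hu' : ρ q u' = -u')
    (hdec : ∀ v, ∃ c, ρ q c = c ∧ ∃ a a' : ZMod 3, v = c + a • u + a' • u')
    (hfix : ρ x u = u) (v : E) : ρ x v = v := by
  set T := skew ρ x with hT
  have hqT : ∀ z, ρ q (T z) = -T (ρ q z) := fun z => by
    have e1 : ρ q (ρ x z) = ρ x⁻¹ (ρ q z) := by rw [← rho_mul, ← rho_mul, ← hq]; group
    have e2 : ρ q (ρ x⁻¹ z) = ρ x (ρ q z) := by
      rw [← rho_mul, ← rho_mul, show q * x⁻¹ = (q * x * q⁻¹)⁻¹ * q by group, hq, inv_inv]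
    rw [hT, skew_apply, map_sub, e1, e2, skew_apply]; abel
  have hTu : T u = 0 := by
    rw [hT, skew_apply, hfix]
    nth_rw 2 [← hfix]
    rw [rho_inv_apply, sub_self]
  have hplus : ∀ z, ρ q z = z → ∃ a a' : ZMod 3, T z = a • u + a' • u' := fun z hz => by
    obtain ⟨c, hc, a, a', he⟩ := hdec (T z)
    refine ⟨a, a', ?_⟩
    have h1 := hqT z
    rw [hz, he, map_add, map_add, hc, map_smul, map_smul, hu, hu'] at h1
    have : c = 0 := eq_zero_of_eq_neg (by
      simp only [smul_neg] at h1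
      calc c = (c + -(a • u) + -(a' • u')) + (a • u + a' • u') := by abel
        _ = -c := by rw [h1]; abel)
    rw [he, this, zero_add]
  have hminus : ∀ z, ρ q z = -z → ρ q (T z) = T z := fun z hz => by
    rw [hqT, hz, map_neg, neg_neg]
  obtain ⟨γ, δ, hd⟩ := hplus (T u') (hminus u' hu')
  refine fixed_of_skew_cube ρ x hx (fun _ => True) (fun _ _ => trivial) δ (fun z _ => ?_) trivial
  obtain ⟨c, hc, a, a', rfl⟩ := hdec z
  obtain ⟨α, α', hcT⟩ := hplus c hc
  simp only [← hT, map_add, map_smul, hTu, smul_zero, add_zero, hcT, hd, zero_add, smul_add, smul_smul]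
  -- the difference is a multiple of `u` in the image of `T`
  have key : ∀ k : ZMod 3, k • u ∈ Set.range T → k • u = 0 := by
    rintro k ⟨y, hy⟩
    have hxk : ρ x (k • u) = k • u := by rw [map_smul, hfix]
    have h2 : ρ x (ρ x y) = y + k • u := by
      have := congrArg (ρ x) hy
      rw [hT, skew_apply, map_sub, rho_apply_inv, hxk] at this
      rw [← this]; abel
    have hn : ∀ n : ℕ, ρ (x ^ (2 * n)) y = y + n • (k • u) := by
      intro n
      induction n with
      | zero => simp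
      | succ n ih =>
        rw [show 2 * (n + 1) = 2 * n + 1 + 1 by ring, pow_succ_apply, pow_succ_apply, ih, map_add,
          map_add, h2, map_nsmul, map_nsmul, hxk, hxk, succ_nsmul]
        abel
    have h3 := hn (orderOf x)
    rw [pow_mul', pow_orderOf_eq_one, one_pow, map_one, Module.End.one_apply, left_eq_add,
      ← Nat.cast_smul_eq_nsmul (ZMod 3)] at h3
    refine (smul_eq_zero.1 h3).resolve_left fun h0 => ?_
    rw [ZMod.natCast_eq_zero_iff] at h0
    have := Nat.eq_one_of_dvd_coprimes (hx.coprime_dvd_right (show 3 ∣ 6 by norm_num)) h0 dvd_rfl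
    omega
  obtain ⟨d, hdd⟩ : ∃ d, d = T u' := ⟨_, rfl⟩
  have e := key (α' * γ - δ * α) ⟨T (α • u + α' • u') - δ • c, ?_⟩
  · rw [sub_smul, sub_eq_zero] at e
    rw [← hdd]
    rw [e, mul_comm α' δ]
    simp only [mul_comm]
  · simp only [map_sub, map_add, map_smul, hTu, smul_zero, zero_add, hcT, hd, smul_add, smul_smul, sub_smul,
      mul_comm α' δ]
    abel

/-- A line vector is a scalar multiple, so an element of order prime to six fixing the line fixes it. -/
theorem fixed_of_smul (ρ : Representation (ZMod 3) S E) {x : S} (hx : (orderOf x).Coprime 6) {w : E}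
    {l : ZMod 3} (h : ρ x w = l • w) : ρ x w = w := by
  refine fixed_of_skew_cube ρ x hx (fun z => ρ x z = l • z) (fun z hz => ?_) 0 (fun z hz => ?_) h
  · show ρ x (ρ x z) = l • ρ x z
    rw [hz, map_smul, hz]
  · have hzi : ρ x⁻¹ z = l • z := by
      rcases zmod3_cases l with rfl | rfl | rfl
      · have : z = 0 := by
          rw [← rho_inv_apply ρ x z, hz, zero_smul, map_zero]
        simp [this]
      · rw [one_smul] at hz ⊢
        nth_rw 1 [← hz]
        rw [rho_inv_apply]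
      · rw [neg_one_smul] at hz ⊢
        have hz2 : ρ x (-z) = z := by rw [map_neg, hz, neg_neg]
        nth_rw 1 [← hz2]
        rw [rho_inv_apply]
    have : skew ρ x z = 0 := by rw [skew_apply, hz, hzi, sub_self]
    rw [this, map_zero, map_zero, smul_zero]

variable [Finite E]

theorem commute_of_odd_abelian {ρ : Representation (ZMod 3) S E} (hinj : Function.Injective ρ) {b q₁ q₂ : S}
    (h : FourData ρ b q₁ q₂) (hrank : Nat.card (Set.range fun v : E => ρ b v - v) ≤ 9)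
    (hne : ∃ v, ρ q₁ v ≠ v) (A : Subgroup S) (hab : ∀ a ∈ A, ∀ c ∈ A, a * c = c * a)
    (hA : ∀ a ∈ A, (orderOf a).Coprime 6) (h₁ : ∀ a ∈ A, q₁ * a * q₁⁻¹ ∈ A)
    (h₂ : ∀ a ∈ A, q₂ * a * q₂⁻¹ ∈ A) (hb : ∀ a ∈ A, b⁻¹ * a * b ∈ A) :
    ∀ a ∈ A, a * b = b * a ∧ ∀ w, FourData.IsLineVec ρ q₁ q₂ w → ρ a w = w := by
  obtain ⟨w, hw0, hw, huniq, hbfix, hco⟩ := h.coords hrank hne
  have hbw := h.bw hw
  have hbbw := h.bbw hw
  have heq : ∀ x : S, (∀ v, ρ x v = v) → x = 1 := fun x hx => hinj (by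
    rw [map_one]; exact LinearMap.ext hx)
  have hqi : q₁⁻¹ = q₁ := inv_eq_of_mul_eq_one_right h.sq₁
  have hq2i : q₂⁻¹ = q₂ := inv_eq_of_mul_eq_one_right h.sq₂
  -- scalars on eigenvectors
  have heig : ∀ (x q : S) (e : ZMod 3) (z : E), q * x = x * q → ρ q z = e • z → ρ q (ρ x z) = e • ρ x z := by
    intro x q e z hqx hz
    rw [← rho_mul, hqx, rho_mul, hz, map_smul]
  -- no nontrivial element is inverted by `q₁` and centralized by a second involution
  have hkill : ∀ x ∈ A, q₁ * x * q₁⁻¹ = x⁻¹ → (q₂ * x = x * q₂ ∨ (q₁ * q₂) * x = x * (q₁ * q₂)) → x = 1 := by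
    intro x hxA hx hcase
    have hxc := hA x hxA
    have hskew : ∀ z, ρ q₁ (skew ρ x z) = -skew ρ x (ρ q₁ z) := fun z => by
      rw [skew_apply, skew_apply, map_sub, ← rho_mul, ← rho_mul, ← rho_mul, ← rho_mul, ← hx,
        show q₁ * (q₁ * x * q₁⁻¹) = q₁ * q₁ * x * q₁⁻¹ by group, h.sq₁, one_mul]
      rw [hqi, show q₁ * x * q₁ * q₁ = q₁ * x * (q₁ * q₁) by group, h.sq₁, mul_one]
      abel
    have hdec' : ∀ v, ∃ c, ρ q₁ c = c ∧ ∃ a a' : ZMod 3, v = c + a • ρ b w + a' • ρ b (ρ b w) := fun v => by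
      obtain ⟨c, hc, a₁, a₂, a₃, rfl⟩ := hco v
      exact ⟨c + a₁ • w, by rw [map_add, map_smul, hc.1, hw.1], a₂, a₃, rfl⟩
    refine heq x ?_
    rcases hcase with hj | hj
    · -- `w` and `b²w` span the moved plane of `q₂`
      have hplane : ∀ z, ρ q₂ z = -z → ∃ a a' : ZMod 3, z = a • w + a' • ρ b (ρ b w) := fun z hz => by
        obtain ⟨c, hc, a₁, a₂, a₃, rfl⟩ := hco z
        refine ⟨a₁, a₃, ?_⟩
        simp only [map_add, map_smul, hc.2, hw.2, hbw.2, hbbw.2, smul_neg] at hz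
        have : c + a₂ • ρ b w = 0 := eq_zero_of_eq_neg (by
          calc c + a₂ • ρ b w = (c + -(a₁ • w) + a₂ • ρ b w + -(a₃ • ρ b (ρ b w))) + a₁ • w + a₃ • ρ b (ρ b w) := by abel
            _ = _ := by rw [hz]; abel)
        calc c + a₁ • w + a₂ • ρ b w + a₃ • ρ b (ρ b w) = (c + a₂ • ρ b w) + a₁ • w + a₃ • ρ b (ρ b w) := by abel
          _ = _ := by rw [this, zero_add]
      have hfix : ρ x (ρ b (ρ b w)) = ρ b (ρ b w) := by
        have hP : ∀ z, ρ q₂ z = -z → ρ q₂ (ρ x z) = -ρ x z := fun z hz => by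
          rw [← rho_mul, hj, rho_mul, hz, map_neg]
        have hPi : ∀ z, ρ q₂ z = -z → ρ q₂ (ρ x⁻¹ z) = -ρ x⁻¹ z := fun z hz => by
          rw [← rho_mul, show q₂ * x⁻¹ = x⁻¹ * (x * q₂) * x⁻¹ by group, ← hj,
            show x⁻¹ * (q₂ * x) * x⁻¹ = x⁻¹ * q₂ by group, rho_mul, hz, map_neg]
        have hT : ∀ z, ρ q₂ z = -z → ρ q₂ (skew ρ x z) = -skew ρ x z := fun z hz => by
          rw [skew_apply, map_sub, hP z hz, hPi z hz]; abel
        obtain ⟨a, a', h1⟩ := hplane _ (hT w hw.2)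
        obtain ⟨e, e', h2⟩ := hplane _ (hT _ hbbw.2)
        have ha : a = 0 := by
          have := hskew w
          rw [hw.1, h1, map_add, map_smul, map_smul, hw.1, hbbw.1, smul_neg] at this
          have h0 : a • w = 0 := eq_zero_of_eq_neg (by
            calc a • w = (a • w + -(a' • ρ b (ρ b w))) + a' • ρ b (ρ b w) := by abel
              _ = _ := by rw [this]; abel)
          exact (smul_eq_zero.1 h0).resolve_right hw0
        have he : e' = 0 := by
          have := hskew (ρ b (ρ b w))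
          rw [hbbw.1, map_neg, neg_neg, h2, map_add, map_smul, map_smul, hw.1, hbbw.1, smul_neg] at this
          have h0 : e' • ρ b (ρ b w) = 0 := eq_zero_of_eq_neg (by
            calc e' • ρ b (ρ b w) = (e • w + e' • ρ b (ρ b w)) - e • w := by abel
              _ = _ := by rw [← this]; abel)
          refine (smul_eq_zero.1 h0).resolve_right fun h0' => hw0 ?_
          rw [← h.b3 w, h0', map_zero]
        rw [ha, zero_smul, zero_add] at h1
        rw [he, zero_smul, add_zero] at h2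
        refine fixed_of_skew_cube ρ x hxc (fun z => ρ q₂ z = -z) hP (a' * e) (fun z hz => ?_) hbbw.2
        obtain ⟨s, s', rfl⟩ := hplane z hz
        simp only [map_add, map_smul, h1, h2, smul_add, smul_smul]
        ring_nf
      refine eq_one_of_inverted ρ hxc hx hbbw.1 hbw.1 (fun v => ?_) hfix
      obtain ⟨c, hc, a, a', he⟩ := hdec' v
      exact ⟨c, hc, a', a, by rw [he]; abel⟩
    · -- `w` and `bw` span the moved plane of `q₁q₂`
      have hq3 : ∀ z, ρ (q₁ * q₂) z = ρ q₁ (ρ q₂ z) := fun z => rho_mul ρ _ _ z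
      have hw3 : ρ (q₁ * q₂) w = -w := by rw [hq3, hw.2, map_neg, hw.1]
      have hbw3 : ρ (q₁ * q₂) (ρ b w) = -ρ b w := by rw [hq3, hbw.2, hbw.1]
      have hbbw3 : ρ (q₁ * q₂) (ρ b (ρ b w)) = ρ b (ρ b w) := by rw [hq3, hbbw.2, map_neg, hbbw.1, neg_neg]
      have hplane : ∀ z, ρ (q₁ * q₂) z = -z → ∃ a a' : ZMod 3, z = a • w + a' • ρ b w := fun z hz => by
        obtain ⟨c, hc, a₁, a₂, a₃, rfl⟩ := hco z
        refine ⟨a₁, a₂, ?_⟩
        have hc3 : ρ (q₁ * q₂) c = c := by rw [hq3, hc.2, hc.1]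
        simp only [map_add, map_smul, hc3, hw3, hbw3, hbbw3, smul_neg] at hz
        have : c + a₃ • ρ b (ρ b w) = 0 := eq_zero_of_eq_neg (by
          calc c + a₃ • ρ b (ρ b w) = (c + -(a₁ • w) + -(a₂ • ρ b w) + a₃ • ρ b (ρ b w)) + a₁ • w + a₂ • ρ b w := by abel
            _ = _ := by rw [hz]; abel)
        calc c + a₁ • w + a₂ • ρ b w + a₃ • ρ b (ρ b w) = (c + a₃ • ρ b (ρ b w)) + a₁ • w + a₂ • ρ b w := by abel
          _ = _ := by rw [this, zero_add]
      have hfix : ρ x (ρ b w) = ρ b w := by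
        have hP : ∀ z, ρ (q₁ * q₂) z = -z → ρ (q₁ * q₂) (ρ x z) = -ρ x z := fun z hz => by
          rw [← rho_mul, hj, rho_mul, hz, map_neg]
        have hPi : ∀ z, ρ (q₁ * q₂) z = -z → ρ (q₁ * q₂) (ρ x⁻¹ z) = -ρ x⁻¹ z := fun z hz => by
          rw [← rho_mul, show (q₁ * q₂) * x⁻¹ = x⁻¹ * (x * (q₁ * q₂)) * x⁻¹ by group, ← hj,
            show x⁻¹ * ((q₁ * q₂) * x) * x⁻¹ = x⁻¹ * (q₁ * q₂) by group, rho_mul, hz, map_neg]
        have hT : ∀ z, ρ (q₁ * q₂) z = -z → ρ (q₁ * q₂) (skew ρ x z) = -skew ρ x z := fun z hz => by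
          rw [skew_apply, map_sub, hP z hz, hPi z hz]; abel
        obtain ⟨a, a', h1⟩ := hplane _ (hT w hw3)
        obtain ⟨e, e', h2⟩ := hplane _ (hT _ hbw3)
        have ha : a = 0 := by
          have := hskew w
          rw [hw.1, h1, map_add, map_smul, map_smul, hw.1, hbw.1, smul_neg] at this
          have h0 : a • w = 0 := eq_zero_of_eq_neg (by
            calc a • w = (a • w + -(a' • ρ b w)) + a' • ρ b w := by abel
              _ = _ := by rw [this]; abel)
          exact (smul_eq_zero.1 h0).resolve_right hw0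
        have he : e' = 0 := by
          have := hskew (ρ b w)
          rw [hbw.1, map_neg, neg_neg, h2, map_add, map_smul, map_smul, hw.1, hbw.1, smul_neg] at this
          have h0 : e' • ρ b w = 0 := eq_zero_of_eq_neg (by
            calc e' • ρ b w = (e • w + e' • ρ b w) - e • w := by abel
              _ = _ := by rw [← this]; abel)
          refine (smul_eq_zero.1 h0).resolve_right fun h0' => hw0 ?_
          rw [← h.b3 w, h0', map_zero, map_zero]
        rw [ha, zero_smul, zero_add] at h1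
        rw [he, zero_smul, add_zero] at h2
        refine fixed_of_skew_cube ρ x hxc (fun z => ρ (q₁ * q₂) z = -z) hP (a' * e) (fun z hz => ?_) hbw3
        obtain ⟨s, s', rfl⟩ := hplane z hz
        simp only [map_add, map_smul, h1, h2, smul_add, smul_smul]
        ring_nf
      exact eq_one_of_inverted ρ hxc hx hbw.1 hbbw.1 hdec' hfix
  -- `q₁` centralizes `A`
  have hq1 : ∀ a ∈ A, q₁ * a = a * q₁ := by
    intro a ha
    obtain ⟨x, hx⟩ : ∃ x, x = q₁ * a * q₁⁻¹ * a⁻¹ := ⟨_, rfl⟩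
    have hxA : x ∈ A := hx ▸ mul_mem (h₁ a ha) (inv_mem ha)
    have hxinv : q₁ * x * q₁⁻¹ = x⁻¹ := by
      rw [hx, hqi, mul_inv_rev, mul_inv_rev, mul_inv_rev, inv_inv, hqi]
      calc q₁ * (q₁ * a * q₁ * a⁻¹) * q₁ = (q₁ * q₁) * a * (q₁ * a⁻¹ * q₁) := by group
        _ = a * (q₁ * a⁻¹ * q₁) := by rw [h.sq₁, one_mul]
        _ = a * (q₁ * (a⁻¹ * q₁)) := by group
    obtain ⟨y, hy⟩ : ∃ y, y = q₂ * x * q₂⁻¹ := ⟨_, rfl⟩
    have hyA : y ∈ A := hy ▸ h₂ x hxA
    have hyinv : q₁ * y * q₁⁻¹ = y⁻¹ := by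
      calc q₁ * y * q₁⁻¹ = (q₁ * q₂) * x * (q₁ * q₂)⁻¹ := by rw [hy]; group
        _ = (q₂ * q₁) * x * (q₂ * q₁)⁻¹ := by rw [h.comm]
        _ = q₂ * (q₁ * x * q₁⁻¹) * q₂⁻¹ := by group
        _ = y⁻¹ := by rw [hxinv, hy]; group
    have hxy : x * y = 1 := by
      refine hkill _ (mul_mem hxA hyA) ?_ (Or.inl ?_)
      · calc q₁ * (x * y) * q₁⁻¹ = (q₁ * x * q₁⁻¹) * (q₁ * y * q₁⁻¹) := by group
          _ = (y * x)⁻¹ := by rw [hxinv, hyinv, mul_inv_rev]
          _ = (x * y)⁻¹ := by rw [hab y hyA x hxA]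
      · calc q₂ * (x * y) = (q₂ * x * q₂⁻¹) * ((q₂ * q₂) * x * (q₂⁻¹ * q₂⁻¹)) * q₂ := by rw [hy]; group
          _ = y * x * q₂ := by rw [hy, ← mul_inv_rev, h.sq₂, inv_one, one_mul, mul_one]
          _ = x * y * q₂ := by rw [hab y hyA x hxA]
    have hx1 : x = 1 := by
      refine hkill x hxA hxinv (Or.inr ?_)
      have hyx : q₂ * x * q₂⁻¹ = x⁻¹ := by rw [← hy]; exact (inv_eq_of_mul_eq_one_right hxy).symm
      calc q₁ * q₂ * x = q₁ * (q₂ * x * q₂⁻¹) * q₁⁻¹ * (q₁ * q₂) := by group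
        _ = x * (q₁ * q₂) := by rw [hyx, show q₁ * x⁻¹ * q₁⁻¹ = (q₁ * x * q₁⁻¹)⁻¹ by group, hxinv, inv_inv]
    rw [hx, mul_inv_eq_one, mul_inv_eq_iff_eq_mul] at hx1
    exact hx1
  have hq2 : ∀ a ∈ A, q₂ * a = a * q₂ := by
    intro a ha
    have := hq1 _ (hb a ha)
    calc q₂ * a = b * (q₁ * (b⁻¹ * a * b)) * b⁻¹ := by rw [← h.conj₁]; group
      _ = b * (b⁻¹ * a * b * q₁) * b⁻¹ := by rw [this]
      _ = a * q₂ := by rw [← h.conj₁]; group
  have hline : ∀ a ∈ A, ∀ u, FourData.IsLineVec ρ q₁ q₂ u → ρ a u = u := by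
    intro a ha u hu
    obtain ⟨l, rfl⟩ := huniq u hu
    have hau : FourData.IsLineVec ρ q₁ q₂ (ρ a w) :=
      ⟨by rw [← rho_mul, hq1 a ha, rho_mul, hw.1], by rw [← rho_mul, hq2 a ha, rho_mul, hw.2, map_neg]⟩
    obtain ⟨m, hm⟩ := huniq _ hau
    rw [map_smul, fixed_of_smul ρ (hA a ha) hm]
  refine fun a ha => ⟨?_, hline a ha⟩
  have hba : ∀ a ∈ A, ρ a (ρ b w) = ρ b w := fun a ha => by
    calc ρ a (ρ b w) = ρ b (ρ (b⁻¹ * a * b) w) := by rw [← rho_mul, ← rho_mul]; group
      _ = ρ b w := by rw [hline _ (hb a ha) w hw]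
  have hbba : ∀ a ∈ A, ρ a (ρ b (ρ b w)) = ρ b (ρ b w) := fun a ha => by
    calc ρ a (ρ b (ρ b w)) = ρ b (ρ (b⁻¹ * a * b) (ρ b w)) := by rw [← rho_mul ρ a, ← rho_mul ρ b (b⁻¹ * a * b)]; group
      _ = _ := by rw [hba _ (hb a ha)]
  refine hinj (LinearMap.ext fun v => ?_)
  obtain ⟨c, hc, a₁, a₂, a₃, rfl⟩ := hco v
  have hac : FourData.IsFix ρ q₁ q₂ (ρ a c) :=
    ⟨by rw [← rho_mul, hq1 a ha, rho_mul, hc.1], by rw [← rho_mul, hq2 a ha, rho_mul, hc.2]⟩
  rw [rho_mul, rho_mul]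
  simp only [map_add, map_smul, hbfix c hc, hline a ha w hw, hba a ha, hbba a ha, hbfix _ hac, h.b3]

end CfsgLib.CubicBlock
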