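import Cfsg.Agent.Lib.CubicBlock.OddAbelian
import Cfsg.Agent.Lib.CubicBlock.Fpf
import Cfsg.Agent.Lib.Solvable.Fitting
import Cfsg.Agent.Lib.Cores.Fitting

/-!
A `3'`-group `R = [R, b]` containing the four group, and the moved summand `F`.
-/

set_option autoImplicit false
set_option linter.unusedSectionVars false

open scoped commutatorElement

namespace CfsgLib.CubicBlock

open Cfsg

variable {S E : Type*} [Group S] [Finite S] [AddCommGroup E] [Module (ZMod 3) E] [Finite E]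

/-- The data. -/
structure Setting (ρ : Representation (ZMod 3) S E) (b q₁ q₂ : S) (R : Subgroup S)
    (F : Submodule (ZMod 3) E) : Prop where
  inj : Function.Injective ρ
  four : FourData ρ b q₁ q₂
  rank : Nat.card (Set.range fun v : E => ρ b v - v) ≤ 9
  dd : ∃ v, ρ b (ρ b v - v) - (ρ b v - v) ≠ 0
  ne1 : q₁ ≠ 1
  mem1 : q₁ ∈ R
  mem2 : q₂ ∈ R
  norm : ∀ r ∈ R, b * r * b⁻¹ ∈ R
  solv : Group.IsSolvable R
  cop : (Nat.card R).Coprime 3
  gen : ∀ X : Subgroup S, (∀ r ∈ R, r * b * r⁻¹ * b⁻¹ ∈ X) → R ≤ X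
  invR : ∀ r ∈ R, ∀ v ∈ F, ρ r v ∈ F
  invb : ∀ v ∈ F, ρ b v ∈ F
  split : ∀ v, ∃ u ∈ F, ∃ f, (∀ r ∈ R, ρ r f = f) ∧ v = u + f
  disj : ∀ v ∈ F, (∀ r ∈ R, ρ r v = v) → v = 0

namespace Setting

variable {ρ : Representation (ZMod 3) S E} {b q₁ q₂ : S} {R : Subgroup S} {F : Submodule (ZMod 3) E}

theorem act_ne (h : Setting ρ b q₁ q₂ R F) : ∃ v, ρ q₁ v ≠ v := by
  by_contra hcon
  push Not at hcon
  exact h.ne1 (h.inj (by rw [map_one]; exact LinearMap.ext hcon))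

theorem b_fix (h : Setting ρ b q₁ q₂ R F) {f : E} (hf : ∀ r ∈ R, ρ r f = f) : ρ b f = f := by
  obtain ⟨w, -, -, -, hfix, -⟩ := h.four.coords h.rank h.act_ne
  exact hfix f ⟨hf _ h.mem1, hf _ h.mem2⟩

theorem norm' (h : Setting ρ b q₁ q₂ R F) {r : S} (hr : r ∈ R) : b⁻¹ * r * b ∈ R := by
  have hb : b⁻¹ = b * b := inv_eq_of_mul_eq_one_left (by rw [← h.four.cube, pow_succ, pow_two])
  have := h.norm _ (h.norm r hr)
  rw [show b * (b * r * b⁻¹) * b⁻¹ = (b * b) * r * (b * b)⁻¹ by group, ← hb, inv_inv] at this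
  exact this

/-- An element of `R` or `b` is determined by its action on `F`. -/
theorem ext_on (h : Setting ρ b q₁ q₂ R F) {x y : S}
    (hx : ∀ f, (∀ r ∈ R, ρ r f = f) → ρ x f = f) (hy : ∀ f, (∀ r ∈ R, ρ r f = f) → ρ y f = f)
    (he : ∀ v ∈ F, ρ x v = ρ y v) : x = y := by
  refine h.inj (LinearMap.ext fun v => ?_)
  obtain ⟨u, hu, f, hf, rfl⟩ := h.split v
  rw [map_add, map_add, he u hu, hx f hf, hy f hf]

theorem fix_R {r : S} (hr : r ∈ R) : ∀ f : E, (∀ r ∈ R, ρ r f = f) → ρ r f = f := fun _ hf => hf r hr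

theorem fix_b_R (h : Setting ρ b q₁ q₂ R F) {r : S} (hr : r ∈ R) :
    ∀ f : E, (∀ r ∈ R, ρ r f = f) → ρ (b * r) f = f ∧ ρ (r * b) f = f := fun f hf => by
  rw [rho_mul, rho_mul, h.b_fix hf, hf r hr, h.b_fix hf]; exact ⟨rfl, rfl⟩

theorem eq_one_on (h : Setting ρ b q₁ q₂ R F) {r : S} (hr : r ∈ R) (he : ∀ v ∈ F, ρ r v = v) : r = 1 :=
  h.ext_on (fix_R hr) (fun f _ => by simp) fun v hv => by rw [he v hv, map_one, Module.End.one_apply]

theorem commute_on (h : Setting ρ b q₁ q₂ R F) {r : S} (hr : r ∈ R)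
    (he : ∀ v ∈ F, ρ r (ρ b v) = ρ b (ρ r v)) : r * b = b * r :=
  h.ext_on (fun f hf => (h.fix_b_R hr f hf).2) (fun f hf => (h.fix_b_R hr f hf).1) fun v hv => by
    rw [rho_mul, rho_mul, he v hv]

theorem neg_ext (h : Setting ρ b q₁ q₂ R F) {r s : S} (hr : r ∈ R) (hs : s ∈ R)
    (h1 : ∀ v ∈ F, ρ r v = -v) (h2 : ∀ v ∈ F, ρ s v = -v) : r = s :=
  h.ext_on (fix_R hr) (fix_R hs) fun v hv => by rw [h1 v hv, h2 v hv]

theorem neg_central (h : Setting ρ b q₁ q₂ R F) {z : S} (hz : z ∈ R) (h1 : ∀ v ∈ F, ρ z v = -v) :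
    z * z = 1 ∧ z * b = b * z ∧ ∀ r ∈ R, z * r = r * z := by
  refine ⟨h.eq_one_on (mul_mem hz hz) fun v hv => ?_, h.commute_on hz fun v hv => ?_, fun r hr => ?_⟩
  · rw [rho_mul, h1 v hv, map_neg, h1 v hv, neg_neg]
  · rw [h1 v hv, map_neg, h1 _ (h.invb v hv)]
  · refine h.ext_on (fix_R (mul_mem hz hr)) (fix_R (mul_mem hr hz)) fun v hv => ?_
    rw [rho_mul, rho_mul, h1 v hv, map_neg, h1 _ (h.invR r hr v hv)]

/-- Line vectors of a four group in `R` lie in `F`. -/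
theorem line_mem (h : Setting ρ b q₁ q₂ R F) {y₁ y₂ : S} (_hy₁ : y₁ ∈ R) (hy₂ : y₂ ∈ R) {u : E}
    (hu : FourData.IsLineVec ρ y₁ y₂ u) : u ∈ F := by
  obtain ⟨a, ha, f, hf, rfl⟩ := h.split u
  have h2 := hu.2
  rw [map_add, hf _ hy₂] at h2
  have hf2 : f + f ∈ F := by
    have : f + f = -(a + ρ y₂ a) := by
      have e : ρ y₂ a + f + (a + f) = 0 := by rw [h2]; abel
      rw [eq_neg_iff_add_eq_zero, ← e]; abel
    rw [this]; exact neg_mem (add_mem ha (h.invR _ hy₂ a ha))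
  have : f ∈ F := by
    have h3 := three_eq_zero f
    rw [show f = -(f + f) by rw [eq_neg_iff_add_eq_zero, ← add_assoc, h3]]
    exact neg_mem hf2
  exact add_mem ha this

/-- Centralising a `b`-fixed invariant set: `R` centralises what `b` centralises. -/
theorem commute_of_fixed (h : Setting ρ b q₁ q₂ R F) (T : Set S) (hT : ∀ t ∈ T, ∀ r ∈ R, r⁻¹ * t * r ∈ T)
    (hb : ∀ t ∈ T, b * t = t * b) : ∀ r ∈ R, ∀ t ∈ T, r * t = t * r := by
  intro r hr
  have hX : R ≤ Subgroup.centralizer T := h.gen _ fun s hs => Subgroup.mem_centralizer_iff.2 fun t ht => by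
    have e1 := hb t ht
    have e2 := hb _ (hT t ht s hs)
    have e4 : b⁻¹ * t = t * b⁻¹ := by rw [inv_mul_eq_iff_eq_mul, ← mul_assoc, e1, mul_inv_cancel_right]
    calc t * (s * b * s⁻¹ * b⁻¹) = s * ((s⁻¹ * t * s) * b) * s⁻¹ * b⁻¹ := by group
      _ = s * (b * (s⁻¹ * t * s)) * s⁻¹ * b⁻¹ := by rw [e2]
      _ = s * b * s⁻¹ * (t * b⁻¹) := by group
      _ = _ := by rw [← e4]; group
  exact fun t ht => (Subgroup.mem_centralizer_iff.1 (hX hr) t ht).symm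

/-- `F` is irreducible under `R` and `b`. -/
theorem irred (h : Setting ρ b q₁ q₂ R F) (U : Submodule (ZMod 3) E) (hUF : U ≤ F)
    (hUR : ∀ r ∈ R, ∀ v ∈ U, ρ r v ∈ U) (hUb : ∀ v ∈ U, ρ b v ∈ U) : U = ⊥ ∨ U = F := by
  obtain ⟨w, hw0, hw, huniq, hfix, hco⟩ := h.four.coords h.rank h.act_ne
  have hbi : ∀ v ∈ U, ρ b⁻¹ v ∈ U := fun v hv => by
    rw [show b⁻¹ = b * b from inv_eq_of_mul_eq_one_left (by rw [← h.four.cube, pow_succ, pow_two]), rho_mul]
    exact hUb _ (hUb v hv)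
  by_cases hQ : ∀ v ∈ U, FourData.IsFix ρ q₁ q₂ v
  · refine Or.inl (U.eq_bot_iff.2 fun v hv => h.disj v (hUF hv) fun r hr => ?_)
    let X : Subgroup S :=
      { carrier := {x | ∀ u ∈ U, ρ x u = u}
        mul_mem' := fun {x y} hx hy u hu => by rw [rho_mul, hy u hu, hx u hu]
        one_mem' := fun u _ => by simp
        inv_mem' := fun {x} hx u hu => by nth_rw 1 [← hx u hu]; rw [rho_inv_apply] }
    refine h.gen X (fun s hs u hu => ?_) hr v hv
    have h1 : ρ b⁻¹ u = u := by nth_rw 1 [← hfix u (hQ u hu)]; rw [rho_inv_apply]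
    rw [rho_mul, rho_mul, rho_mul, h1, hfix _ (hQ _ (hUR _ (inv_mem hs) u hu)), rho_apply_inv]
  push Not at hQ
  obtain ⟨v, hv, hvQ⟩ := hQ
  obtain ⟨c, hc, a₁, a₂, a₃, rfl⟩ := hco v
  have hbw := h.four.bw hw
  have hbbw := h.four.bbw hw
  have hm : a₁ • w ∈ U ∧ a₂ • ρ b w ∈ U ∧ a₃ • ρ b (ρ b w) ∈ U := by
    set v := c + a₁ • w + a₂ • ρ b w + a₃ • ρ b (ρ b w) with hv'
    have m1 := hUR _ h.mem1 v hv
    have m2 := hUR _ h.mem2 v hv
    have m3 := hUR _ h.mem1 _ m2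
    have e1 : ρ q₁ v = c + a₁ • w - a₂ • ρ b w - a₃ • ρ b (ρ b w) := by
      simp only [hv', map_add, map_smul, hc.1, hw.1, hbw.1, hbbw.1, smul_neg]; abel
    have e2 : ρ q₂ v = c - a₁ • w + a₂ • ρ b w - a₃ • ρ b (ρ b w) := by
      simp only [hv', map_add, map_smul, hc.2, hw.2, hbw.2, hbbw.2, smul_neg]; abel
    have e3 : ρ q₁ (ρ q₂ v) = c - a₁ • w - a₂ • ρ b w + a₃ • ρ b (ρ b w) := by
      rw [e2]; simp only [map_add, map_sub, map_smul, hc.1, hw.1, hbw.1, hbbw.1, smul_neg]; abel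
    rw [e1] at m1; rw [e3] at m3; rw [e2] at m2
    have k : ∀ x : E, x + x + x + x = x := fun x => by rw [three_eq_zero x, zero_add]
    refine ⟨?_, ?_, ?_⟩
    · rw [← k (a₁ • w)]
      convert sub_mem (sub_mem (add_mem hv m1) m2) m3 using 1; rw [hv']; abel
    · rw [← k (a₂ • ρ b w)]
      convert sub_mem (add_mem (sub_mem hv m1) m2) m3 using 1; rw [hv']; abel
    · rw [← k (a₃ • ρ b (ρ b w))]
      convert add_mem (sub_mem (sub_mem hv m1) m2) m3 using 1; rw [hv']; abel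
  have hwU : w ∈ U := by
    have hne : a₁ ≠ 0 ∨ a₂ ≠ 0 ∨ a₃ ≠ 0 := by
      by_contra hcon
      push Not at hcon
      obtain ⟨rfl, rfl, rfl⟩ := hcon
      simp only [zero_smul, add_zero] at hvQ
      exact hvQ hc
    rcases hne with ha | ha | ha
    · exact (Submodule.smul_mem_iff U ha).1 hm.1
    · have := hbi _ ((Submodule.smul_mem_iff U ha).1 hm.2.1)
      rwa [rho_inv_apply] at this
    · have := hbi _ (hbi _ ((Submodule.smul_mem_iff U ha).1 hm.2.2))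
      rwa [rho_inv_apply, rho_inv_apply] at this
  refine Or.inr (le_antisymm hUF fun v hv => ?_)
  have hD : ∀ v ∈ F, ρ b v - v ∈ U := fun v _ => by
    obtain ⟨c, hc, a₁, a₂, a₃, rfl⟩ := hco v
    simp only [map_add, map_smul, hfix c hc, h.four.b3]
    have := hUb _ hwU
    have := hUb _ this
    rw [show c + a₁ • ρ b w + a₂ • ρ b (ρ b w) + a₃ • w - (c + a₁ • w + a₂ • ρ b w + a₃ • ρ b (ρ b w))
      = (a₁ • ρ b w - a₁ • w) + (a₂ • ρ b (ρ b w) - a₂ • ρ b w) + (a₃ • w - a₃ • ρ b (ρ b w)) by abel]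
    refine add_mem (add_mem (sub_mem ?_ ?_) (sub_mem ?_ ?_)) (sub_mem ?_ ?_) <;>
      first | exact U.smul_mem _ hwU | exact U.smul_mem _ (hUb _ hwU) | exact U.smul_mem _ (hUb _ (hUb _ hwU))
  let X : Subgroup S :=
    { carrier := {x | x ∈ R ∧ ∀ u ∈ F, ρ x u - u ∈ U}
      mul_mem' := fun {x y} hx hy => ⟨mul_mem hx.1 hy.1, fun u hu => by
        rw [rho_mul, show ρ x (ρ y u) - u = ρ x (ρ y u - u) + (ρ x u - u) by rw [map_sub]; abel]
        exact add_mem (hUR _ hx.1 _ (hy.2 u hu)) (hx.2 u hu)⟩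
      one_mem' := ⟨one_mem _, fun u _ => by simp⟩
      inv_mem' := fun {x} hx => ⟨inv_mem hx.1, fun u hu => by
        have := neg_mem (hUR _ (inv_mem hx.1) _ (hx.2 u hu))
        rwa [map_sub, rho_inv_apply, neg_sub] at this⟩ }
  have hRX : R ≤ X := h.gen X fun s hs => by
    refine ⟨?_, fun u hu => ?_⟩
    · have := mul_mem hs (h.norm _ (inv_mem hs))
      rwa [show s * (b * s⁻¹ * b⁻¹) = s * b * s⁻¹ * b⁻¹ by group] at this
    obtain ⟨x, hx⟩ : ∃ x, x = ρ s⁻¹ (ρ b⁻¹ u) := ⟨_, rfl⟩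
    have hxF : x ∈ F := hx ▸ h.invR _ (inv_mem hs) _ (by
      rw [show b⁻¹ = b * b from inv_eq_of_mul_eq_one_left (by rw [← h.four.cube, pow_succ, pow_two]), rho_mul]
      exact h.invb _ (h.invb u hu))
    have hu' : u = ρ b (ρ s x) := by rw [hx, rho_apply_inv, rho_apply_inv]
    rw [rho_mul, rho_mul, rho_mul, ← hx, hu',
      show ρ s (ρ b x) - ρ b (ρ s x) = ρ s (ρ b x - x) - (ρ b (ρ s x) - ρ s x) by rw [map_sub]; abel]
    exact sub_mem (hUR _ hs _ (hD x hxF)) (hD _ (h.invR _ hs x hxF))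
  classical
  have := Fintype.ofFinite R
  set N := ∑ r : R, ρ r v with hN
  have hN0 : N = 0 := by
    refine h.disj N (sum_mem fun r _ => h.invR _ r.2 v hv) fun s hs => ?_
    rw [hN, map_sum]
    refine (Fintype.sum_equiv (Equiv.mulLeft (⟨s, hs⟩ : R)) _ _ fun r => ?_)
    simp
  have hsum : ∑ r : R, (ρ r v - v) ∈ U := sum_mem fun r _ => (hRX r.2).2 v hv
  rw [Finset.sum_sub_distrib, ← hN, hN0, zero_sub, Finset.sum_const, Finset.card_univ,
    ← Nat.cast_smul_eq_nsmul (ZMod 3), neg_mem_iff] at hsum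
  refine (Submodule.smul_mem_iff U ?_).1 hsum
  rw [Ne, ZMod.natCast_eq_zero_iff, ← Nat.card_eq_fintype_card]
  intro h3
  have := Nat.eq_one_of_dvd_coprimes h.cop h3 dvd_rfl
  omega

/-- A normal invariant family fixing a nonzero vector of `F` is trivial. -/
theorem trivial_of_fixed (h : Setting ρ b q₁ q₂ R F) (N : Subgroup S) (hNR : N ≤ R)
    (hn : ∀ r ∈ R, ∀ x ∈ N, r⁻¹ * x * r ∈ N) (hb : ∀ x ∈ N, b⁻¹ * x * b ∈ N) {w : E} (hwF : w ∈ F)
    (hw0 : w ≠ 0) (hw : ∀ x ∈ N, ρ x w = w) : N = ⊥ := by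
  let U : Submodule (ZMod 3) E :=
    { carrier := {v | v ∈ F ∧ ∀ x ∈ N, ρ x v = v}
      add_mem' := fun {u v} hu hv => ⟨add_mem hu.1 hv.1, fun x hx => by rw [map_add, hu.2 x hx, hv.2 x hx]⟩
      zero_mem' := ⟨zero_mem _, fun x _ => map_zero _⟩
      smul_mem' := fun a v hv => ⟨F.smul_mem a hv.1, fun x hx => by rw [map_smul, hv.2 x hx]⟩ }
  have hU : U = F := by
    refine (h.irred U (fun v hv => hv.1) (fun r hr v hv => ⟨h.invR r hr v hv.1, fun x hx => ?_⟩)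
      (fun v hv => ⟨h.invb v hv.1, fun x hx => ?_⟩)).resolve_left fun e => hw0 ?_
    · rw [← rho_mul, show x * r = r * (r⁻¹ * x * r) by group, rho_mul, hv.2 _ (hn r hr x hx)]
    · rw [← rho_mul, show x * b = b * (b⁻¹ * x * b) by group, rho_mul, hv.2 _ (hb x hx)]
    · have : w ∈ U := ⟨hwF, hw⟩
      rwa [e, Submodule.mem_bot] at this
  refine N.eq_bot_iff_forall.2 fun x hx => h.eq_one_on (hNR hx) fun v hv => ?_
  rw [← hU] at hv
  exact hv.2 x hx

/-- An element of `R` central in `R` and commuting with `b` is `±1` on `F`. -/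
theorem central_pm (h : Setting ρ b q₁ q₂ R F) {x : S} (hx : x ∈ R) (hxb : x * b = b * x)
    (hc : ∀ r ∈ R, x * r = r * x) : x = 1 ∨ ∀ v ∈ F, ρ x v = -v := by
  obtain ⟨w, hw0, hw, huniq, -, -⟩ := h.four.coords h.rank h.act_ne
  obtain ⟨a, ha⟩ := huniq (ρ x w) ⟨by rw [← rho_mul, ← hc _ h.mem1, rho_mul, hw.1],
    by rw [← rho_mul, ← hc _ h.mem2, rho_mul, hw.2, map_neg]⟩
  let U : Submodule (ZMod 3) E :=
    { carrier := {v | v ∈ F ∧ ρ x v = a • v}
      add_mem' := fun {u v} hu hv => ⟨add_mem hu.1 hv.1, by rw [map_add, hu.2, hv.2, smul_add]⟩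
      zero_mem' := ⟨zero_mem _, by simp⟩
      smul_mem' := fun c v hv => ⟨F.smul_mem c hv.1, by rw [map_smul, hv.2, smul_comm]⟩ }
  have hU : U = F := by
    refine (h.irred U (fun v hv => hv.1) (fun r hr v hv => ⟨h.invR r hr v hv.1, ?_⟩)
      (fun v hv => ⟨h.invb v hv.1, ?_⟩)).resolve_left fun e => hw0 ?_
    · rw [← rho_mul, hc r hr, rho_mul, hv.2, map_smul]
    · rw [← rho_mul, hxb, rho_mul, hv.2, map_smul]
    · have : w ∈ U := ⟨h.line_mem h.mem1 h.mem2 hw, ha⟩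
      rwa [e, Submodule.mem_bot] at this
  have hall : ∀ v ∈ F, ρ x v = a • v := fun v hv => by rw [← hU] at hv; exact hv.2
  rcases zmod3_cases a with rfl | rfl | rfl
  · rw [zero_smul] at ha
    exact absurd (by rw [← rho_inv_apply ρ x w, ha, map_zero]) hw0
  · exact Or.inl (h.eq_one_on hx fun v hv => by rw [hall v hv, one_smul])
  · exact Or.inr fun v hv => by rw [hall v hv, neg_one_smul]

end Setting

end CfsgLib.CubicBlock
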