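import Cfsg.Agent.Lib.CubicBlock.FixedElt
import Cfsg.Agent.Lib.Transfer.Critical
import Cfsg.Prelude.Def_Transfer

/-!
`R` is the four group or extraspecial of order `32`.
-/

set_option autoImplicit false
set_option linter.unusedSectionVars false

open scoped commutatorElement

namespace CfsgLib.CubicBlock

open Cfsg

/-- A two-element of `Sym(3)` normalized with a three-cycle is trivial. -/
theorem perm_three : ∀ h : Equiv.Perm (Fin 3), h ≠ 1 →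
    h ^ 3 = 1 ∨ ((h * (finRotate 3 * h * (finRotate 3)⁻¹)) ^ 3 = 1 ∧ h * (finRotate 3 * h * (finRotate 3)⁻¹) ≠ 1) := by
  decide +kernel

variable {S E : Type*} [Group S] [Finite S] [AddCommGroup E] [Module (ZMod 3) E] [Finite E]
  {ρ : Representation (ZMod 3) S E} {b q₁ q₂ : S} {R : Subgroup S} {F : Submodule (ZMod 3) E}

namespace Setting

variable [Group.IsSolvable S]

/-- The elements of `R` commuting with `b`. -/
def fixed (b : S) (R : Subgroup S) : Subgroup S := R ⊓ Subgroup.centralizer {b}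

theorem mem_fixed {c : S} : c ∈ fixed b R ↔ c ∈ R ∧ c * b = b * c := by
  simp only [fixed, Subgroup.mem_inf, Subgroup.mem_centralizer_singleton_iff]

/-- The subgroup `⟨q₁, q₂⟩ × C_R(b)`. -/
def bigA (q₁ q₂ : S) (R : Subgroup S) : Subgroup S := R ⊓ Subgroup.centralizer {q₁, q₂}

theorem mem_bigA {a : S} : a ∈ bigA q₁ q₂ R ↔ a ∈ R ∧ q₁ * a = a * q₁ ∧ q₂ * a = a * q₂ := by
  simp only [bigA, Subgroup.mem_inf, Subgroup.mem_centralizer_iff, Set.mem_insert_iff, Set.mem_singleton_iff,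
    forall_eq_or_imp, forall_eq]

theorem fixed_le_bigA (h : Setting ρ b q₁ q₂ R F) : fixed b R ≤ bigA q₁ q₂ R := fun c hc => by
  rw [mem_fixed] at hc
  obtain ⟨-, hz⟩ := h.fixed_central hc.1 hc.2
  exact mem_bigA.2 ⟨hc.1, (hz _ h.mem1).symm, (hz _ h.mem2).symm⟩

set_option maxHeartbeats 400000 in
theorem bigA_cases (h : Setting ρ b q₁ q₂ R F) {a : S} (ha : a ∈ bigA q₁ q₂ R) :
    ∃ c ∈ fixed b R, a = c ∨ a = c * q₁ ∨ a = c * q₂ ∨ a = c * (q₁ * q₂) := by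
  rw [mem_bigA] at ha
  obtain ⟨haR, ha1, ha2⟩ := ha
  obtain ⟨w, hw0, hw, huniq, hfix, hco⟩ := h.four.coords h.rank h.act_ne
  have hbw := h.four.bw hw
  have hbbw := h.four.bbw hw
  have sgn : ∀ u : E, u ≠ 0 → ∀ l : ZMod 3, ρ a u = l • u → l = 1 ∨ l = -1 := fun u hu l hl => by
    rcases zmod3_cases l with rfl | rfl | rfl
    · rw [zero_smul] at hl
      exact absurd (by rw [← rho_inv_apply ρ a u, hl, map_zero]) hu
    · exact Or.inl rfl
    · exact Or.inr rfl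
  have hb1 : ρ b w ≠ 0 := fun e => hw0 (by rw [← rho_inv_apply ρ b w, e, map_zero])
  have hb2 : ρ b (ρ b w) ≠ 0 := fun e => hb1 (by rw [← rho_inv_apply ρ b (ρ b w), e, map_zero])
  have c1 : ∀ v, ρ q₁ (ρ a v) = ρ a (ρ q₁ v) := fun v => by rw [← rho_mul, ha1, rho_mul]
  have c2 : ∀ v, ρ q₂ (ρ a v) = ρ a (ρ q₂ v) := fun v => by rw [← rho_mul, ha2, rho_mul]
  have hl1 : FourData.IsLineVec ρ q₁ q₂ (ρ a w) := ⟨by rw [c1, hw.1], by rw [c2, hw.2, map_neg]⟩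
  have hl2 : FourData.IsLineVec ρ q₁ q₂ (ρ b (ρ b (ρ a (ρ b w)))) := by
    have k1 : ρ q₁ (ρ a (ρ b w)) = -ρ a (ρ b w) := by rw [c1, hbw.1, map_neg]
    have k2 : ρ q₂ (ρ a (ρ b w)) = ρ a (ρ b w) := by rw [c2, hbw.2]
    constructor
    · rw [h.four.q1_b', h.four.q2_b, k1, map_neg, map_neg, h.four.q1_b', k2, k1]; simp
    · rw [h.four.q2_b, h.four.q1_b', k2, k1, map_neg, map_neg]
  have hl3 : FourData.IsLineVec ρ q₁ q₂ (ρ b (ρ a (ρ b (ρ b w)))) := by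
    have k1 : ρ q₁ (ρ a (ρ b (ρ b w))) = -ρ a (ρ b (ρ b w)) := by rw [c1, hbbw.1, map_neg]
    have k2 : ρ q₂ (ρ a (ρ b (ρ b w))) = -ρ a (ρ b (ρ b w)) := by rw [c2, hbbw.2, map_neg]
    constructor
    · rw [h.four.q1_b', k2, map_neg, k1, neg_neg]
    · rw [h.four.q2_b, k1, map_neg]
  obtain ⟨e1, he1⟩ := huniq _ hl1
  obtain ⟨e2, he2⟩ := huniq _ hl2
  obtain ⟨e3, he3⟩ := huniq _ hl3
  have he2' : ρ a (ρ b w) = e2 • ρ b w := by rw [← map_smul, ← he2, h.four.b3]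
  have he3' : ρ a (ρ b (ρ b w)) = e3 • ρ b (ρ b w) := by rw [← map_smul, ← map_smul, ← he3, h.four.b3]
  -- an element of `⟨q₁,q₂⟩` with the same signs up to a scalar
  have key : ∀ j : S, j ∈ R → (∀ c, FourData.IsFix ρ q₁ q₂ c → ρ j c = c) → ∀ l f1 f2 f3 : ZMod 3,
      ρ j w = f1 • w → ρ j (ρ b w) = f2 • ρ b w → ρ j (ρ b (ρ b w)) = f3 • ρ b (ρ b w) →
      e1 * f1 = l → e2 * f2 = l → e3 * f3 = l → j * a ∈ fixed b R := by
    intro j hj hjc l f1 f2 f3 k1 k2 k3 l1 l2 l3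
    refine mem_fixed.2 ⟨mul_mem hj haR, h.commute_on (mul_mem hj haR) fun v _ => ?_⟩
    obtain ⟨c, hc, a₁, a₂, a₃, rfl⟩ := hco v
    have hac : FourData.IsFix ρ q₁ q₂ (ρ a c) := ⟨by rw [c1, hc.1], by rw [c2, hc.2]⟩
    simp only [map_add, map_smul, hfix c hc, rho_mul, hjc _ hac, hfix _ hac, h.four.b3, he1, he2', he3', k1, k2, k3,
      smul_smul, l1, l2, l3]
  have hq3 : ∀ v, ρ (q₁ * q₂) v = ρ q₁ (ρ q₂ v) := fun v => rho_mul ρ _ _ v
  have k0 := key 1 (one_mem _) (fun c _ => by simp) e1 1 1 1 (by simp) (by simp) (by simp)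
  have k1 := key q₁ h.mem1 (fun c hc => hc.1) e1 1 (-1) (-1) (by rw [one_smul, hw.1])
    (by rw [neg_one_smul, hbw.1]) (by rw [neg_one_smul, hbbw.1])
  have k2 := key q₂ h.mem2 (fun c hc => hc.2) e2 (-1) 1 (-1) (by rw [neg_one_smul, hw.2])
    (by rw [one_smul, hbw.2]) (by rw [neg_one_smul, hbbw.2])
  have k3 := key (q₁ * q₂) (mul_mem h.mem1 h.mem2) (fun c hc => by rw [hq3, hc.2, hc.1]) e3 (-1) (-1) 1
    (by rw [neg_one_smul, hq3, hw.2, map_neg, hw.1]) (by rw [neg_one_smul, hq3, hbw.2, hbw.1])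
    (by rw [one_smul, hq3, hbbw.2, map_neg, hbbw.1, neg_neg])
  have hq1i : q₁⁻¹ = q₁ := inv_eq_of_mul_eq_one_right h.four.sq₁
  have hback : ∀ j : S, j ∈ R → j * a ∈ fixed b R → a = (j * a) * j⁻¹ := fun j hj hja => by
    obtain ⟨hjaR, hjab⟩ := mem_fixed.1 hja
    rw [(h.fixed_central hjaR hjab).2 j⁻¹ (inv_mem hj)]; group
  rcases sgn w hw0 e1 (by exact he1) with rfl | rfl <;> rcases sgn _ hb1 e2 he2' with rfl | rfl <;>
    rcases sgn _ hb2 e3 he3' with rfl | rfl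
  all_goals first
    | exact ⟨_, k0 (by decide) (by decide) (by decide), Or.inl (one_mul a).symm⟩
    | exact ⟨_, k1 (by decide) (by decide) (by decide), Or.inr (Or.inl (by
        conv_lhs => rw [hback q₁ h.mem1 (k1 (by decide) (by decide) (by decide))]
        rw [hq1i]))⟩
    | exact ⟨_, k2 (by decide) (by decide) (by decide), Or.inr (Or.inr (Or.inl (by
        conv_lhs => rw [hback q₂ h.mem2 (k2 (by decide) (by decide) (by decide))]
        rw [inv_eq_of_mul_eq_one_right h.four.sq₂])))⟩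
    | exact ⟨_, k3 (by decide) (by decide) (by decide), Or.inr (Or.inr (Or.inr (by
        conv_lhs => rw [hback _ (mul_mem h.mem1 h.mem2) (k3 (by decide) (by decide) (by decide))]
        rw [mul_inv_rev, hq1i, inv_eq_of_mul_eq_one_right h.four.sq₂, ← h.four.comm])))⟩

theorem q_mem_bigA (h : Setting ρ b q₁ q₂ R F) :
    q₁ ∈ bigA q₁ q₂ R ∧ q₂ ∈ bigA q₁ q₂ R ∧ q₁ * q₂ ∈ bigA q₁ q₂ R := by
  have h1 : q₁ ∈ bigA q₁ q₂ R := mem_bigA.2 ⟨h.mem1, rfl, h.four.comm.symm⟩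
  have h2 : q₂ ∈ bigA q₁ q₂ R := mem_bigA.2 ⟨h.mem2, h.four.comm, rfl⟩
  exact ⟨h1, h2, mul_mem h1 h2⟩

/-- The three nontrivial classes are different. -/
theorem q_notMem (h : Setting ρ b q₁ q₂ R F) : q₁ ∉ fixed b R ∧ q₂ ∉ fixed b R ∧ q₁ * q₂ ∉ fixed b R := by
  have h12 : q₁ ≠ q₂ := fun e => h.ne1 (by
    have h2 := h.four.conj₂
    rw [← e, h.four.sq₁, conj_eq_one_iff] at h2
    exact h2)
  have hf : ∀ x, x ∈ fixed b R → b * x * b⁻¹ = x := fun x hx => by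
    rw [← (mem_fixed.1 hx).2, mul_inv_cancel_right]
  refine ⟨fun hq => h12 ?_, fun hq => h12 ?_, fun hq => ?_⟩
  · rw [← h.four.conj₁, hf _ hq]
  · have h2 := h.four.conj₂
    rw [hf _ hq, right_eq_mul] at h2
    exact absurd h2 h.ne1
  · have h3 : b * (q₁ * q₂) * b⁻¹ = q₁ := by
      calc b * (q₁ * q₂) * b⁻¹ = b * q₁ * b⁻¹ * (b * q₂ * b⁻¹) := by group
        _ = q₂ * (q₁ * q₂) := by rw [h.four.conj₁, h.four.conj₂]
        _ = q₁ * (q₂ * q₂) := by rw [← mul_assoc, ← h.four.comm, mul_assoc]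
        _ = q₁ := by rw [h.four.sq₂, mul_one]
    rw [hf _ hq, mul_eq_left] at h3
    refine h.ne1 ?_
    have := h.four.conj₁
    rw [h3] at this
    exact (conj_eq_one_iff).1 this

/-- `R` normalizing `A` centralizes it modulo `C_R(b)`. -/
theorem norm_fixes (h : Setting ρ b q₁ q₂ R F) {n : S} (hn : n ∈ R)
    (hnA : n ∈ Subgroup.normalizer (bigA q₁ q₂ R : Set S)) :
    ⁅n, q₁⁆ ∈ fixed b R ∧ ⁅n, q₂⁆ ∈ fixed b R := by
  classical
  obtain ⟨hq1, hq2, hq3⟩ := h.q_mem_bigA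
  obtain ⟨n1, n2, n3⟩ := h.q_notMem
  let Q : Fin 3 → S := ![q₁, q₂, q₁ * q₂]
  have hQrot : ∀ i, b * Q i * b⁻¹ = Q (finRotate 3 i) := by
    intro i
    fin_cases i
    · exact h.four.conj₁
    · exact h.four.conj₂
    · show b * (q₁ * q₂) * b⁻¹ = q₁
      calc b * (q₁ * q₂) * b⁻¹ = b * q₁ * b⁻¹ * (b * q₂ * b⁻¹) := by group
        _ = q₂ * (q₁ * q₂) := by rw [h.four.conj₁, h.four.conj₂]
        _ = q₁ * (q₂ * q₂) := by rw [← mul_assoc, ← h.four.comm, mul_assoc]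
        _ = q₁ := by rw [h.four.sq₂, mul_one]
  have hQA : ∀ i, Q i ∈ bigA q₁ q₂ R := fun i => by fin_cases i; exacts [hq1, hq2, hq3]
  have hQC : ∀ i, Q i ∉ fixed b R := fun i => by fin_cases i; exacts [n1, n2, n3]
  have hQQ : ∀ i j, i ≠ j → ∃ k, Q i * (Q j)⁻¹ = Q k := by
    have hq1i : q₁⁻¹ = q₁ := inv_eq_of_mul_eq_one_right h.four.sq₁
    have hq2i : q₂⁻¹ = q₂ := inv_eq_of_mul_eq_one_right h.four.sq₂
    have a1 : q₁ * (q₁ * q₂) = q₂ := by rw [← mul_assoc, h.four.sq₁, one_mul]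
    have a2 : q₂ * (q₁ * q₂) = q₁ := by rw [← mul_assoc, ← h.four.comm, mul_assoc, h.four.sq₂, mul_one]
    have a3 : q₁ * q₂ * q₁ = q₂ := by rw [mul_assoc, ← h.four.comm, a1]
    have a4 : q₁ * q₂ * q₂ = q₁ := by rw [mul_assoc, h.four.sq₂, mul_one]
    intro i j hij
    fin_cases i <;> fin_cases j <;> first | exact absurd rfl hij | skip
    all_goals simp only [Q, Matrix.cons_val_zero, Matrix.cons_val_one, Matrix.cons_val, Fin.zero_eta, Fin.mk_one,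
      Fin.reduceFinMk, hq1i, hq2i, mul_inv_rev, ← h.four.comm]
    · exact ⟨2, rfl⟩
    · exact ⟨1, a1⟩
    · exact ⟨2, rfl⟩
    · exact ⟨0, a2⟩
    · exact ⟨1, a3⟩
    · exact ⟨0, a4⟩
  let N := R ⊓ Subgroup.normalizer (bigA q₁ q₂ R : Set S)
  have hex : ∀ (g : N) (i : Fin 3), ∃ j, (g : S) * Q i * (g : S)⁻¹ * (Q j)⁻¹ ∈ fixed b R := by
    intro g i
    have hgA : (g : S) * Q i * (g : S)⁻¹ ∈ bigA q₁ q₂ R :=
      (Subgroup.mem_normalizer_iff.1 g.2.2 (Q i)).1 (hQA i)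
    obtain ⟨c, hc, hcase⟩ := h.bigA_cases hgA
    rcases hcase with e | e | e | e
    · exfalso
      refine hQC i ?_
      obtain ⟨hcR, hcb⟩ := mem_fixed.1 hc
      have : Q i = c := by
        calc Q i = (g : S)⁻¹ * ((g : S) * Q i * (g : S)⁻¹) * (g : S) := by group
          _ = c * ((g : S)⁻¹ * g) := by rw [e, ← (h.fixed_central hcR hcb).2 _ (inv_mem g.2.1)]; group
          _ = c := by group
      rw [this]; exact hc
    · exact ⟨0, by rw [e]; show c * q₁ * q₁⁻¹ ∈ _; rwa [mul_inv_cancel_right]⟩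
    · exact ⟨1, by rw [e]; show c * q₂ * q₂⁻¹ ∈ _; rwa [mul_inv_cancel_right]⟩
    · exact ⟨2, by rw [e]; show c * (q₁ * q₂) * (q₁ * q₂)⁻¹ ∈ _; rwa [mul_inv_cancel_right]⟩
  choose f hf using hex
  have huniq : ∀ (g : N) (i j : Fin 3), (g : S) * Q i * (g : S)⁻¹ * (Q j)⁻¹ ∈ fixed b R → f g i = j := by
    intro g i j hj
    by_contra hne
    obtain ⟨k, hk⟩ := hQQ _ _ hne
    refine hQC k ?_
    rw [← hk]
    have := mul_mem (inv_mem (hf g i)) hj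
    rwa [show ((g : S) * Q i * (g : S)⁻¹ * (Q (f g i))⁻¹)⁻¹ * ((g : S) * Q i * (g : S)⁻¹ * (Q j)⁻¹)
      = Q (f g i) * (Q j)⁻¹ by group] at this
  have hmul : ∀ (g k : N) (i : Fin 3), f (g * k) i = f g (f k i) := by
    intro g k i
    refine huniq _ _ _ ?_
    have h1 := hf k i
    obtain ⟨hR1, hb1⟩ := mem_fixed.1 h1
    have hcen := (h.fixed_central hR1 hb1).2 _ g.2.1
    set d := (k : S) * Q i * (k : S)⁻¹ * (Q (f k i))⁻¹ with hd
    have : ((g * k : N) : S) * Q i * ((g * k : N) : S)⁻¹ * (Q (f g (f k i)))⁻¹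
        = d * ((g : S) * Q (f k i) * (g : S)⁻¹ * (Q (f g (f k i)))⁻¹) := by
      rw [Subgroup.coe_mul, ← mul_assoc d, ← mul_assoc d, ← mul_assoc d, hcen, hd]; group
    rw [this]
    exact mul_mem h1 (hf g _)
  have hone : ∀ i, f 1 i = i := fun i => huniq _ _ _ (by simp [(fixed b R).one_mem])
  let φ : N →* Equiv.Perm (Fin 3) :=
    { toFun := fun g => ⟨f g, f g⁻¹, fun i => by rw [← hmul, inv_mul_cancel, hone],
        fun i => by rw [← hmul, mul_inv_cancel, hone]⟩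
      map_one' := Equiv.ext hone
      map_mul' := fun g k => Equiv.ext (hmul g k) }
  have htwo : ∀ g : N, (φ g) ^ 3 = 1 → φ g = 1 := by
    intro g hg
    obtain ⟨k, hk⟩ := h.isPGroup_two ⟨g, g.2.1⟩
    have hk' : g ^ 2 ^ k = 1 := Subtype.ext (congrArg Subtype.val hk :)
    have hk2 : (φ g) ^ 2 ^ k = 1 := by rw [← map_pow, hk', map_one]
    exact orderOf_eq_one_iff.1 (Nat.eq_one_of_dvd_coprimes (Nat.Coprime.pow_right k (by norm_num : Nat.Coprime 3 2))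
      (orderOf_dvd_of_pow_eq_one hg) (orderOf_dvd_of_pow_eq_one hk2))
  have hbA : ∀ a, a ∈ bigA q₁ q₂ R → b * a * b⁻¹ ∈ bigA q₁ q₂ R := fun a ha => by
    obtain ⟨c, hc, hcase⟩ := h.bigA_cases ha
    have hcA := h.fixed_le_bigA hc
    obtain ⟨hcR, hcb⟩ := mem_fixed.1 hc
    have hbc : b * c * b⁻¹ = c := by rw [← hcb, mul_inv_cancel_right]
    rcases hcase with e | e | e | e
    · rwa [e, hbc]
    · rw [e, show b * (c * q₁) * b⁻¹ = b * c * b⁻¹ * (b * q₁ * b⁻¹) by group, hbc]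
      exact mul_mem hcA (hQrot 0 ▸ hQA _)
    · rw [e, show b * (c * q₂) * b⁻¹ = b * c * b⁻¹ * (b * q₂ * b⁻¹) by group, hbc]
      exact mul_mem hcA (hQrot 1 ▸ hQA _)
    · rw [e, show b * (c * (q₁ * q₂)) * b⁻¹ = b * c * b⁻¹ * (b * (q₁ * q₂) * b⁻¹) by group, hbc]
      exact mul_mem hcA (hQrot 2 ▸ hQA _)
  have hbN : b * n * b⁻¹ ∈ N := by
    refine ⟨h.norm n hn, ?_⟩
    have hb2 : b⁻¹ = b * b := inv_eq_of_mul_eq_one_left (by rw [← h.four.cube, pow_succ, pow_two])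
    have hbn : b ∈ Subgroup.normalizer (bigA q₁ q₂ R : Set S) := by
      rw [Subgroup.mem_normalizer_iff]
      refine fun a => ⟨hbA a, fun ha => ?_⟩
      have := hbA _ (hbA _ ha)
      rwa [show b * (b * (b * a * b⁻¹) * b⁻¹) * b⁻¹ = (b * b * b) * a * (b * b * b)⁻¹ by group,
        show b * b * b = 1 by rw [← h.four.cube, pow_succ, pow_two], one_mul, inv_one, mul_one] at this
    exact Subgroup.mul_mem _ (Subgroup.mul_mem _ hbn hnA) (Subgroup.inv_mem _ hbn)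
  obtain ⟨g, hg⟩ : ∃ g : N, (g : S) = n := ⟨⟨n, hn, hnA⟩, rfl⟩
  have hconj : φ ⟨_, hbN⟩ = finRotate 3 * φ g * (finRotate 3)⁻¹ := by
    refine Equiv.ext fun i => ?_
    obtain ⟨j, rfl⟩ : ∃ j, i = finRotate 3 j := ⟨(finRotate 3).symm i, by simp⟩
    rw [Equiv.Perm.mul_apply, Equiv.Perm.mul_apply, Equiv.Perm.inv_def, Equiv.symm_apply_apply]
    refine huniq ⟨_, hbN⟩ _ _ ?_
    have h1 := hf g j
    obtain ⟨hR1, hb1⟩ := mem_fixed.1 h1
    show b * n * b⁻¹ * Q (finRotate 3 j) * (b * n * b⁻¹)⁻¹ * (Q (finRotate 3 (f g j)))⁻¹ ∈ _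
    rw [← hQrot, ← hQrot, ← hg, show b * (g : S) * b⁻¹ * (b * Q j * b⁻¹) * (b * (g : S) * b⁻¹)⁻¹ * (b * Q (f g j) * b⁻¹)⁻¹
      = b * ((g : S) * Q j * (g : S)⁻¹ * (Q (f g j))⁻¹) * b⁻¹ by group, ← hb1, mul_inv_cancel_right]
    exact h1
  have hφ : φ g = 1 := by
    by_contra hne
    rcases perm_three (φ g) hne with h3 | ⟨h3, h1⟩
    · exact hne (htwo g h3)
    · rw [← hconj, ← map_mul] at h3 h1
      exact h1 (htwo _ h3)
  have hfin : ∀ i, n * Q i * n⁻¹ * (Q i)⁻¹ ∈ fixed b R := fun i => by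
    have := hf g i
    rwa [show f g i = i from DFunLike.congr_fun hφ i, hg] at this
  exact ⟨hfin 0, hfin 1⟩

end Setting

end CfsgLib.CubicBlock
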