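import Cfsg.Agent.Lib.CubicBlock.Fit

/-!
Parity: the negated space of an involution in `R` does not have odd dimension.
-/

set_option autoImplicit false
set_option linter.unusedSectionVars false

namespace CfsgLib.CubicBlock

variable {S E : Type*} [Group S] [Finite S] [AddCommGroup E] [Module (ZMod 3) E] [Finite E]
  {ρ : Representation (ZMod 3) S E} {b q₁ q₂ : S} {R : Subgroup S} {F : Submodule (ZMod 3) E}

/-- The underlying permutation. -/
def permHom (ρ : Representation (ZMod 3) S E) : S →* Equiv.Perm E where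
  toFun x := ⟨fun v => ρ x v, fun v => ρ x⁻¹ v, fun v => rho_inv_apply ρ x v, fun v => rho_apply_inv ρ x v⟩
  map_one' := Equiv.ext fun v => by simp
  map_mul' x y := Equiv.ext fun v => rho_mul ρ x y v

/-- The fixed vectors. -/
def fixSpace (ρ : Representation (ZMod 3) S E) (x : S) : Submodule (ZMod 3) E where
  carrier := {v | ρ x v = v}
  add_mem' := fun {u v} (hu : ρ x u = u) (hv : ρ x v = v) => show ρ x (u + v) = u + v by rw [map_add, hu, hv]
  zero_mem' := map_zero _
  smul_mem' := fun c v (hv : ρ x v = v) => show ρ x (c • v) = c • v by rw [map_smul, hv]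

/-- The negated vectors. -/
def negSpace (ρ : Representation (ZMod 3) S E) (x : S) : Submodule (ZMod 3) E where
  carrier := {v | ρ x v = -v}
  add_mem' := fun {u v} (hu : ρ x u = -u) (hv : ρ x v = -v) => show ρ x (u + v) = -(u + v) by
    rw [map_add, hu, hv]; abel
  zero_mem' := show ρ x 0 = -(0 : E) by rw [map_zero, neg_zero]
  smul_mem' := fun c v (hv : ρ x v = -v) => show ρ x (c • v) = -(c • v) by rw [map_smul, hv, smul_neg]

theorem mem_fixSpace {x : S} {v : E} : v ∈ fixSpace ρ x ↔ ρ x v = v := Iff.rfl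

theorem mem_negSpace {x : S} {v : E} : v ∈ negSpace ρ x ↔ ρ x v = -v := Iff.rfl

/-- `(u,v) ↦ u + v` identifies the two eigenspaces of an involution with the space. -/
theorem eigen_bijective {x : S} (hx : x * x = 1) (W : Submodule (ZMod 3) E) (hW : ∀ v ∈ W, ρ x v ∈ W) :
    Function.Bijective fun p : ↥(W ⊓ fixSpace ρ x) × ↥(W ⊓ negSpace ρ x) =>
      (⟨p.1.1 + p.2.1, add_mem p.1.2.1 p.2.2.1⟩ : W) := by
  constructor
  · rintro ⟨⟨u, hu⟩, ⟨v, hv⟩⟩ ⟨⟨u', hu'⟩, ⟨v', hv'⟩⟩ he
    have he' : u + v = u' + v' := congrArg Subtype.val he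
    have h1 := congrArg (ρ x) he'
    rw [map_add, map_add, mem_fixSpace.1 hu.2, mem_negSpace.1 hv.2, mem_fixSpace.1 hu'.2,
      mem_negSpace.1 hv'.2] at h1
    have h2 : u - u' = 0 := eq_zero_of_eq_neg (by
      calc u - u' = (u + -v) - (u' + -v') + (v - v') := by abel
        _ = v - v' := by rw [h1]; abel
        _ = (u + v) - (u' + v') - (u - u') := by abel
        _ = _ := by rw [he']; abel)
    rw [sub_eq_zero] at h2
    subst h2
    rw [add_right_inj] at he'
    subst he'
    rfl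
  · rintro ⟨v, hv⟩
    have hxx : ρ x (ρ x v) = v := by rw [← rho_mul, hx, map_one, Module.End.one_apply]
    refine ⟨⟨⟨-(v + ρ x v), neg_mem (add_mem hv (hW v hv)), ?_⟩,
      ⟨-(v - ρ x v), neg_mem (sub_mem hv (hW v hv)), ?_⟩⟩, Subtype.ext ?_⟩
    · show ρ x _ = _
      rw [map_neg, map_add, hxx]; abel
    · show ρ x _ = _
      rw [map_neg, map_sub, hxx]; abel
    · show -(v + ρ x v) + -(v - ρ x v) = v
      have h3 := three_eq_zero v
      calc -(v + ρ x v) + -(v - ρ x v) = v - (v + v + v) := by abel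
        _ = v := by rw [h3, sub_zero]

theorem card_eigen {x : S} (hx : x * x = 1) (W : Submodule (ZMod 3) E) (hW : ∀ v ∈ W, ρ x v ∈ W) :
    Nat.card ↥(W ⊓ fixSpace ρ x) * Nat.card ↥(W ⊓ negSpace ρ x) = Nat.card W := by
  rw [← Nat.card_prod]
  exact Nat.card_eq_of_bijective _ (eigen_bijective hx W hW)

theorem card_pow (W : Submodule (ZMod 3) E) : ∃ k, Nat.card W = 3 ^ k := by
  have := Fintype.ofFinite W
  refine ⟨Module.finrank (ZMod 3) W, ?_⟩
  rw [Nat.card_eq_fintype_card, Module.card_eq_pow_finrank (K := ZMod 3), ZMod.card]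

namespace Setting

theorem sign_eq_one [Fintype E] [DecidableEq E] (h : Setting ρ b q₁ q₂ R F) {r : S} (hr : r ∈ R) :
    Equiv.Perm.sign (permHom ρ r) = 1 := by
  refine h.gen (MonoidHom.ker (Equiv.Perm.sign.comp (permHom ρ))) (fun s _ => ?_) hr
  rw [MonoidHom.mem_ker, map_mul, map_mul, map_mul, map_inv, map_inv, mul_right_comm (_ : ℤˣ), mul_inv_cancel_right,
    mul_inv_cancel]

theorem neg_le (h : Setting ρ b q₁ q₂ R F) {x : S} (hx : x ∈ R) : negSpace ρ x ≤ F := by
  intro v hv
  obtain ⟨u, hu, f, hf, rfl⟩ := h.split v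
  have h2 := mem_negSpace.1 hv
  rw [map_add, hf x hx] at h2
  have hf2 : f + f ∈ F := by
    have : f + f = -(u + ρ x u) := by
      have e : ρ x u + f + (u + f) = 0 := by rw [h2]; abel
      rw [eq_neg_iff_add_eq_zero, ← e]; abel
    rw [this]; exact neg_mem (add_mem hu (h.invR _ hx u hu))
  have : f ∈ F := by
    rw [show f = -(f + f) by rw [eq_neg_iff_add_eq_zero, ← add_assoc, three_eq_zero f]]
    exact neg_mem hf2
  exact add_mem hu this

/-- Parity. -/
theorem card_neg_ne (h : Setting ρ b q₁ q₂ R F) {x : S} (hxR : x ∈ R) (hx : x * x = 1) :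
    Nat.card ↥(F ⊓ negSpace ρ x) ≠ 3 ∧ Nat.card ↥(F ⊓ negSpace ρ x) ≠ 27 := by
  classical
  have := Fintype.ofFinite E
  rw [inf_eq_right.2 (h.neg_le hxR)]
  have hs := h.sign_eq_one hxR
  set σ := permHom ρ x with hσ
  have hσ2 : σ ^ 2 = 1 := by rw [hσ, ← map_pow, pow_two, hx, map_one]
  have hcyc := Equiv.Perm.cycleType_of_pow_prime_eq_one (p := 2) hσ2
  obtain ⟨k, hk⟩ : ∃ k, k = Multiset.card σ.cycleType := ⟨_, rfl⟩
  rw [Equiv.Perm.sign_of_cycleType, hcyc, Multiset.sum_replicate, Multiset.card_replicate, ← hk,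
    smul_eq_mul] at hs
  have hfp := Equiv.Perm.card_fixedPoints σ
  rw [hcyc, Multiset.sum_replicate, ← hk, smul_eq_mul] at hfp
  have hle := Equiv.Perm.sum_cycleType_le σ
  rw [hcyc, Multiset.sum_replicate, ← hk, smul_eq_mul] at hle
  have hfix : Fintype.card (Function.fixedPoints σ) = Nat.card (fixSpace ρ x) := by
    rw [← Nat.card_eq_fintype_card]
    exact Nat.card_congr (Equiv.subtypeEquivRight fun v => Iff.rfl)
  have hn := card_eigen (ρ := ρ) hx ⊤ fun v _ => Submodule.mem_top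
  rw [top_inf_eq, top_inf_eq, Nat.card_congr (Submodule.topEquiv (R := ZMod 3) (M := E)).toEquiv,
    Nat.card_eq_fintype_card (α := E), ← hfix] at hn
  obtain ⟨a, ha⟩ := card_pow (fixSpace ρ x)
  rw [← hfix] at ha
  have hodd : Odd (Fintype.card (Function.fixedPoints σ)) := by rw [ha]; exact Odd.pow (by decide)
  have hkeven : Even k := by
    have h1 : Even (k * 2 + k) := by
      rwa [← neg_one_pow_eq_one_iff_even (R := ℤˣ) (by decide)]
    obtain ⟨j, hj⟩ := h1
    exact ⟨j - k, by omega⟩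
  obtain ⟨j, hj⟩ := hkeven
  obtain ⟨i, hi⟩ := hodd
  constructor <;> intro hm <;> rw [hm] at hn <;> omega

end Setting

end CfsgLib.CubicBlock
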